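import Mathlib
import Cfsg.Agent.Lib.Maximal.HermTv
import Cfsg.Agent.Lib.Maximal.MonoBasic
import Cfsg.Agent.Lib.Maximal.MonoFinal

/-!
Coordinates, phases, counting on the norm-one circle, and monomial unitary elements.
-/

set_option autoImplicit false
set_option linter.unusedSectionVars false

open scoped Classical

namespace CfsgLib.UnMono

open scoped Matrix
open CfsgLib.Maximal

variable {n q : ℕ} {F : Type*} [Field F] [Fintype F]

/-- The standard setting: `F` has `q²` elements and `τ` is the involution of the Hermitian form. -/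
structure Ctx (n q : ℕ) {F : Type*} [Field F] [Fintype F] (τ : F ≃+* F) : Prop where
  card : Fintype.card F = q ^ 2
  pow : ∀ x, τ x = x ^ q
  form : Cfsg.Geo.IsUnitaryForm τ (Cfsg.hermForm n F q)

lemma exists_ctx (hF : Fintype.card F = q ^ 2) (n : ℕ) : ∃ τ : F ≃+* F, Ctx n q τ := by
  obtain ⟨τ, h1, h2⟩ := exists_hermSigma hF n
  exact ⟨τ, hF, h1, h2⟩

variable {τ : F ≃+* F}

local notation "hh" => Cfsg.hermForm n F q
local notation "MM" => Matrix (Fin n) (Fin n) F

namespace Ctx

variable (K : Ctx n q τ)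
include K

lemma invol (x : F) : τ (τ x) = x := K.form.involutive x

lemma two_le_q : 2 ≤ q := by
  have h1 := Fintype.one_lt_card (α := F)
  rw [K.card] at h1
  by_contra h
  interval_cases q <;> simp at h1

lemma hh_eq (x y : Fin n → F) : hh x y = ∑ i, x i * τ (y i) := by
  simp only [Cfsg.hermForm, K.pow]

lemma hh_self (x : Fin n → F) : hh x x = ∑ i, x i * τ (x i) := K.hh_eq x x

lemma hh_single_left (i : Fin n) (c : F) (y : Fin n → F) : hh (Pi.single i c) y = c * τ (y i) := by
  rw [K.hh_eq, Finset.sum_eq_single i (fun j _ hj => by simp [hj]) (by simp), Pi.single_eq_same]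

lemma hh_single_right (i : Fin n) (c : F) (x : Fin n → F) : hh x (Pi.single i c) = x i * τ c := by
  rw [K.hh_eq, Finset.sum_eq_single i (fun j _ hj => by simp [hj]) (by simp), Pi.single_eq_same]

lemma fix_mul_tau (x : F) : τ (x * τ x) = x * τ x := by rw [map_mul, K.invol, mul_comm]

lemma fix_add_tau (x : F) : τ (x + τ x) = x + τ x := by rw [map_add, K.invol, add_comm]

lemma ne_of_nm {x : F} (hx : x * τ x = 1) : x ≠ 0 := left_ne_zero_of_mul_eq_one hx

lemma inv_of_nm {x : F} (hx : x * τ x = 1) : x⁻¹ = τ x := inv_eq_of_mul_eq_one_right hx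

lemma nm_tau {x : F} (hx : x * τ x = 1) : τ x * τ (τ x) = 1 := by rw [K.invol, mul_comm, hx]

lemma nm_mul {x y : F} (hx : x * τ x = 1) (hy : y * τ y = 1) : (x * y) * τ (x * y) = 1 := by
  rw [map_mul, mul_mul_mul_comm, hx, hy, mul_one]

lemma nm_neg_one : (-1 : F) * τ (-1) = 1 := by rw [map_neg, map_one]; ring

/-- `q + 1` vanishes only up to one: `(q : F) = 0`. -/
lemma cast_q : (q : F) = 0 := by
  have h := Nat.cast_card_eq_zero F
  rw [K.card, Nat.cast_pow] at h
  exact pow_eq_zero_iff two_ne_zero |>.1 h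

lemma pow_succ_of_nm {x : F} (hx : x * τ x = 1) : x ^ (q + 1) = 1 := by
  rw [pow_succ', ← K.pow, hx]

/-- A fixed element is a norm. -/
lemma exists_nm {c : F} (hc : τ c = c) : ∃ a : F, a * τ a = c := by
  have hσ : (τ : F →+* F) ≠ RingHom.id F :=
    fun h => K.form.ne_refl (RingEquiv.ext fun a => RingHom.congr_fun h a)
  exact CfsgLib.Geometry.exists_norm_eq (σ := (τ : F →+* F)) hσ K.invol hc

end Ctx

section sets

/-- The norm-one circle. -/
noncomputable def mu (τ : F ≃+* F) : Finset F := Finset.univ.filter fun x => x * τ x = 1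

/-- The fixed field. -/
noncomputable def fixF (τ : F ≃+* F) : Finset F := Finset.univ.filter fun x => τ x = x

/-- The elements of trace zero. -/
noncomputable def skewF (τ : F ≃+* F) : Finset F := Finset.univ.filter fun x => τ x = -x

lemma mem_mu {x : F} : x ∈ mu τ ↔ x * τ x = 1 := by classical simp [mu]

lemma mem_fixF {x : F} : x ∈ fixF τ ↔ τ x = x := by classical simp [fixF]

lemma mem_skewF {x : F} : x ∈ skewF τ ↔ τ x = -x := by classical simp [skewF]

/-- The traces of norm-one elements. -/
noncomputable def trs (τ : F ≃+* F) : Finset F := (mu τ).image fun z => z + τ z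

variable (K : Ctx n q τ)
include K

lemma card_fixF_le : (fixF τ).card ≤ q := by
  classical
  have hq := K.two_le_q
  let P : Polynomial F := Polynomial.X ^ q - Polynomial.X
  have hP : P ≠ 0 := FiniteField.X_pow_card_sub_X_ne_zero F (by omega)
  have hd : P.natDegree = q := FiniteField.X_pow_card_sub_X_natDegree_eq F (by omega)
  refine le_trans ?_ (hd ▸ Polynomial.card_le_degree_of_subset_roots (Z := fixF τ) (p := P) ?_)
  · exact le_rfl
  intro x hx
  have hx' : τ x = x := mem_fixF.1 hx
  rw [K.pow] at hx'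
  rw [Polynomial.mem_roots hP]
  simp [P, hx']

lemma card_mu : (mu τ).card = q + 1 := by
  classical
  have hq := K.two_le_q
  have h1 : (mu τ).card = Nat.card ((powMonoidHom (q + 1) : Fˣ →* Fˣ).ker) := by
    have e : (mu τ).card = Nat.card {x : F // x * τ x = 1} := by
      rw [Nat.card_eq_fintype_card, Fintype.card_subtype]; rfl
    rw [e]
    exact Nat.card_congr
      { toFun := fun x => ⟨Units.mk0 x.1 (K.ne_of_nm x.2), Units.ext (by simp [K.pow_succ_of_nm x.2])⟩
        invFun := fun x => ⟨((x.1 : Fˣ) : F), by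
          rw [K.pow, ← pow_succ', ← Units.val_pow_eq_pow_val]
          exact congrArg Units.val (MonoidHom.mem_ker.1 x.2)⟩
        left_inv := fun x => rfl
        right_inv := fun x => Subtype.ext (Units.ext rfl) }
  rw [h1, IsCyclic.card_powMonoidHom_ker, Nat.card_units, Nat.card_eq_fintype_card, K.card]
  exact Nat.gcd_eq_right (Dvd.intro _ (by rw [← Nat.sq_sub_sq, one_pow]))

lemma card_skewF : q ≤ (skewF τ).card := by
  classical
  have hfib : ∀ c ∈ (Finset.univ : Finset F).image (fun x => x + τ x),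
      ((Finset.univ : Finset F).filter fun x => x + τ x = c).card ≤ (skewF τ).card := by
    intro c hc
    obtain ⟨x₀, -, rfl⟩ := Finset.mem_image.1 hc
    refine Finset.card_le_card_of_injOn (fun x => x - x₀) (fun x hx => ?_) (fun a _ b _ h => by simpa using h)
    simp only [Finset.coe_filter, Finset.mem_univ, true_and, Set.mem_setOf_eq] at hx
    rw [Finset.mem_coe, mem_skewF, map_sub]
    linear_combination hx
  have h1 := Finset.card_le_mul_card_image (f := fun x => x + τ x) (Finset.univ : Finset F)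
    (skewF τ).card hfib
  have h2 : ((Finset.univ : Finset F).image fun x => x + τ x).card ≤ q :=
    le_trans (Finset.card_le_card fun c hc => by
      obtain ⟨x, -, rfl⟩ := Finset.mem_image.1 hc
      exact mem_fixF.2 (K.fix_add_tau x)) (card_fixF_le K)
  rw [Finset.card_univ, K.card] at h1
  have hq := K.two_le_q
  nlinarith

/-- Two sets of fixed elements that are together larger than the fixed field meet. -/
lemma exists_common {A B : Finset F} (hA : ∀ x ∈ A, τ x = x) (hB : ∀ x ∈ B, τ x = x)
    (h : q < A.card + B.card) : ∃ x, x ∈ A ∧ x ∈ B := by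
  classical
  by_contra hcon
  push Not at hcon
  have h1 : (A ∪ B).card ≤ q := le_trans (Finset.card_le_card fun x hx => by
    rcases Finset.mem_union.1 hx with hx | hx
    · exact mem_fixF.2 (hA x hx)
    · exact mem_fixF.2 (hB x hx)) (card_fixF_le K)
  rw [Finset.card_union_of_disjoint (Finset.disjoint_left.2 hcon)] at h1
  omega

/-- A trace form takes many values on the circle. -/
lemma card_lin {C : F} (hC : C ≠ 0) :
    q + 1 ≤ 2 * ((mu τ).image fun z => C * z + τ (C * z)).card := by
  have h := Finset.card_le_mul_card_image (f := fun z => C * z + τ (C * z)) (mu τ) 2 (fun c _ => by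
    let P : Polynomial F := Polynomial.C C * Polynomial.X ^ 2 + Polynomial.C (-c) * Polynomial.X
      + Polynomial.C (τ C)
    have hd : P.natDegree = 2 := Polynomial.natDegree_quadratic hC
    refine le_trans ?_ (hd ▸ Polynomial.card_le_degree_of_subset_roots (p := P)
      (Z := (mu τ).filter fun z => C * z + τ (C * z) = c) ?_)
    · exact le_rfl
    intro z hz
    have hP : P ≠ 0 := fun h => by rw [h] at hd; simp at hd
    obtain ⟨hz1, hz2⟩ := Finset.mem_filter.1 hz
    rw [Polynomial.mem_roots hP, Polynomial.IsRoot]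
    simp only [P, Polynomial.eval_add, Polynomial.eval_mul, Polynomial.eval_C, Polynomial.eval_pow,
      Polynomial.eval_X]
    rw [map_mul] at hz2
    linear_combination z * hz2 - τ C * mem_mu.1 hz1)
  rw [card_mu K] at h
  omega

lemma trs_fix : ∀ x ∈ trs τ, τ x = x := by
  classical
  intro x hx
  obtain ⟨z, -, rfl⟩ := Finset.mem_image.1 hx
  exact K.fix_add_tau z

lemma two_mem_trs : (2 : F) ∈ trs τ := by
  classical
  exact Finset.mem_image.2 ⟨1, mem_mu.2 (by rw [map_one, one_mul]), by rw [map_one, one_add_one_eq_two]⟩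

lemma eq_one_of_tr_two {z : F} (hz : z * τ z = 1) (ht : z + τ z = 2) : z = 1 :=
  sub_eq_zero.1 <| pow_eq_zero_iff two_ne_zero |>.1 <| by linear_combination z * ht - hz

lemma card_trs : q + 2 ≤ 2 * (trs τ).card := by
  classical
  let f := fun z : F => z + τ z
  have h1 : ((mu τ).erase 1).card = q := by
    rw [Finset.card_erase_of_mem (mem_mu.2 (by rw [map_one, one_mul])), card_mu K]; rfl
  have h2 : ((mu τ).erase 1).image f ⊆ (trs τ).erase 2 := by
    intro c hc
    obtain ⟨z, hz, rfl⟩ := Finset.mem_image.1 hc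
    obtain ⟨hz1, hz2⟩ := Finset.mem_erase.1 hz
    exact Finset.mem_erase.2 ⟨fun h => hz1 (eq_one_of_tr_two K (mem_mu.1 hz2) h),
      Finset.mem_image.2 ⟨z, hz2, rfl⟩⟩
  have h3 := Finset.card_le_mul_card_image (f := f) ((mu τ).erase 1) 2 (fun c _ => by
    by_contra hcon
    obtain ⟨a, b, d, ha, hb, hd, hab, had, hbd⟩ := Finset.two_lt_card_iff.1 (by omega : 2 <
      (((mu τ).erase 1).filter fun z => f z = c).card)
    simp only [Finset.mem_filter, Finset.mem_erase, mem_mu, f] at ha hb hd
    have e : ∀ z, z * τ z = 1 → z + τ z = c → z * z - c * z + 1 = 0 := fun z h1 h2 => by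
      linear_combination z * h2 - h1
    have ea := e a ha.1.2 ha.2
    have eb := e b hb.1.2 hb.2
    have ed := e d hd.1.2 hd.2
    have s1 : a + b - c = 0 := mul_left_cancel₀ (sub_ne_zero.2 hab) (by linear_combination ea - eb)
    have s2 : a + d - c = 0 := mul_left_cancel₀ (sub_ne_zero.2 had) (by linear_combination ea - ed)
    exact hbd (by linear_combination s1 - s2))
  rw [h1] at h3
  have h4 := Finset.card_le_card h2
  rw [Finset.card_erase_of_mem (two_mem_trs K)] at h4
  have := K.two_le_q
  omega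

/-- A trace value avoiding two given values, for `q ≥ 3`. -/
lemma exists_tr_ne (hq : 3 ≤ q) (a b : F) :
    ∃ z : F, z * τ z = 1 ∧ z + τ z ≠ a ∧ z + τ z ≠ b := by
  classical
  have h := card_trs K
  obtain ⟨c, hc, hc'⟩ := Finset.exists_mem_notMem_of_card_lt_card (s := ({a, b} : Finset F)) (t := trs τ)
    (lt_of_le_of_lt Finset.card_le_two (by omega))
  obtain ⟨z, hz, rfl⟩ := Finset.mem_image.1 hc
  simp only [Finset.mem_insert, Finset.mem_singleton, not_or] at hc'
  exact ⟨z, mem_mu.1 hz, hc'.1, hc'.2⟩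

/-- A norm-one element outside the fixed field. -/
lemma exists_nonfix : ∃ z : F, z * τ z = 1 ∧ τ z ≠ z := by
  classical
  have hq := K.two_le_q
  obtain ⟨z, hz, hz'⟩ := Finset.exists_mem_notMem_of_card_lt_card (s := ({1, -1} : Finset F)) (t := mu τ)
    (lt_of_le_of_lt Finset.card_le_two (by rw [card_mu K]; omega))
  refine ⟨z, mem_mu.1 hz, fun h => hz' ?_⟩
  have e := mem_mu.1 hz
  rw [h] at e
  rcases mul_self_eq_one_iff.1 e with h | h <;> simp [h]

end sets

/-- A vector with the coordinates scaled. -/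
def scal (c : Fin n → F) (v : Fin n → F) : Fin n → F := fun i => c i * v i

/-- The support of a vector. -/
noncomputable def supp (v : Fin n → F) : Finset (Fin n) := Finset.univ.filter fun i => v i ≠ 0

lemma mem_supp {v : Fin n → F} {i : Fin n} : i ∈ supp v ↔ v i ≠ 0 := by classical simp [supp]

lemma notMem_supp {v : Fin n → F} {i : Fin n} : i ∉ supp v ↔ v i = 0 := by rw [mem_supp, not_not]

section monomial

variable (K : Ctx n q τ)
include K

lemma mono_mem_GU (σ : Equiv.Perm (Fin n)) (d : Fin n → Fˣ) (hd : ∀ i, (d i : F) * τ (d i) = 1) :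
    monoGL σ d ∈ Cfsg.GU n F q := by
  rw [mem_GU_iff]
  intro u v
  rw [K.hh_eq, K.hh_eq, ← Equiv.sum_comp σ]
  refine Finset.sum_congr rfl fun i _ => ?_
  rw [monoGL_val, monoMat_mulVec, monoMat_mulVec, map_mul, mul_mul_mul_comm, hd, one_mul]

lemma nm_of_mono {σ : Equiv.Perm (Fin n)} {d : Fin n → Fˣ} (h : monoGL σ d ∈ Cfsg.GU n F q) (i : Fin n) :
    (d i : F) * τ (d i) = 1 := by
  have e : ∀ c : F, monoMat σ (fun k => (d k : F)) *ᵥ Pi.single i c = Pi.single (σ i) ((d i : F) * c) := by
    intro c
    funext l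
    obtain ⟨k, rfl⟩ := σ.surjective l
    rw [monoMat_mulVec]
    by_cases hk : k = i <;> simp [hk, σ.injective.eq_iff]
  have := (mem_GU_iff _).1 h (Pi.single i 1) (Pi.single i 1)
  rwa [monoGL_val, e, K.hh_single_left, K.hh_single_left, Pi.single_eq_same, Pi.single_eq_same,
    map_one, mul_one, mul_one] at this

lemma mono_det (σ : Equiv.Perm (Fin n)) (d : Fin n → Fˣ) :
    (monoGL σ d : MM).det = ((Equiv.Perm.sign σ : ℤ) : F) * ∏ k, (d k : F) := by
  rw [monoGL_val, monoMat_det]

lemma mono_mem_su (σ : Equiv.Perm (Fin n)) (d : Fin n → Fˣ) (hd : ∀ i, (d i : F) * τ (d i) = 1)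
    (hdet : ((Equiv.Perm.sign σ : ℤ) : F) * ∏ k, (d k : F) = 1) : monoGL σ d ∈ suGL n F q :=
  ⟨mono_mem_GU K σ d hd, (mem_specialLinear_iff _).2 (by rw [mono_det K, hdet])⟩

end monomial

end CfsgLib.UnMono
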