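import Mathlib
import Cfsg.Agent.Lib.UnMono.Basic

/-!
From full vectors with two coordinates to the whole special unitary group.
-/

set_option autoImplicit false
set_option linter.unusedSectionVars false

open scoped Classical

namespace CfsgLib.UnMono

open scoped Matrix
open CfsgLib.Maximal

variable {n q : ℕ} {F : Type*} [Field F] [Fintype F] {τ : F ≃+* F}
  {M : Subgroup (Matrix.GeneralLinearGroup (Fin n) F)}

local notation "hh" => Cfsg.hermForm n F q
local notation "MM" => Matrix (Fin n) (Fin n) F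

/-- `M` contains the diagonal elements of determinant one. -/
def HasDiag (M : Subgroup (Matrix.GeneralLinearGroup (Fin n) F)) (τ : F ≃+* F) : Prop :=
  ∀ d : Fin n → Fˣ, (∀ i, (d i : F) * τ (d i) = 1) → (∏ i, (d i : F)) = 1 → monoGL 1 d ∈ M

lemma dg_mulVec (d : Fin n → Fˣ) (v : Fin n → F) :
    (monoGL 1 d : MM) *ᵥ v = scal (fun i => (d i : F)) v :=
  funext fun i => by rw [monoGL_val, monoMat_one_mulVec]; rfl

variable (K : Ctx n q τ)
include K

lemma hh_two {a b : Fin n} (hab : a ≠ b) {w : Fin n → F} (hw : ∀ i, i ≠ a → i ≠ b → w i = 0)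
    (x : Fin n → F) : hh w x = w a * τ (x a) + w b * τ (x b) := by
  rw [K.hh_eq, Finset.sum_eq_add a b hab (fun i _ hi => by rw [hw i hi.1 hi.2, zero_mul]) (by simp) (by simp)]

lemma hh_scal {d : Fin n → F} (hd : ∀ i, d i * τ (d i) = 1) (v w : Fin n → F) :
    hh (scal d v) (scal d w) = hh v w := by
  rw [K.hh_eq, K.hh_eq]
  exact Finset.sum_congr rfl fun i _ => by rw [scal, scal, map_mul, mul_mul_mul_comm, hd, one_mul]

lemma full_zero : UFull τ q M (0 : Fin n → F) := fun k _ => by
  rw [smul_zero]; exact has_of_zero (Or.inl rfl)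

lemma UFull.step (hMS : M ≤ suGL n F q) {u v : Fin n → F} (hu : UFull τ q M u) (hv : UFull τ q M v)
    {k : F} (hk : τ k = -k) : UFull τ q M (u + (k * hh u v) • v) := by
  obtain ⟨h1, h2⟩ := hv k hk
  have := hu.map K.form hMS h2
  rwa [tv_mulVec, un_dot K.form, smul_smul, mul_comm] at this

/-- Images under a normalising isometry. -/
lemma UFull.map_normal {v : Fin n → F} (h : UFull τ q M v) {g : Matrix.GeneralLinearGroup (Fin n) F}
    (hg : g ∈ Cfsg.GU n F q) (hnorm : ∀ x ∈ M, g * x * g⁻¹ ∈ M) : UFull τ q M ((g : MM) *ᵥ v) := by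
  intro k hk
  obtain ⟨h1, h2⟩ := h k hk
  obtain ⟨h', he⟩ := conj_tv g (k • v) (fvec hh v) h1
  have h3 : Has M ((g : MM) *ᵥ (k • v)) (fvec hh v ᵥ* ((g⁻¹ : Matrix.GeneralLinearGroup (Fin n) F) : MM)) :=
    ⟨h', he ▸ hnorm _ h2⟩
  rw [Matrix.mulVec_smul] at h3
  convert h3 using 1
  refine dot_ext fun y => ?_
  obtain ⟨x, rfl⟩ := mulVec_surj g y
  rw [dot_vecMul_inv, un_dot K.form, un_dot K.form]
  exact (mem_GU_iff g).1 hg x v

/-- Arbitrary phases, compensated on a zero coordinate. -/
lemma full_scal (hMS : M ≤ suGL n F q) (hdiag : HasDiag M τ) {v : Fin n → F} (hv : UFull τ q M v)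
    {d : Fin n → F} (hd : ∀ i, d i * τ (d i) = 1) {c : Fin n} (hc : v c = 0) :
    UFull τ q M (scal d v) := by
  let e : Fin n → F := Function.update d c (∏ i ∈ Finset.univ.erase c, d i)⁻¹
  have he : ∀ i, e i * τ (e i) = 1 := by
    intro i
    simp only [e, Function.update_apply]
    split_ifs with h
    · rw [map_inv₀, ← mul_inv, map_prod, ← Finset.prod_mul_distrib,
        Finset.prod_eq_one fun j _ => hd j, inv_one]
    · exact hd i
  have hprod : ∏ i, e i = 1 := by
    rw [← Finset.mul_prod_erase _ _ (Finset.mem_univ c)]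
    simp only [e, Function.update_self]
    rw [Finset.prod_congr rfl fun i hi => Function.update_of_ne (Finset.ne_of_mem_erase hi) _ _]
    exact inv_mul_cancel₀ (Finset.prod_ne_zero_iff.2 fun i _ => K.ne_of_nm (hd i))
  have := hv.map K.form hMS (hdiag (fun i => Units.mk0 (e i) (K.ne_of_nm (he i))) (fun i => he i) hprod)
  rw [dg_mulVec] at this
  convert this using 1
  funext i
  by_cases h : i = c
  · subst h; simp [scal, hc]
  · simp [scal, e, h]

/-- A full vector with a pair of phases gives a full vector on two coordinates. -/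
lemma shrink (hMS : M ≤ suGL n F q) {w : Fin n → F} (hw : UFull τ q M w) (hiso : hh w w = 0)
    {a b : Fin n} (hab : a ≠ b) (ha : w a ≠ 0) (hb : w b ≠ 0)
    (hph : ∀ d : Fin n → F, (∀ i, d i * τ (d i) = 1) → (∀ i, i ≠ a → i ≠ b → d i = 1) →
      UFull τ q M (scal d w)) :
    ∃ v : Fin n → F, hh v v = 0 ∧ v a ≠ 0 ∧ v b ≠ 0 ∧ (∀ i, i ≠ a → i ≠ b → v i = 0) ∧ UFull τ q M v := by
  set X := w a * τ (w a) with hX
  set Y := w b * τ (w b) with hY
  have hX0 : X ≠ 0 := mul_ne_zero ha fun h => ha (τ.injective (by rw [h, map_zero]))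
  have hY0 : Y ≠ 0 := mul_ne_zero hb fun h => hb (τ.injective (by rw [h, map_zero]))
  have hfix : ∀ T ∈ trs τ, τ T = T := trs_fix K
  let A := (trs τ).image fun T => X * (2 - T)
  let B := ((trs τ).image fun T => -Y * (2 - T)).erase 0
  have hAc : A.card = (trs τ).card := Finset.card_image_of_injective _ fun s t h => by
    have := mul_left_cancel₀ hX0 h; linear_combination -this
  have hBc : (trs τ).card ≤ B.card + 1 := by
    have h1 : ((trs τ).image fun T => -Y * (2 - T)).card = (trs τ).card :=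
      Finset.card_image_of_injective _ fun s t h => by
        have := mul_left_cancel₀ (neg_ne_zero.2 hY0) h; linear_combination -this
    have := Finset.pred_card_le_card_erase (a := (0 : F)) (s := (trs τ).image fun T => -Y * (2 - T))
    simp only [B]; omega
  obtain ⟨z, hzA, hzB⟩ := exists_common K (A := A) (B := B)
    (fun z hz => by
      obtain ⟨T, hT, rfl⟩ := Finset.mem_image.1 hz
      rw [map_mul, map_sub, hX, K.fix_mul_tau, hfix T hT, map_ofNat])
    (fun z hz => by
      obtain ⟨T, hT, rfl⟩ := Finset.mem_image.1 (Finset.mem_erase.1 hz).2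
      rw [map_mul, map_sub, map_neg, hY, K.fix_mul_tau, hfix T hT, map_ofNat])
    (by have := card_trs K; omega)
  obtain ⟨hz0, hzB⟩ := Finset.mem_erase.1 hzB
  obtain ⟨T₁, hT₁, h1⟩ := Finset.mem_image.1 hzA
  obtain ⟨T₂, hT₂, h2⟩ := Finset.mem_image.1 hzB
  obtain ⟨ζ, hζ, rfl⟩ := Finset.mem_image.1 hT₁
  obtain ⟨ξ, hξ, rfl⟩ := Finset.mem_image.1 hT₂
  rw [mem_mu] at hζ hξ
  have hζ1 : ζ ≠ 1 := fun h => hz0 (by rw [← h1, h, map_one]; ring)
  have hξ1 : ξ ≠ 1 := fun h => hz0 (by rw [← h2, h, map_one]; ring)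
  -- fix the sign of the inner product
  obtain ⟨ζ', ξ', hζ', hξ', hz1, hx1, hrel, hne⟩ : ∃ ζ' ξ' : F, ζ' * τ ζ' = 1 ∧ ξ' * τ ξ' = 1 ∧
      ζ' ≠ 1 ∧ ξ' ≠ 1 ∧ X * (2 - (ζ' + τ ζ')) + Y * (2 - (ξ' + τ ξ')) = 0 ∧
      (ζ' - 1) * X + (ξ' - 1) * Y ≠ 0 := by
    have hrel : X * (2 - (ζ + τ ζ)) + Y * (2 - (ξ + τ ξ)) = 0 := by linear_combination h1 - h2
    by_cases e1 : (ζ - 1) * X + (ξ - 1) * Y = 0
    · by_cases e2 : (ζ - 1) * X + (τ ξ - 1) * Y = 0
      · -- both phases are real
        have hξr : τ ξ = ξ := by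
          have : (τ ξ - ξ) * Y = 0 := by linear_combination e2 - e1
          exact sub_eq_zero.1 ((mul_eq_zero.1 this).resolve_right hY0)
        have hζr : τ ζ = ζ := by
          have e3 := congrArg τ e1
          simp only [map_add, map_mul, map_sub, map_one, map_zero, hξr, hX, hY, K.invol] at e3
          have : (τ ζ - ζ) * X = 0 := by rw [hX]; linear_combination e3 - e1
          exact sub_eq_zero.1 ((mul_eq_zero.1 this).resolve_right hX0)
        have hζm : ζ = -1 := by
          rw [hζr] at hζ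
          exact (mul_self_eq_one_iff.1 hζ).resolve_left hζ1
        have hξm : ξ = -1 := by
          rw [hξr] at hξ
          exact (mul_self_eq_one_iff.1 hξ).resolve_left hξ1
        obtain ⟨η, hη, hηn⟩ := exists_nonfix K
        have hXY : X + Y = 0 := by
          rw [hζm, hξm] at e1
          have h20 : (2 : F) ≠ 0 := fun h => hζ1 (by rw [hζm]; linear_combination -h)
          exact (mul_eq_zero.1 (show (2 : F) * (X + Y) = 0 by linear_combination -e1)).resolve_left h20
        refine ⟨η, τ η, hη, K.nm_tau hη, fun h => hηn (by rw [h, map_one]),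
          fun h => hηn (by rw [← K.invol η, h, map_one]; simp), ?_, fun h => hηn ?_⟩
        · rw [K.invol]; linear_combination (2 - η - τ η) * hXY
        · have h0 : (τ η - η) * Y = 0 := by linear_combination h - (η - 1) * hXY
          exact sub_eq_zero.1 ((mul_eq_zero.1 h0).resolve_right hY0)
      · exact ⟨ζ, τ ξ, hζ, K.nm_tau hξ, hζ1, fun h => hξ1 (τ.injective (by rw [h, map_one])),
          by rw [K.invol]; linear_combination hrel, e2⟩
    · exact ⟨ζ, ξ, hζ, hξ, hζ1, hξ1, hrel, e1⟩
  let d : Fin n → F := fun i => if i = a then ζ' else if i = b then ξ' else 1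
  have hd : ∀ i, d i * τ (d i) = 1 := fun i => by
    simp only [d]; split_ifs <;> simp [hζ', hξ']
  have hv := hph d hd fun i h1 h2 => by simp [d, h1, h2]
  set v := scal d w + (-1 : F) • w with hvd
  have hoff : ∀ i, i ≠ a → i ≠ b → v i = 0 := fun i h1 h2 => by simp [hvd, scal, d, h1, h2]
  have hva : v a = (ζ' - 1) * w a := by simp [hvd, scal, d]; ring
  have hvb : v b = (ξ' - 1) * w b := by simp [hvd, scal, d, hab.symm]; ring
  have hvv : hh v v = 0 := by
    rw [hh_two K hab hoff, hva, hvb, map_mul, map_mul, map_sub, map_sub, map_one]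
    linear_combination hrel + w a * τ (w a) * hζ' + w b * τ (w b) * hξ'
  have hvw : hh (scal d w) w ≠ 0 := by
    have e : scal d w = v + w := by
      funext i; simp only [hvd, Pi.add_apply, Pi.smul_apply, smul_eq_mul]; ring
    rw [e, K.form.add_left, hiso, add_zero, hh_two K hab hoff, hva, hvb]
    intro h; exact hne (by linear_combination h)
  exact ⟨v, hvv, hva ▸ mul_ne_zero (sub_ne_zero.2 hz1) ha, hvb ▸ mul_ne_zero (sub_ne_zero.2 hx1) hb, hoff,
    hv.move K.form hMS hw (by rw [hh_scal K hd, hiso]) hiso hvw hvv⟩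

/-- One full vector on two coordinates gives all of them. -/
lemma pair_all (hMS : M ≤ suGL n F q) (hdiag : HasDiag M τ) (hn : 3 ≤ n) {a b : Fin n} (hab : a ≠ b)
    {v : Fin n → F} (hvv : hh v v = 0) (ha : v a ≠ 0) (hb : v b ≠ 0)
    (hoff : ∀ i, i ≠ a → i ≠ b → v i = 0) (hv : UFull τ q M v)
    {w : Fin n → F} (hww : hh w w = 0) (hwoff : ∀ i, i ≠ a → i ≠ b → w i = 0) : UFull τ q M w := by
  rw [hh_two K hab hoff] at hvv
  rw [hh_two K hab hwoff] at hww
  by_cases hwa : w a = 0
  · have : w = 0 := funext fun i => by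
      by_cases h1 : i = a
      · rw [h1, hwa]; rfl
      by_cases h2 : i = b
      · subst h2
        rw [hwa, zero_mul, zero_add] at hww
        rcases mul_eq_zero.1 hww with h | h
        · exact h
        · exact τ.injective (by rw [h, Pi.zero_apply, map_zero])
      exact hwoff i h1 h2
    rw [this]; exact full_zero K
  obtain ⟨c, hca, hcb⟩ : ∃ c : Fin n, c ≠ a ∧ c ≠ b := by
    obtain ⟨c, -, hc⟩ := Finset.exists_mem_notMem_of_card_lt_card (s := ({a, b} : Finset (Fin n)))
      (t := Finset.univ) (lt_of_le_of_lt Finset.card_le_two (by simp; omega))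
    simp at hc; exact ⟨c, hc.1, hc.2⟩
  set r := w a / v a
  have hr : r ≠ 0 := div_ne_zero hwa ha
  have hτr : τ r ≠ 0 := fun h => hr (τ.injective (by rw [h, map_zero]))
  have hτb : τ (v b) ≠ 0 := fun h => hb (τ.injective (by rw [h, map_zero]))
  set e := w b / (r * v b)
  have hwa' : w a = r * v a := by simp [r, ha]
  have he : e * τ e = 1 := by
    simp only [e, map_div₀, map_mul, div_mul_div_comm]
    rw [div_eq_one_iff_eq (mul_ne_zero (mul_ne_zero hr hb) (mul_ne_zero hτr hτb))]
    rw [hwa', map_mul] at hww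
    linear_combination hww - r * τ r * hvv
  have := (full_scal K hMS hdiag hv (d := fun i => if i = b then e else 1) (fun i => by
    by_cases h : i = b <;> simp [h, he]) (hoff c hca hcb)).smul K.form r
  convert this using 1
  funext i
  by_cases h1 : i = a
  · subst h1; simp [scal, hab, hwa']
  by_cases h2 : i = b
  · subst h2; simp [scal, e]; field_simp
  simp [scal, h2, hwoff i h1 h2, hoff i h1 h2]

section two

lemma two_eq_zero (hq : q = 2) : (2 : F) = 0 := by
  have := K.cast_q; rw [hq] at this; exact_mod_cast this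

lemma nm_two (hq : q = 2) {x : F} (hx : x ≠ 0) : x * τ x = 1 := by
  by_contra h
  have h0 : x * τ x ≠ 0 := mul_ne_zero hx fun h => hx (τ.injective (by rw [h, map_zero]))
  have : ({0, 1, x * τ x} : Finset F) ⊆ fixF τ := by
    intro y hy
    simp only [Finset.mem_insert, Finset.mem_singleton] at hy
    rcases hy with rfl | rfl | rfl <;> rw [mem_fixF]
    · exact map_zero _
    · exact map_one _
    · exact K.fix_mul_tau x
  have := (Finset.card_le_card this).trans (card_fixF_le K)
  rw [Finset.card_insert_of_notMem (by simp [h0.symm]), Finset.card_pair (Ne.symm h)] at this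
  omega

lemma hh_self_two (hq : q = 2) (w : Fin n → F) : hh w w = ((supp w).card : F) := by
  rw [K.hh_self, Finset.card_eq_sum_ones, Nat.cast_sum, Nat.cast_one]
  rw [← Finset.sum_subset (Finset.subset_univ (supp w)) fun i _ hi => by
    rw [notMem_supp.1 hi, zero_mul]]
  exact Finset.sum_congr rfl fun i hi => nm_two K hq (mem_supp.1 hi)

lemma iso_iff_even (hq : q = 2) (w : Fin n → F) : hh w w = 0 ↔ Even (supp w).card := by
  haveI : CharP F 2 := CharTwo.of_one_ne_zero_of_two_eq_zero one_ne_zero (two_eq_zero K hq)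
  rw [hh_self_two K hq, CharP.cast_eq_zero_iff F 2, even_iff_two_dvd]

lemma exists_swap (hMS : M ≤ suGL n F q) (hq : q = 2)
    (hP : ∀ w : Fin n → F, hh w w = 0 → (supp w).card ≤ 2 → UFull τ q M w) {a b : Fin n} (hab : a ≠ b)
    {v : Fin n → F} (hv : UFull τ q M v) : UFull τ q M (v ∘ Equiv.swap a b) := by
  have h2 := two_eq_zero K hq
  let e : Fin n → F := fun i => if i = a ∨ i = b then 1 else 0
  have hoff : ∀ i, i ≠ a → i ≠ b → e i = 0 := fun i h1 h2 => by simp [e, h1, h2]
  have hee : hh e e = 0 := by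
    rw [hh_two K hab hoff]; simp [e]; linear_combination h2
  have hc : (supp e).card ≤ 2 := le_trans (Finset.card_le_card (t := {a, b}) fun i hi => by
    simp [mem_supp, e] at hi; simpa [or_iff_not_imp_left] using hi) Finset.card_le_two
  have := UFull.step K hMS hv (hP e hee hc) (k := 1) (by rw [map_one]; linear_combination h2)
  convert this using 1
  funext i
  simp only [Function.comp_apply, Pi.add_apply, Pi.smul_apply, smul_eq_mul, one_mul]
  rw [K.hh_eq, Finset.sum_eq_add a b hab (fun j _ hj => by simp [e, hj.1, hj.2]) (by simp) (by simp)]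
  by_cases h1 : i = a
  · subst h1; simp [e]; linear_combination (-v i) * h2
  by_cases h3 : i = b
  · subst h3; simp [e]; linear_combination (-v i) * h2
  simp [e, h1, h3, Equiv.swap_apply_of_ne_of_ne]

lemma four_all (hMS : M ≤ suGL n F q) (hdiag : HasDiag M τ) (hn : 5 ≤ n) (hq : q = 2)
    (hP : ∀ w : Fin n → F, hh w w = 0 → (supp w).card ≤ 2 → UFull τ q M w) {v : Fin n → F}
    (hv4 : (supp v).card = 4) (hv : UFull τ q M v) {w : Fin n → F} (hw4 : (supp w).card = 4) :
    UFull τ q M w := by
  suffices key : ∀ (m : ℕ) (v : Fin n → F), (supp v).card = 4 → UFull τ q M v → (supp w \ supp v).card ≤ m →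
      UFull τ q M w from key _ v hv4 hv le_rfl
  intro m
  induction m with
  | zero =>
    intro v hv4 hv hm
    have heq : supp w = supp v := Finset.eq_of_subset_of_card_le
      (Finset.sdiff_eq_empty_iff_subset.1 (Finset.card_eq_zero.1 (Nat.le_zero.1 hm))) (by omega)
    obtain ⟨c, hc⟩ : ∃ c, c ∉ supp v := by
      obtain ⟨c, -, hc⟩ := Finset.exists_mem_notMem_of_card_lt_card (s := supp v) (t := Finset.univ)
        (by simp; omega)
      exact ⟨c, hc⟩
    have := full_scal K hMS hdiag hv (d := fun i => if i ∈ supp v then w i / v i else 1) (fun i => by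
      by_cases h : i ∈ supp v
      · rw [if_pos h]
        exact nm_two K hq (div_ne_zero (mem_supp.1 (heq ▸ h)) (mem_supp.1 h))
      · simp [h]) (notMem_supp.1 hc)
    convert this using 1
    funext i
    by_cases h : i ∈ supp v
    · simp [scal, h, mem_supp.1 h]
    · simp [scal, h, notMem_supp.1 h, notMem_supp.1 (heq ▸ h)]
  | succ m ih =>
    intro v hv4 hv hm
    rcases Nat.lt_or_ge (supp w \ supp v).card (m + 1) with hlt | hge
    · exact ih v hv4 hv (by omega)
    obtain ⟨b, hb⟩ := Finset.card_pos.1 (by omega : 0 < (supp w \ supp v).card)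
    obtain ⟨a, ha⟩ : (supp v \ supp w).Nonempty := by
      rw [← Finset.card_pos]
      have e1 := Finset.card_sdiff_add_card_inter (supp w) (supp v)
      have e2 := Finset.card_sdiff_add_card_inter (supp v) (supp w)
      rw [Finset.inter_comm] at e2
      omega
    rw [Finset.mem_sdiff] at ha hb
    have hab : a ≠ b := fun h => hb.2 (h ▸ ha.1)
    have hs : supp (v ∘ Equiv.swap a b) = insert b ((supp v).erase a) := by
      ext i
      rw [mem_supp]
      by_cases h1 : i = a
      · subst h1; simp [hab, notMem_supp.1 hb.2]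
      by_cases h2 : i = b
      · subst h2; simp [mem_supp.1 ha.1]
      simp [h1, h2, Equiv.swap_apply_of_ne_of_ne, mem_supp]
    refine ih _ ?_ (exists_swap K hMS hq hP hab hv) ?_
    · rw [hs, Finset.card_insert_of_notMem (fun h => hb.2 (Finset.mem_of_mem_erase h)),
        Finset.card_erase_of_mem ha.1]; omega
    · have hsub : supp w \ supp (v ∘ Equiv.swap a b) ⊆ (supp w \ supp v).erase b := by
        intro i hi
        rw [hs] at hi
        simp only [Finset.mem_sdiff, Finset.mem_insert, Finset.mem_erase, not_or, not_and] at hi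
        exact Finset.mem_erase.2 ⟨hi.2.1, Finset.mem_sdiff.2 ⟨hi.1, hi.2.2 fun h => ha.2 (h ▸ hi.1)⟩⟩
      have := Finset.card_le_card hsub
      rw [Finset.card_erase_of_mem (Finset.mem_sdiff.2 hb)] at this
      omega

/-- The induction over the field with four elements. -/
lemma full_two (hMS : M ≤ suGL n F q) (hdiag : HasDiag M τ) (hn : 5 ≤ n) (hq : q = 2)
    (hP : ∀ w : Fin n → F, hh w w = 0 → (supp w).card ≤ 2 → UFull τ q M w) {v₀ : Fin n → F}
    (hv4 : (supp v₀).card = 4) (hv₀ : UFull τ q M v₀) :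
    ∀ (s : ℕ) (w : Fin n → F), (supp w).card = s → hh w w = 0 → UFull τ q M w := by
  intro s
  induction s using Nat.strong_induction_on with
  | _ s ih =>
  intro w hs hw
  have hev := (iso_iff_even K hq w).1 hw
  rcases le_or_gt s 2 with h | h
  · exact hP w hw (by omega)
  rcases Nat.lt_or_ge s 5 with h5 | h5
  · refine four_all K hMS hdiag hn hq hP hv4 hv₀ ?_
    rw [hs] at hev ⊢; obtain ⟨r, hr⟩ := hev; omega
  obtain ⟨a, b, c, d, ha, hb, hc, hd, hab, hac, had, hbc, hbd, hcd⟩ : ∃ a b c d, a ∈ supp w ∧ b ∈ supp w ∧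
      c ∈ supp w ∧ d ∈ supp w ∧ a ≠ b ∧ a ≠ c ∧ a ≠ d ∧ b ≠ c ∧ b ≠ d ∧ c ≠ d := by
    obtain ⟨S, hS, hS4⟩ := Finset.exists_subset_card_eq (s := supp w) (n := 4) (by omega)
    obtain ⟨a, b, c, d, hab, hac, had, hbc, hbd, hcd, rfl⟩ := Finset.card_eq_four.1 hS4
    exact ⟨a, b, c, d, hS (by simp), hS (by simp), hS (by simp), hS (by simp), hab, hac, had, hbc, hbd, hcd⟩
  obtain ⟨ω, hω, hωn⟩ := exists_nonfix K
  have h2 := two_eq_zero K hq
  have hω0 := K.ne_of_nm hω
  have hω0' := K.ne_of_nm (K.nm_tau hω)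
  have htr : ω + τ ω = 1 := by
    have h0 : ω + τ ω ≠ 0 := fun h => hωn (by linear_combination h - ω * h2)
    have := nm_two K hq h0
    rw [K.fix_add_tau] at this
    rcases mul_self_eq_one_iff.1 this with h | h
    · exact h
    · linear_combination h - h2
  let u : Fin n → F := fun i => if i = a then ω * w i else if i = b then τ ω * w i
    else if i = c ∨ i = d then 0 else w i
  let v : Fin n → F := fun i => if i = a then τ ω * w i else if i = b then ω * w i
    else if i = c ∨ i = d then w i else 0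
  have huv : w = u + v := by
    funext i; simp only [u, v, Pi.add_apply]
    split_ifs with h1 h2' h3 <;> first | (linear_combination -(w i) * htr) | simp
  have hsu : supp u = ((supp w).erase c).erase d := by
    ext i
    simp only [mem_supp, u, Finset.mem_erase]
    by_cases h1 : i = a
    · subst h1; simp [hω0, mem_supp.1 ha, hac, had]
    by_cases h2' : i = b
    · subst h2'; simp [Ne.symm hab, hω0', mem_supp.1 hb, hbc, hbd]
    by_cases h3 : i = c
    · subst h3; simp [h1, h2']
    by_cases h4 : i = d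
    · subst h4; simp [h1, h2']
    simp [h1, h2', h3, h4]
  have hsv : supp v = {a, b, c, d} := by
    ext i
    simp only [mem_supp, v, Finset.mem_insert, Finset.mem_singleton]
    by_cases h1 : i = a
    · subst h1; simp [hω0', mem_supp.1 ha]
    by_cases h2' : i = b
    · subst h2'; simp [Ne.symm hab, hω0, mem_supp.1 hb]
    by_cases h3 : i = c
    · subst h3; simp [h1, h2', mem_supp.1 hc]
    by_cases h4 : i = d
    · subst h4; simp [h1, h2', h3, mem_supp.1 hd]
    simp [h1, h2', h3, h4]
  have hcu : (supp u).card = s - 2 := by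
    rw [hsu, Finset.card_erase_of_mem (Finset.mem_erase.2 ⟨hcd.symm, hd⟩), Finset.card_erase_of_mem hc]
    omega
  have hcv : (supp v).card = 4 := by rw [hsv]; simp [hab, hac, had, hbc, hbd, hcd]
  have hu : hh u u = 0 := (iso_iff_even K hq u).2 (by
    rw [hcu, Nat.even_sub (by omega)]; simpa [hs] using hev)
  have hv : hh v v = 0 := (iso_iff_even K hq v).2 (by rw [hcv]; decide)
  have hne : hh u v ≠ 0 := by
    rw [K.hh_eq, Finset.sum_eq_add a b hab (fun i _ hi => by
      simp only [u, v, if_neg hi.1, if_neg hi.2]; split_ifs <;> simp) (by simp) (by simp)]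
    simp only [u, v, if_true, if_neg (Ne.symm hab)]
    rw [map_mul, map_mul, K.invol]
    have e : ω * w a * (ω * τ (w a)) + τ ω * w b * (τ ω * τ (w b)) = 1 := by
      linear_combination ω * ω * nm_two K hq (mem_supp.1 ha) + τ ω * τ ω * nm_two K hq (mem_supp.1 hb) +
        (ω + τ ω + 1) * htr - 2 * hω - h2
    rw [e]; exact one_ne_zero
  have := UFull.move K.form hMS (ih (s - 2) (by omega) u hcu hu)
    (four_all K hMS hdiag hn hq hP hv4 hv₀ hcv) hu hv hne (s := (1 : F))
    (by rw [one_smul, ← huv]; exact hw)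
  rwa [one_smul, ← huv] at this

end two

section big

variable (hMS : M ≤ suGL n F q) (hq : 3 ≤ q)
include hMS hq

lemma exists_skew_ne : ∃ k : F, τ k = -k ∧ k ≠ 0 ∧ k ≠ -1 := by
  obtain ⟨k, hk, hk'⟩ := Finset.exists_mem_notMem_of_card_lt_card (s := ({0, -1} : Finset F)) (t := skewF τ)
    (lt_of_le_of_lt Finset.card_le_two (lt_of_lt_of_le (by omega) (card_skewF K)))
  simp only [Finset.mem_insert, Finset.mem_singleton, not_or] at hk'
  exact ⟨k, mem_skewF.1 hk, hk'.1, hk'.2⟩

lemma card_one_sub_sq {W : F} (hW : W ≠ 0) :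
    q + 1 ≤ 2 * ((skewF τ).image fun k => W * (1 - k * k)).card := by
  have h0 : (0 : F) ∈ skewF τ := mem_skewF.2 (by simp)
  let f := fun k : F => W * (1 - k * k)
  have h1 := Finset.card_le_mul_card_image (f := f) ((skewF τ).erase 0) 2 (fun c _ => by
    by_contra hcon
    obtain ⟨a, b, d, ha, hb, hd, hab, had, hbd⟩ := Finset.two_lt_card_iff.1 (by omega : 2 <
      (((skewF τ).erase 0).filter fun k => f k = c).card)
    simp only [Finset.mem_filter, f] at ha hb hd
    have eb : a = -b := (mul_self_eq_mul_self_iff.1 (mul_left_cancel₀ hW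
      (show W * (a * a) = W * (b * b) by linear_combination hb.2 - ha.2))).resolve_left hab
    have ed : a = -d := (mul_self_eq_mul_self_iff.1 (mul_left_cancel₀ hW
      (show W * (a * a) = W * (d * d) by linear_combination hd.2 - ha.2))).resolve_left had
    exact hbd (neg_injective (eb.symm.trans ed)))
  have h2 : ((skewF τ).erase 0).image f ⊆ ((skewF τ).image f).erase W := by
    intro c hc
    obtain ⟨k, hk, rfl⟩ := Finset.mem_image.1 hc
    obtain ⟨hk1, hk2⟩ := Finset.mem_erase.1 hk
    exact Finset.mem_erase.2 ⟨fun h => hk1 (mul_self_eq_zero.1 (mul_left_cancel₀ hW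
      (show W * (k * k) = W * 0 by simp only [f] at h; linear_combination -h))), Finset.mem_image_of_mem _ hk2⟩
  have h3 := Finset.card_le_card h2
  rw [Finset.card_erase_of_mem (Finset.mem_image.2 ⟨0, h0, by simp [f]⟩)] at h3
  rw [Finset.card_erase_of_mem h0] at h1
  have := card_skewF K
  show q + 1 ≤ 2 * ((skewF τ).image f).card
  omega

variable {s : ℕ} (hP : ∀ w : Fin n → F, Cfsg.hermForm n F q w w = 0 → (supp w).card ≤ 2 → UFull τ q M w)
  (ih : ∀ w : Fin n → F, (supp w).card < s → Cfsg.hermForm n F q w w = 0 → UFull τ q M w)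
include hP ih

/-- A move along a pair changes two coordinates and can be undone. -/
lemma undo {w : Fin n → F} {a b : Fin n} (hab : a ≠ b) {v : Fin n → F} (hv : hh v v = 0)
    (hoff : ∀ i, i ≠ a → i ≠ b → v i = 0) {k : F} (hk : τ k = -k)
    (h : UFull τ q M (w + (k * hh w v) • v)) : UFull τ q M w := by
  have hvc : (supp v).card ≤ 2 := le_trans (Finset.card_le_card (t := {a, b}) fun i hi => by
    have := mem_supp.1 hi
    by_contra hi'
    simp at hi'
    exact this (hoff i hi'.1 hi'.2)) Finset.card_le_two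
  have := UFull.step K hMS h (hP v hv hvc) (k := -k) (by rw [map_neg, hk])
  convert this using 1
  funext i
  rw [K.form.add_left, K.form.smul_left, hv]
  simp only [Pi.add_apply, Pi.smul_apply, smul_eq_mul, mul_zero, add_zero]
  ring

lemma iso_move {w v : Fin n → F} (hw : hh w w = 0) (hv : hh v v = 0) {k : F} (hk : τ k = -k) :
    hh (w + (k * hh w v) • v) (w + (k * hh w v) • v) = 0 := by
  have h1 := un_tv_isometry K.form hv hk w w
  rwa [tv_mulVec, un_dot K.form, smul_smul, mul_comm, hw] at h1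

omit hMS hq hP ih in
lemma hh_self_congr {y z : Fin n → F} {a b : Fin n} (hab : a ≠ b) (h : ∀ i, i ≠ a → i ≠ b → z i = y i) :
    hh z z = hh y y + (z a * τ (z a) + z b * τ (z b)) - (y a * τ (y a) + y b * τ (y b)) := by
  rw [K.hh_self, K.hh_self]
  have e : ∑ i, (z i * τ (z i) - y i * τ (y i)) =
      (z a * τ (z a) - y a * τ (y a)) + (z b * τ (z b) - y b * τ (y b)) :=
    Finset.sum_eq_add a b hab (fun i _ hi => by rw [h i hi.1 hi.2, sub_self]) (by simp) (by simp)
  rw [Finset.sum_sub_distrib] at e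
  linear_combination e

/-- Reduction along two coordinates with non-zero norm sum. -/
lemma reduce {w : Fin n → F} (hs : (supp w).card ≤ s) (hw : hh w w = 0) {a b : Fin n} (hab : a ≠ b)
    (ha : a ∈ supp w) (hb : b ∈ supp w) (hW : w a * τ (w a) + w b * τ (w b) ≠ 0) : UFull τ q M w := by
  have hτ0 : ∀ {x : F}, x ≠ 0 → τ x ≠ 0 := fun hx h => hx (τ.injective (by rw [h, map_zero]))
  set W := w a * τ (w a) + w b * τ (w b) with hWd
  have hWf : τ W = W := by rw [hWd, map_add, K.fix_mul_tau, K.fix_mul_tau]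
  obtain ⟨ρ₀, hρ₀⟩ := K.exists_nm (c := -1) (by rw [map_neg, map_one])
  have hρ0 : ρ₀ ≠ 0 := fun h => by rw [h, zero_mul] at hρ₀; exact neg_ne_zero.2 one_ne_zero hρ₀.symm
  obtain ⟨k, hk, hk0, hk1⟩ := exists_skew_ne K hMS hq
  have hk1' : 1 + k ≠ 0 := fun h => hk1 (by linear_combination h)
  set C := k * τ ρ₀ * w b * τ ((1 + k) * w a) with hC
  have hC0 : C ≠ 0 := mul_ne_zero (mul_ne_zero (mul_ne_zero hk0 (hτ0 hρ0)) (mem_supp.1 hb))
    (hτ0 (mul_ne_zero hk1' (mem_supp.1 ha)))
  let P := fun z : F => (1 + k) * w a + k * τ ρ₀ * z * w b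
  let N₁ := (mu τ).image fun z => P z * τ (P z)
  let N₂ := (skewF τ).image fun j => W * (1 - j * j)
  have hN₁ : q + 1 ≤ 2 * N₁.card := by
    set c₀ := (1 + k) * w a * τ ((1 + k) * w a) + k * τ ρ₀ * w b * τ (k * τ ρ₀ * w b)
    have e : N₁ = ((mu τ).image fun z => C * z + τ (C * z)).image (c₀ + ·) := by
      rw [Finset.image_image]
      refine Finset.image_congr fun z hz => ?_
      have hz1 := mem_mu.1 hz
      simp only [P, C, c₀, Function.comp_apply, map_add, map_mul, K.invol, map_one]
      linear_combination k * τ ρ₀ * w b * τ k * ρ₀ * τ (w b) * hz1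
    rw [e, Finset.card_image_of_injective _ (add_right_injective c₀)]
    exact card_lin K hC0
  obtain ⟨m, hm₁, hm₂⟩ := exists_common K (A := N₁) (B := N₂)
    (fun m hm => by obtain ⟨z, -, rfl⟩ := Finset.mem_image.1 hm; exact K.fix_mul_tau _)
    (fun m hm => by
      obtain ⟨j, hj, rfl⟩ := Finset.mem_image.1 hm
      rw [map_mul, map_sub, map_mul, map_one, hWf, mem_skewF.1 hj]; ring)
    (by have := card_one_sub_sq K hMS hq hW; simp only [N₂]; omega)
  obtain ⟨z, hz, hzm⟩ := Finset.mem_image.1 hm₁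
  obtain ⟨j, hj, hjm⟩ := Finset.mem_image.1 hm₂
  rw [mem_mu] at hz
  rw [mem_skewF] at hj
  have hρ : ρ₀ * τ z * τ (ρ₀ * τ z) = -1 := by
    rw [map_mul, K.invol]; linear_combination ρ₀ * τ ρ₀ * hz + hρ₀
  set ρ := ρ₀ * τ z
  let v : Fin n → F := fun i => if i = a then 1 else if i = b then ρ else 0
  have hva : v a = 1 := if_pos rfl
  have hvb : v b = ρ := by simp [v, hab.symm]
  have hoff : ∀ i, i ≠ a → i ≠ b → v i = 0 := fun i h1 h2 => by simp [v, h1, h2]
  have hvv : hh v v = 0 := by
    rw [hh_two K hab hoff, hva, hvb, hρ, map_one]; ring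
  set y := w + (k * hh w v) • v with hy
  refine undo K hMS hq hP ih hab hvv hoff hk ?_
  rw [← hy]
  have hwv : hh w v = w a + w b * τ ρ := by
    rw [K.hh_eq, Finset.sum_eq_add a b hab (fun i _ hi => by rw [hoff i hi.1 hi.2, map_zero, mul_zero])
      (by simp) (by simp), hva, hvb, map_one, mul_one]
  have hya : y a = P z := by
    simp only [hy, Pi.add_apply, Pi.smul_apply, smul_eq_mul, hva, hwv, P, ρ, map_mul, K.invol]; ring
  have hyb : y b = w b + k * (w a + w b * τ ρ) * ρ := by
    simp only [hy, Pi.add_apply, Pi.smul_apply, smul_eq_mul, hvb, hwv]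
  have hyy : hh y y = 0 := iso_move K hMS hq hP ih hw hvv hk
  have hyo : ∀ i, i ≠ a → i ≠ b → y i = w i := fun i h1 h2 => by simp [hy, hoff i h1 h2]
  have hsum : y a * τ (y a) + y b * τ (y b) = W := by
    have := hh_self_congr K hab hyo
    rw [hyy, hw] at this
    linear_combination -this
  have hsub : supp y ⊆ supp w := fun i hi => by
    by_contra hi'
    have h1 : i ≠ a := fun h => hi' (h ▸ ha)
    have h2 : i ≠ b := fun h => hi' (h ▸ hb)
    exact mem_supp.1 hi ((hyo i h1 h2).trans (notMem_supp.1 hi'))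
  have hdrop : ∀ u : Fin n → F, ∀ c ∈ supp w, supp u ⊆ supp w → u c = 0 → hh u u = 0 → UFull τ q M u := by
    intro u c hc hu huc huu
    have hle := Finset.card_le_card (fun i hi => Finset.mem_erase.2
      ⟨fun h : i = c => mem_supp.1 hi (h ▸ huc), hu hi⟩ : supp u ⊆ (supp w).erase c)
    rw [Finset.card_erase_of_mem hc] at hle
    have := Finset.card_pos.2 ⟨c, hc⟩
    exact ih u (by omega) huu
  by_cases hya0 : y a = 0
  · exact hdrop y a ha hsub hya0 hyy
  by_cases hyb0 : y b = 0
  · exact hdrop y b hb hsub hyb0 hyy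
  have hna : y a * τ (y a) = W * (1 - j * j) := by rw [hya, hzm, hjm]
  have hj0 : j ≠ 0 := fun h => by
    have : y b * τ (y b) = 0 := by rw [h] at hna; linear_combination hsum - hna
    rcases mul_eq_zero.1 this with h | h
    · exact hyb0 h
    · exact hτ0 hyb0 h
  have hj1 : 1 + j ≠ 0 := fun h => by
    have : y a * τ (y a) = 0 := by rw [hna]; linear_combination (W * (1 - j)) * h
    rcases mul_eq_zero.1 this with h | h
    · exact hya0 h
    · exact hτ0 hya0 h
  have hj2 : 1 - j ≠ 0 := fun h => by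
    have : y a * τ (y a) = 0 := by rw [hna]; linear_combination (W * (1 + j)) * h
    rcases mul_eq_zero.1 this with h | h
    · exact hya0 h
    · exact hτ0 hya0 h
  set c := y a / (1 + j)
  have hc : c * τ c = W := by
    simp only [c, map_div₀, map_add, map_one, hj, ← sub_eq_add_neg]
    rw [div_mul_div_comm, hna, div_eq_iff (mul_ne_zero hj1 hj2)]; ring
  have hc0 : c ≠ 0 := div_ne_zero hya0 hj1
  set ρ' := y b / (j * c)
  have hρ' : ρ' * τ ρ' = -1 := by
    simp only [ρ', map_div₀, map_mul, hj, div_mul_div_comm]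
    rw [div_eq_iff (mul_ne_zero (mul_ne_zero hj0 hc0) (mul_ne_zero (neg_ne_zero.2 hj0) (hτ0 hc0)))]
    linear_combination hsum - hna - j * j * hc
  let v' : Fin n → F := fun i => if i = a then 1 else if i = b then ρ' else 0
  have hva' : v' a = 1 := if_pos rfl
  have hvb' : v' b = ρ' := by simp [v', hab.symm]
  have hoff' : ∀ i, i ≠ a → i ≠ b → v' i = 0 := fun i h1 h2 => by simp [v', h1, h2]
  have hvv' : hh v' v' = 0 := by
    rw [hh_two K hab hoff', hva', hvb', hρ', map_one]; ring
  let u : Fin n → F := fun i => if i = a then c else if i = b then 0 else y i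
  have hua : u a = c := if_pos rfl
  have hub : u b = 0 := by simp [u, hab.symm]
  have huo : ∀ i, i ≠ a → i ≠ b → u i = y i := fun i h1 h2 => by simp [u, h1, h2]
  have huu : hh u u = 0 := by
    rw [hh_self_congr K hab huo, hyy, hua, hub, hc, hsum]; ring
  have hus : supp u ⊆ supp w := fun i hi => by
    by_contra hi'
    have h1 : i ≠ a := fun h => hi' (h ▸ ha)
    have h2 : i ≠ b := fun h => hi' (h ▸ hb)
    exact hi' (hsub (mem_supp.2 fun h => mem_supp.1 hi ((huo i h1 h2).trans h)))
  have hfu := hdrop u b hb hus hub huu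
  have hcv : (supp v').card ≤ 2 := le_trans (Finset.card_le_card (t := {a, b}) fun i hi => by
    have := mem_supp.1 hi
    by_contra hi'
    simp at hi'
    exact this (hoff' i hi'.1 hi'.2)) Finset.card_le_two
  have := UFull.step K hMS hfu (hP v' hvv' hcv) hj
  have huv : hh u v' = c := by
    rw [K.hh_eq, Finset.sum_eq_add a b hab (fun i _ hi => by rw [hoff' i hi.1 hi.2, map_zero, mul_zero])
      (by simp) (by simp), hua, hub, hva', map_one]
    ring
  convert this using 1
  funext i
  simp only [Pi.add_apply, Pi.smul_apply, smul_eq_mul, huv]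
  by_cases h1 : i = a
  · rw [h1, hua, hva']; simp only [c]; field_simp
  by_cases h2 : i = b
  · rw [h2, hub, hvb']; simp only [ρ']; field_simp; ring
  rw [huo i h1 h2, hoff' i h1 h2]; ring

/-- The induction step for `q ≥ 3`. -/
lemma full_step {w : Fin n → F} (hs : (supp w).card ≤ s) (h3 : 3 ≤ (supp w).card) (hw : hh w w = 0) :
    UFull τ q M w := by
  by_cases hex : ∃ a b, a ≠ b ∧ a ∈ supp w ∧ b ∈ supp w ∧ w a * τ (w a) + w b * τ (w b) ≠ 0
  · obtain ⟨a, b, hab, ha, hb, h⟩ := hex
    exact reduce K hMS hq hP ih hs hw hab ha hb h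
  push Not at hex
  obtain ⟨a, b, c, ha, hb, hc, hab, hac, hbc⟩ := Finset.two_lt_card_iff.1 h3
  have hτ0 : ∀ {x : F}, x ≠ 0 → τ x ≠ 0 := fun hx h => hx (τ.injective (by rw [h, map_zero]))
  set X := w a * τ (w a) with hX
  have e1 := hex a b hab ha hb
  have e2 := hex a c hac ha hc
  have e3 := hex b c hbc hb hc
  have hX0 : X ≠ 0 := mul_ne_zero (mem_supp.1 ha) (hτ0 (mem_supp.1 ha))
  have h2 : (2 : F) = 0 := (mul_eq_zero.1 (show (2 : F) * X = 0 by
    rw [hX]; linear_combination e1 + e2 - e3)).resolve_right hX0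
  obtain ⟨ρ₀, hρ₀⟩ := K.exists_nm (c := -1) (by rw [map_neg, map_one])
  have hρ0 : ρ₀ ≠ 0 := fun h => by rw [h, zero_mul] at hρ₀; exact neg_ne_zero.2 one_ne_zero hρ₀.symm
  obtain ⟨k, hk, hk0, hk1⟩ := exists_skew_ne K hMS hq
  have hk1' : 1 + k ≠ 0 := fun h => hk1 (by linear_combination h)
  set C := k * τ ρ₀ * w b * τ ((1 + k) * w a) with hC
  have hC0 : C ≠ 0 := mul_ne_zero (mul_ne_zero (mul_ne_zero hk0 (hτ0 hρ0)) (mem_supp.1 hb))
    (hτ0 (mul_ne_zero hk1' (mem_supp.1 ha)))
  let P := fun z : F => (1 + k) * w a + k * τ ρ₀ * z * w b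
  set c₀ := (1 + k) * w a * τ ((1 + k) * w a) + k * τ ρ₀ * w b * τ (k * τ ρ₀ * w b)
  have hP' : ∀ z : F, z * τ z = 1 → P z * τ (P z) = c₀ + (C * z + τ (C * z)) := fun z hz => by
    simp only [P, C, c₀, map_add, map_mul, K.invol, map_one]
    linear_combination k * τ ρ₀ * w b * τ k * ρ₀ * τ (w b) * hz
  obtain ⟨m, hm, hmne⟩ := Finset.exists_mem_ne (s := (mu τ).image fun z => C * z + τ (C * z))
    (by have := card_lin K hC0; omega) (X - c₀)
  obtain ⟨z, hz, rfl⟩ := Finset.mem_image.1 hm
  rw [mem_mu] at hz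
  have hρ : ρ₀ * τ z * τ (ρ₀ * τ z) = -1 := by
    rw [map_mul, K.invol]; linear_combination ρ₀ * τ ρ₀ * hz + hρ₀
  set ρ := ρ₀ * τ z
  let v : Fin n → F := fun i => if i = a then 1 else if i = b then ρ else 0
  have hva : v a = 1 := if_pos rfl
  have hvb : v b = ρ := by simp [v, hab.symm]
  have hoff : ∀ i, i ≠ a → i ≠ b → v i = 0 := fun i h1 h2 => by simp [v, h1, h2]
  have hvv : hh v v = 0 := by
    rw [hh_two K hab hoff, hva, hvb, hρ, map_one]; ring
  set y := w + (k * hh w v) • v with hy
  refine undo K hMS hq hP ih hab hvv hoff hk ?_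
  rw [← hy]
  have hwv : hh w v = w a + w b * τ ρ := by
    rw [K.hh_eq, Finset.sum_eq_add a b hab (fun i _ hi => by rw [hoff i hi.1 hi.2, map_zero, mul_zero])
      (by simp) (by simp), hva, hvb, map_one, mul_one]
  have hya : y a = P z := by
    simp only [hy, Pi.add_apply, Pi.smul_apply, smul_eq_mul, hva, hwv, P, ρ, map_mul, K.invol]; ring
  have hyy : hh y y = 0 := iso_move K hMS hq hP ih hw hvv hk
  have hyo : ∀ i, i ≠ a → i ≠ b → y i = w i := fun i h1 h2 => by simp [hy, hoff i h1 h2]
  have hsub : supp y ⊆ supp w := fun i hi => by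
    by_contra hi'
    have h1 : i ≠ a := fun h => hi' (h ▸ ha)
    have h2 : i ≠ b := fun h => hi' (h ▸ hb)
    exact mem_supp.1 hi ((hyo i h1 h2).trans (notMem_supp.1 hi'))
  by_cases hya0 : y a = 0
  · have hle := Finset.card_le_card (fun i hi => Finset.mem_erase.2
      ⟨fun h : i = a => mem_supp.1 hi (h ▸ hya0), hsub hi⟩ : supp y ⊆ (supp w).erase a)
    rw [Finset.card_erase_of_mem ha] at hle
    exact ih y (by omega) hyy
  refine reduce K hMS hq hP ih ((Finset.card_le_card hsub).trans hs) hyy hac (mem_supp.2 hya0)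
    (mem_supp.2 ((hyo c hac.symm hbc.symm).symm ▸ mem_supp.1 hc)) fun h => hmne ?_
  rw [hyo c hac.symm hbc.symm, hya, hP' z hz] at h
  linear_combination h - e2

end big

/-- Full vectors on two coordinates generate; over the field with four elements one with four is needed too. -/
theorem suGL_le_of_pairs (hMS : M ≤ suGL n F q) (hdiag : HasDiag M τ) (hn : 5 ≤ n)
    (hP : ∀ w : Fin n → F, hh w w = 0 → (supp w).card ≤ 2 → UFull τ q M w)
    (h4 : q = 2 → ∃ v : Fin n → F, (supp v).card = 4 ∧ UFull τ q M v) : suGL n F q ≤ M := by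
  refine suGL_le_of_full K.form K.card (by omega) fun w hw => ?_
  by_cases hq : q = 2
  · obtain ⟨v, hv4, hv⟩ := h4 hq
    exact full_two K hMS hdiag hn hq hP hv4 hv _ w rfl hw
  have hq3 : 3 ≤ q := by have := K.two_le_q; omega
  suffices key : ∀ (s : ℕ) (w : Fin n → F), (supp w).card = s → hh w w = 0 → UFull τ q M w from key _ w rfl hw
  intro s
  induction s using Nat.strong_induction_on with
  | _ s ih =>
    intro w hs hw
    rcases le_or_gt (supp w).card 2 with h | h
    · exact hP w hw h
    exact full_step K hMS hq3 hP (fun u hu huu => ih _ hu u rfl huu) hs.le h hw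

end CfsgLib.UnMono
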