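import Mathlib
import Cfsg.Agent.Lib.UnMono.End

/-!
A subgroup over the monomial group with a sparse non-monomial element contains one fixing a coordinate line,
and then a non-monomial subgroup normalised by all diagonal isometries.
-/

set_option autoImplicit false
set_option linter.unusedSectionVars false

open scoped Classical

namespace CfsgLib.UnMono

open scoped Matrix
open CfsgLib.Maximal

variable {n q : ℕ} {F : Type*} [Field F] [Fintype F] {τ : F ≃+* F}
  {M : Subgroup (Matrix.GeneralLinearGroup (Fin n) F)}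

local notation "hh" => Cfsg.hermForm n F q
local notation "MM" => Matrix (Fin n) (Fin n) F

/-- `M` lies in `SU` and contains its monomial elements. -/
structure Over (q : ℕ) (M : Subgroup (Matrix.GeneralLinearGroup (Fin n) F)) : Prop where
  le : M ≤ suGL n F q
  mono : ∀ g ∈ suGL n F q, IsMono g → g ∈ M

/-- The `k`-th column. -/
def col (g : Matrix.GeneralLinearGroup (Fin n) F) (k : Fin n) : Fin n → F := fun l => (g : MM) l k

lemma mulVec_e (g : Matrix.GeneralLinearGroup (Fin n) F) (k : Fin n) :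
    (g : MM) *ᵥ Pi.single k 1 = col g k := Matrix.mulVec_single_one _ k

/-- The element fixes the `c`-th coordinate line. -/
def Fix (g : Matrix.GeneralLinearGroup (Fin n) F) (c : Fin n) : Prop := ∀ l, l ≠ c → (g : MM) l c = 0

/-- Some non-monomial element of `M` fixes a coordinate line. -/
def Fixer (M : Subgroup (Matrix.GeneralLinearGroup (Fin n) F)) : Prop :=
  ∃ x ∈ M, ¬ IsMono x ∧ ∃ c, Fix x c

lemma isMono_mul {g h : Matrix.GeneralLinearGroup (Fin n) F} (hg : IsMono g) (h₂ : IsMono h) :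
    IsMono (g * h) := by
  obtain ⟨σ, d, rfl⟩ := hg.exists_eq
  obtain ⟨π, e, rfl⟩ := h₂.exists_eq
  rw [monoGL_mul]; exact monoGL_isMono _ _

lemma isMono_inv {g : Matrix.GeneralLinearGroup (Fin n) F} (hg : IsMono g) : IsMono g⁻¹ := by
  obtain ⟨σ, d, rfl⟩ := hg.exists_eq
  rw [monoGL_inv]; exact monoGL_isMono _ _

lemma isMono_iff_mul {g h : Matrix.GeneralLinearGroup (Fin n) F} (hg : IsMono g) :
    IsMono (g * h) ↔ IsMono h :=
  ⟨fun h' => by simpa using isMono_mul (isMono_inv hg) h', isMono_mul hg⟩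

lemma isMono_mul_iff {g h : Matrix.GeneralLinearGroup (Fin n) F} (h₂ : IsMono h) :
    IsMono (g * h) ↔ IsMono g :=
  ⟨fun h' => by simpa using isMono_mul h' (isMono_inv h₂), fun h' => isMono_mul h' h₂⟩

lemma det_conj (a g : Matrix.GeneralLinearGroup (Fin n) F) :
    ((a * g * a⁻¹ : Matrix.GeneralLinearGroup (Fin n) F) : MM).det = (g : MM).det := by
  rw [Units.val_mul, Units.val_mul, Matrix.det_mul, Matrix.det_mul, mul_right_comm, ← Matrix.det_mul,
    ← Units.val_mul, mul_inv_cancel, Units.val_one, Matrix.det_one, one_mul]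

/-- The diagonal element with given phases. -/
def ph (d : Fin n → F) (hd : ∀ i, d i * τ (d i) = 1) : Matrix.GeneralLinearGroup (Fin n) F :=
  monoGL 1 fun i => Units.mk0 (d i) (left_ne_zero_of_mul_eq_one (hd i))

variable (K : Ctx n q τ)
include K

variable {d : Fin n → F} {hd : ∀ i, d i * τ (d i) = 1}

lemma ph_mulVec (v : Fin n → F) : (ph d hd : MM) *ᵥ v = scal d v := dg_mulVec _ v

lemma ph_mem_GU : ph d hd ∈ Cfsg.GU n F q := mono_mem_GU K 1 _ hd

lemma ph_isMono : IsMono (ph d hd) := monoGL_isMono _ _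

lemma ph_det : (ph d hd : MM).det = ∏ i, d i := by
  rw [ph, mono_det K, map_one, Units.val_one, Int.cast_one, one_mul]; rfl

lemma ph_mem_su (h : ∏ i, d i = 1) : ph d hd ∈ suGL n F q :=
  ⟨ph_mem_GU K, (mem_specialLinear_iff _).2 (by rw [ph_det K, h])⟩

lemma Over.hasDiag (hO : Over q M) : HasDiag M τ := fun d hd hp =>
  hO.mono _ (mono_mem_su K 1 d hd (by simpa using hp)) (monoGL_isMono _ _)

lemma conj_mem_su {a g : Matrix.GeneralLinearGroup (Fin n) F} (ha : a ∈ Cfsg.GU n F q)
    (hg : g ∈ suGL n F q) : a * g * a⁻¹ ∈ suGL n F q :=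
  ⟨(Cfsg.GU n F q).mul_mem ((Cfsg.GU n F q).mul_mem ha hg.1) ((Cfsg.GU n F q).inv_mem ha), (mem_specialLinear_iff _).2 (by
    rw [det_conj, (mem_specialLinear_iff _).1 hg.2])⟩

section entries

variable {g : Matrix.GeneralLinearGroup (Fin n) F} (hg : g ∈ Cfsg.GU n F q)
include hg

lemma hh_col (i j : Fin n) : hh (col g i) (col g j) = if i = j then 1 else 0 := by
  rw [← mulVec_e, ← mulVec_e, (mem_GU_iff g).1 hg, K.hh_single_left, one_mul]
  by_cases h : i = j <;> simp [h]

lemma inv_apply (i j : Fin n) :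
    ((g⁻¹ : Matrix.GeneralLinearGroup (Fin n) F) : MM) i j = τ ((g : MM) j i) := by
  have h1 := (mem_GU_iff g).1 hg (Pi.single i 1) (((g⁻¹ : Matrix.GeneralLinearGroup (Fin n) F) : MM) *ᵥ Pi.single j 1)
  rw [Matrix.mulVec_mulVec, ← Units.val_mul, mul_inv_cancel, Units.val_one, Matrix.one_mulVec, mulVec_e,
    mulVec_e, K.hh_single_right, K.hh_single_left, map_one, mul_one, one_mul] at h1
  show ((g⁻¹ : Matrix.GeneralLinearGroup (Fin n) F) : MM) i j = _
  rw [← K.invol (((g⁻¹ : Matrix.GeneralLinearGroup (Fin n) F) : MM) i j)]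
  exact congrArg τ h1.symm

lemma inv_coord (z : Fin n → F) (i : Fin n) :
    (((g⁻¹ : Matrix.GeneralLinearGroup (Fin n) F) : MM) *ᵥ z) i = hh z (col g i) := by
  rw [K.hh_eq]
  simp only [Matrix.mulVec, dotProduct, col]
  exact Finset.sum_congr rfl fun l _ => by rw [inv_apply K hg, mul_comm]

lemma Fix.row {c : Fin n} (h : Fix g c) {j : Fin n} (hj : j ≠ c) : (g : MM) c j = 0 := by
  have h1 := hh_col K hg j c
  rw [if_neg hj, K.hh_eq, Finset.sum_eq_single c (fun l _ hl => by
    simp [col, h l hl]) (by simp)] at h1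
  rcases mul_eq_zero.1 h1 with h1 | h1
  · exact h1
  · have := hh_col K hg c c
    rw [if_pos rfl, K.hh_eq, Finset.sum_eq_single c (fun l _ hl => by simp [col, h l hl]) (by simp), h1,
      mul_zero] at this
    exact absurd this zero_ne_one

/-- Conjugates of diagonal elements with at most two non-trivial phases. -/
lemma conj_pair_mulVec {a b : Fin n} (hab : a ≠ b) {d : Fin n → F} {hd : ∀ i, d i * τ (d i) = 1}
    (hoff : ∀ i, i ≠ a → i ≠ b → d i = 1) (z : Fin n → F) :
    ((g * ph d hd * g⁻¹ : Matrix.GeneralLinearGroup (Fin n) F) : MM) *ᵥ z =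
      z + ((d a - 1) * hh z (col g a)) • col g a + ((d b - 1) * hh z (col g b)) • col g b := by
  rw [Units.val_mul, Units.val_mul, ← Matrix.mulVec_mulVec, ← Matrix.mulVec_mulVec, ph_mulVec K]
  set w := ((g⁻¹ : Matrix.GeneralLinearGroup (Fin n) F) : MM) *ᵥ z with hw
  have e : scal d w = w + ((d a - 1) * w a) • Pi.single a 1 + ((d b - 1) * w b) • Pi.single b 1 := by
    funext i
    simp only [scal, Pi.add_apply, Pi.smul_apply, smul_eq_mul]
    by_cases h1 : i = a
    · subst h1; simp [hab]; ring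
    by_cases h2 : i = b
    · subst h2; simp [Ne.symm hab]; ring
    simp [h1, h2, hoff i h1 h2]
  rw [e, Matrix.mulVec_add, Matrix.mulVec_add, Matrix.mulVec_smul, Matrix.mulVec_smul, mulVec_e, mulVec_e,
    hw, inv_coord K hg, inv_coord K hg, Matrix.mulVec_mulVec, ← Units.val_mul, mul_inv_cancel, Units.val_one,
    Matrix.one_mulVec]

lemma card_supp_col_pos (k : Fin n) : 0 < (supp (col g k)).card := by
  rw [Finset.card_pos]
  by_contra h
  have := hh_col K hg k k
  rw [if_pos rfl, K.hh_eq, Finset.sum_eq_zero fun i _ => by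
    rw [notMem_supp.1 (fun hi : i ∈ supp (col g k) => h ⟨i, hi⟩), zero_mul]] at this
  exact zero_ne_one this

lemma col_indep {a b : Fin n} (hab : a ≠ b) {α β : F} (h : α • col g a + β • col g b = 0) :
    α = 0 ∧ β = 0 := by
  have h1 := congrArg (fun w => hh w (col g a)) h
  have h2 := congrArg (fun w => hh w (col g b)) h
  simp only [K.form.add_left, K.form.smul_left, un_zero_left K.form, hh_col K hg, if_true, if_neg hab,
    if_neg hab.symm, mul_one, mul_zero, add_zero, zero_add] at h1 h2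
  exact ⟨h1, h2⟩

end entries

/-- A pseudo-monomial rank-two perturbation forces small supports. -/
lemma small_of_mono {u v : Fin n → F} (hind : ∀ α β : F, α • u + β • v = 0 → α = 0 ∧ β = 0) {A B : F}
    (hA : A ≠ 0) (hB : B ≠ 0) {σ : Fin n → Fin n} (hσ : Function.Injective σ) (J : Finset (Fin n))
    (hJ : 3 ≤ J.card) (hJu : ∀ i ∈ J, u i ≠ 0)
    (hW : ∀ i ∈ J, ∀ l, l ≠ i → l ≠ σ i → A * τ (u i) * u l + B * τ (v i) * v l = 0) :
    (supp u).card ≤ 4 ∧ (supp v).card ≤ 4 := by
  by_cases hdet : ∃ i ∈ J, ∃ j ∈ J, τ (u i) * τ (v j) - τ (u j) * τ (v i) ≠ 0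
  · obtain ⟨i, hi, j, hj, hdet⟩ := hdet
    have hc : ({i, σ i, j, σ j} : Finset (Fin n)).card ≤ 4 := Finset.card_le_four
    constructor <;> refine le_trans (Finset.card_le_card fun l hl => ?_) hc <;>
      by_contra hcon <;> simp only [Finset.mem_insert, Finset.mem_singleton, not_or] at hcon <;>
      obtain ⟨h1, h2, h3, h4⟩ := hcon
    · have e : (A * (τ (u i) * τ (v j) - τ (u j) * τ (v i))) * u l = 0 := by
        linear_combination τ (v j) * hW i hi l h1 h2 - τ (v i) * hW j hj l h3 h4
      exact mem_supp.1 hl ((mul_eq_zero.1 e).resolve_left (mul_ne_zero hA hdet))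
    · have e : (B * (τ (u i) * τ (v j) - τ (u j) * τ (v i))) * v l = 0 := by
        linear_combination τ (u i) * hW j hj l h3 h4 - τ (u j) * hW i hi l h1 h2
      exact mem_supp.1 hl ((mul_eq_zero.1 e).resolve_left (mul_ne_zero hB hdet))
  exfalso
  push Not at hdet
  obtain ⟨i, hi⟩ := Finset.card_pos.1 (by omega : 0 < J.card)
  have hτ : ∀ j ∈ J, τ (u j) ≠ 0 := fun j hj h => hJu j hj (τ.injective (by rw [h, map_zero]))
  obtain ⟨l, hl⟩ : ∃ l, A * τ (u i) * u l + B * τ (v i) * v l ≠ 0 := by
    by_contra hcon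
    push Not at hcon
    exact mul_ne_zero hA (hτ i hi) (hind _ (B * τ (v i)) (funext fun l => hcon l)).1
  have hall : ∀ j ∈ J, l = j ∨ l = σ j := fun j hj => by
    by_contra hcon
    rw [not_or] at hcon
    have h1 := hW j hj l hcon.1 hcon.2
    have : τ (u j) * (A * τ (u i) * u l + B * τ (v i) * v l) = 0 := by
      linear_combination τ (u i) * h1 - B * v l * hdet i hi j hj
    exact hl ((mul_eq_zero.1 this).resolve_left (hτ j hj))
  have h1 : ((J.erase l).image σ) ⊆ {l} := by
    intro m hm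
    obtain ⟨j, hj, rfl⟩ := Finset.mem_image.1 hm
    obtain ⟨hj1, hj2⟩ := Finset.mem_erase.1 hj
    exact Finset.mem_singleton.2 ((hall j hj2).resolve_left (Ne.symm hj1)).symm
  have := Finset.card_le_card h1
  rw [Finset.card_image_of_injective _ hσ, Finset.card_singleton] at this
  have := Finset.pred_card_le_card_erase (a := l) (s := J)
  omega

lemma swapGL_exists (hn : 3 ≤ n) {a b : Fin n} (hab : a ≠ b) :
    ∃ (m : Matrix.GeneralLinearGroup (Fin n) F) (e : Fin n → F), m ∈ suGL n F q ∧ IsMono m ∧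
      (∀ i, e i ≠ 0) ∧ ∀ v i, ((m : MM) *ᵥ v) i = e i * v (Equiv.swap a b i) := by
  obtain ⟨c, hca, hcb⟩ : ∃ c : Fin n, c ≠ a ∧ c ≠ b := by
    obtain ⟨c, -, hc⟩ := Finset.exists_mem_notMem_of_card_lt_card (s := ({a, b} : Finset (Fin n)))
      (t := Finset.univ) (lt_of_le_of_lt Finset.card_le_two (by simp; omega))
    simp at hc; exact ⟨c, hc.1, hc.2⟩
  let d : Fin n → Fˣ := fun i => if i = c then -1 else 1
  have hd : ∀ i, (d i : F) * τ (d i) = 1 := fun i => by
    simp only [d]; split_ifs <;> simp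
  refine ⟨monoGL (Equiv.swap a b) d, fun i => (d ((Equiv.swap a b).symm i) : F), mono_mem_su K _ _ hd ?_,
    monoGL_isMono _ _, fun i => Units.ne_zero _, fun v i => ?_⟩
  · rw [Equiv.Perm.sign_swap hab, Finset.prod_eq_single c (fun i _ hi => by simp [d, hi]) (by simp)]
    simp [d]
  · rw [monoGL_val, monoMat_mulVec', Equiv.symm_swap]

variable (hn : 6 ≤ n) (hO : Over q M)
include hn hO

/-- A column with one non-zero entry. -/
lemma fixer_of_single {x : Matrix.GeneralLinearGroup (Fin n) F} (hx : x ∈ M) (hxm : ¬ IsMono x) {k : Fin n}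
    (hk : (supp (col x k)).card ≤ 1) : Fixer M := by
  obtain ⟨c, hc⟩ := Finset.card_pos.1 (card_supp_col_pos K (hO.le hx).1 k)
  have hone : ∀ l, l ≠ c → (x : MM) l k = 0 := fun l hl => by
    by_contra h
    exact hl (Finset.card_le_one.1 hk l (mem_supp.2 h) c hc)
  by_cases hck : c = k
  · exact ⟨x, hx, hxm, k, fun l hl => hone l (hck ▸ hl)⟩
  obtain ⟨m, e, hm, hmm, -, he⟩ := swapGL_exists K (by omega : 3 ≤ n) hck
  refine ⟨m * x, mul_mem (hO.mono m hm hmm) hx, fun h => hxm ((isMono_iff_mul hmm).1 h), k, fun l hl => ?_⟩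
  show ((m * x : Matrix.GeneralLinearGroup (Fin n) F) : MM) l k = 0
  have h1 := congrFun (mulVec_e (m * x) k) l
  rw [Units.val_mul, ← Matrix.mulVec_mulVec, mulVec_e, he] at h1
  simp only [col, Units.val_mul] at h1
  rw [Units.val_mul, ← h1, hone, mul_zero]
  intro h
  exact hl (by rw [← Equiv.swap_apply_self c k l, h, Equiv.swap_apply_left])

/-- Two columns with a common zero. -/
lemma fixer_or_small (hno : ¬ Fixer M) {x : Matrix.GeneralLinearGroup (Fin n) F} (hx : x ∈ M)
    (hxm : ¬ IsMono x) {a b c : Fin n} (hab : a ≠ b) (ha : (x : MM) c a = 0) (hb : (x : MM) c b = 0) :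
    supp (col x a) = supp (col x b) ∧ (supp (col x a)).card ≤ 4 := by
  obtain ⟨ζ, hζ, hζn⟩ := exists_nonfix K
  have hxU := (hO.le hx).1
  have h2 : ∀ k, 2 ≤ (supp (col x k)).card := fun k => by
    by_contra h
    exact hno (fixer_of_single K hn hO hx hxm (by omega : (supp (col x k)).card ≤ 1))
  let d : Fin n → F := fun i => if i = a then ζ else if i = b then τ ζ else 1
  have hd : ∀ i, d i * τ (d i) = 1 := fun i => by
    simp only [d]; split_ifs <;> simp [hζ, K.invol, mul_comm (τ ζ)]
  have hda : d a = ζ := if_pos rfl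
  have hdb : d b = τ ζ := by simp [d, hab.symm]
  have hoff : ∀ i, i ≠ a → i ≠ b → d i = 1 := fun i h1 h2 => by simp [d, h1, h2]
  have hprod : ∏ i, d i = 1 := by
    rw [Finset.prod_eq_mul a b hab (fun i _ hi => hoff i hi.1 hi.2) (by simp) (by simp), hda, hdb, hζ]
  set y := x * ph d hd * x⁻¹
  have hyM : y ∈ M := mul_mem (mul_mem hx (hO.mono _ (ph_mem_su K hprod) (ph_isMono K))) (inv_mem hx)
  set u := col x a
  set v := col x b
  have hy : ∀ i l, (y : MM) l i =
      (Pi.single i 1 : Fin n → F) l + (ζ - 1) * τ (u i) * u l + (τ ζ - 1) * τ (v i) * v l := by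
    intro i l
    have h1 := congrFun (conj_pair_mulVec K hxU hab hoff (hd := hd) (Pi.single i 1)) l
    rw [mulVec_e, K.hh_single_left, K.hh_single_left, hda, hdb] at h1
    simpa [col, y, u, v, ← mul_assoc] using h1
  have hfix : Fix y c := fun l hl => by rw [hy]; simp [u, v, col, ha, hb, hl]
  have hym : IsMono y := by
    by_contra h; exact hno ⟨y, hyM, h, c, hfix⟩
  obtain ⟨σ, e, he⟩ := hym.exists_eq
  have hσ : ∀ i l, l ≠ σ i → (y : MM) l i = 0 := fun i l hl => by
    rw [he, monoGL_val]; simp [monoMat, hl]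
  -- a coordinate in one support only gives two non-zero entries in one column
  have key : ∀ (z : F) (u v : Fin n → F), z * τ z = 1 → τ z ≠ z → 2 ≤ (supp u).card →
      (∀ i l, (y : MM) l i = (Pi.single i 1 : Fin n → F) l + (z - 1) * τ (u i) * u l + (τ z - 1) * τ (v i) * v l) →
      supp u ⊆ supp v := by
    intro z u v hz hzn hu2 hy i hi
    by_contra hiv
    rw [notMem_supp] at hiv
    obtain ⟨l, hl, hli⟩ := Finset.exists_mem_ne (by omega : 1 < (supp u).card) i
    have hu0 : τ (u i) ≠ 0 := fun h => mem_supp.1 hi (τ.injective (by rw [h, map_zero]))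
    have e1 : (y : MM) l i ≠ 0 := by
      rw [hy, hiv, Pi.single_eq_of_ne hli]
      simp only [map_zero, mul_zero, zero_mul, add_zero, zero_add]
      exact mul_ne_zero (mul_ne_zero (sub_ne_zero.2 fun h => hzn (by rw [h, map_one])) hu0) (mem_supp.1 hl)
    have e2 : (y : MM) i i ≠ 0 := by
      rw [hy, hiv, Pi.single_eq_same]
      simp only [map_zero, mul_zero, add_zero]
      intro h
      have hX : u i * τ (u i) ≠ 0 := mul_ne_zero (mem_supp.1 hi) hu0
      have h' := congrArg τ h
      simp only [map_add, map_mul, map_sub, map_one, map_zero, K.invol] at h'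
      exact hzn (mul_right_cancel₀ hX (by linear_combination h' - h))
    have hl' : l = σ i := by by_contra hne; exact e1 (hσ i l hne)
    have hi' : i = σ i := by by_contra hne; exact e2 (hσ i i hne)
    exact hli (hl'.trans hi'.symm)
  have hsub : supp u = supp v := by
    refine Finset.Subset.antisymm (key ζ u v hζ hζn (h2 a) hy)
      (key (τ ζ) v u (K.nm_tau hζ) (fun h => hζn (τ.injective h)) (h2 b) fun i l => ?_)
    rw [hy, K.invol]; ring
  refine ⟨hsub, ?_⟩
  rcases Nat.lt_or_ge (supp u).card 3 with h | h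
  · omega
  refine (small_of_mono K (u := u) (v := v) (fun α β h => col_indep K hxU hab h) (A := ζ - 1) (B := τ ζ - 1)
    (sub_ne_zero.2 fun h => hζn (by rw [h, map_one]))
    (sub_ne_zero.2 fun h => hζn (by rw [← K.invol ζ, h, map_one]; simp))
    σ.injective (supp u) h (fun i hi => mem_supp.1 hi) fun i _ l h1 h2 => ?_).1
  have := hσ i l h2
  rw [hy, Pi.single_eq_of_ne h1, zero_add] at this
  exact this

/-- A column with two zeros. -/
lemma fixer_of_two_zeros {B : ℕ} (hB : 2 * B < n) (hsmall : ¬ Fixer M → ∀ x ∈ M, ¬ IsMono x → ∀ a b c, a ≠ b →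
    (x : MM) c a = 0 → (x : MM) c b = 0 → (supp (col x a)).card ≤ B)
    {x : Matrix.GeneralLinearGroup (Fin n) F} (hx : x ∈ M)
    (hxm : ¬ IsMono x) {k c c' : Fin n} (hcc : c ≠ c') (hc : (x : MM) c k = 0) (hc' : (x : MM) c' k = 0) :
    Fixer M := by
  by_contra hno
  have hxU := (hO.le hx).1
  have him : ¬ IsMono x⁻¹ := fun h => hxm (by simpa using isMono_inv h)
  have hrow := hsmall hno _ (inv_mem hx) him c c' k hcc
    (by rw [inv_apply K hxU, hc, map_zero]) (by rw [inv_apply K hxU, hc', map_zero])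
  let Z : Finset (Fin n) := Finset.univ.filter fun j => (x : MM) c j = 0
  have hZ : n ≤ Z.card + B := by
    have e : Finset.univ.filter (fun j => ¬ (x : MM) c j = 0) = supp (col x⁻¹ c) := by
      ext j; simp [mem_supp, col, inv_apply K hxU]
    have h1 := Finset.card_filter_add_card_filter_not (s := (Finset.univ : Finset (Fin n)))
      (fun j => (x : MM) c j = 0)
    rw [e, Finset.card_univ, Fintype.card_fin] at h1
    simp only [Z]; omega
  obtain ⟨j₀, hj₀⟩ := Finset.card_pos.1 (by omega : 0 < Z.card)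
  obtain ⟨j₁, hj₁, hne⟩ := Finset.exists_mem_ne (by omega : 1 < Z.card) j₀
  have hzero : ∀ {j}, j ∈ Z → (x : MM) c j = 0 := fun h => (Finset.mem_filter.1 h).2
  have hS := hsmall hno x hx hxm j₀ j₁ c hne.symm (hzero hj₀) (hzero hj₁)
  set S := supp (col x j₀)
  have hsame : ∀ j ∈ Z, supp (col x j) = S := fun j hj => by
    by_cases h : j = j₀
    · rw [h]
    · exact (fixer_or_small K hn hO hno hx hxm h (hzero hj) (hzero hj₀)).1
  have hli : LinearIndependent F (fun (j : Z) (i : S) => (x : MM) i j) := by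
    rw [Fintype.linearIndependent_iff]
    intro g hg j
    have h0 : (∑ i : Z, g i • col x i) = 0 := by
      funext l
      rw [Finset.sum_apply]
      by_cases hl : l ∈ S
      · simpa [col, Finset.sum_apply] using congrFun hg ⟨l, hl⟩
      · refine Finset.sum_eq_zero fun i _ => ?_
        rw [Pi.smul_apply, notMem_supp.1 (fun h => hl (hsame i i.2 ▸ h)), smul_zero]
    have h1 := congrArg (fun w => hh w (col x j)) h0
    simp only [un_sum_left K.form, K.form.smul_left, hh_col K hxU, un_zero_left K.form] at h1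
    rw [Finset.sum_eq_single j (fun i _ hi => by rw [if_neg fun h => hi (Subtype.ext h), mul_zero]) (by simp),
      if_pos rfl, mul_one] at h1
    exact h1
  have := hli.fintype_card_le_finrank
  simp at this
  omega

/-- A fixer gives a non-monomial subgroup normalised by all diagonal isometries. -/
lemma exists_normalised (hfx : Fixer M) : ∃ N : Subgroup (Matrix.GeneralLinearGroup (Fin n) F),
    N ≤ M ∧ Over q N ∧ (∃ x ∈ N, ¬ IsMono x) ∧
      ∀ (d : Fin n → F) (hd : ∀ i, d i * τ (d i) = 1), ∀ g ∈ N, ph d hd * g * (ph d hd)⁻¹ ∈ N := by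
  obtain ⟨x, hx, hxm, c, hc⟩ := hfx
  let G : Set (Matrix.GeneralLinearGroup (Fin n) F) := insert x {g | g ∈ suGL n F q ∧ IsMono g}
  set N := Subgroup.closure G
  have hNM : N ≤ M := (Subgroup.closure_le _).2 fun g hg => by
    rcases hg with rfl | ⟨hg, hgm⟩
    · exact hx
    · exact hO.mono g hg hgm
  have hmN : ∀ g ∈ suGL n F q, IsMono g → g ∈ N := fun g hg hgm =>
    Subgroup.subset_closure (Or.inr ⟨hg, hgm⟩)
  refine ⟨N, hNM, ⟨hNM.trans hO.le, hmN⟩, ⟨x, Subgroup.subset_closure (Or.inl rfl), hxm⟩, fun d hd => ?_⟩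
  suffices hle : N ≤ N.comap (MulAut.conj (ph d hd)).toMonoidHom from fun g hg => hle hg
  refine (Subgroup.closure_le _).2 fun g hg => ?_
  show ph d hd * g * (ph d hd)⁻¹ ∈ N
  rcases hg with rfl | ⟨hg, hgm⟩
  swap
  · exact hmN _ (conj_mem_su K (ph_mem_GU K) hg) (isMono_mul (isMono_mul (ph_isMono K) hgm) (isMono_inv (ph_isMono K)))
  have hxU := (hO.le hx).1
  set P := ∏ i ∈ Finset.univ.erase c, d i
  have hP : P * τ P = 1 := by
    rw [map_prod, ← Finset.prod_mul_distrib]; exact Finset.prod_eq_one fun i _ => hd i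
  let d' : Fin n → F := Function.update d c (τ P)
  let δ : Fin n → F := Function.update (fun _ => 1) c (d c * P)
  have hd' : ∀ i, d' i * τ (d' i) = 1 := fun i => by
    simp only [d', Function.update_apply]; split_ifs
    · exact K.nm_tau hP
    · exact hd i
  have hδ : ∀ i, δ i * τ (δ i) = 1 := fun i => by
    simp only [δ, Function.update_apply]; split_ifs
    · exact K.nm_mul (hd c) hP
    · simp
  have e1 : ph d hd = ph d' hd' * ph δ hδ := Units.ext <|
    CfsgLib.Geometry.matrix_eq_of_mulVec fun v => by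
      rw [Units.val_mul, ← Matrix.mulVec_mulVec, ph_mulVec K, ph_mulVec K, ph_mulVec K]
      funext i
      simp only [scal, d', δ, Function.update_apply]
      split_ifs with h
      · subst h; linear_combination (-(d i * v i)) * hP
      · ring
  have e2 : ph δ hδ * g = g * ph δ hδ := Units.ext <|
    CfsgLib.Geometry.matrix_eq_of_mulVec fun v => by
      rw [Units.val_mul, Units.val_mul, ← Matrix.mulVec_mulVec, ← Matrix.mulVec_mulVec, ph_mulVec K,
        ph_mulVec K]
      funext l
      simp only [scal, Matrix.mulVec, dotProduct, Finset.mul_sum]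
      refine Finset.sum_congr rfl fun j _ => ?_
      by_cases hl : l = c <;> by_cases hj : j = c
      · subst hl hj; ring
      · subst hl; rw [Fix.row K hxU hc hj]; ring
      · subst hj; rw [hc l hl]; ring
      · simp [δ, hl, hj]
  have hp' : ph d' hd' ∈ N := hmN _ (ph_mem_su K (by
    rw [← Finset.mul_prod_erase _ _ (Finset.mem_univ c)]
    simp only [d', Function.update_self]
    rw [Finset.prod_congr rfl fun i hi => Function.update_of_ne (Finset.ne_of_mem_erase hi) _ _,
      mul_comm, hP])) (ph_isMono K)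
  rw [e1, mul_inv_rev, show ph d' hd' * ph δ hδ * g * ((ph δ hδ)⁻¹ * (ph d' hd')⁻¹) =
    ph d' hd' * (ph δ hδ * g * (ph δ hδ)⁻¹) * (ph d' hd')⁻¹ by group, e2, mul_inv_cancel_right]
  exact mul_mem (mul_mem hp' (Subgroup.subset_closure (Or.inl rfl))) (inv_mem hp')

end CfsgLib.UnMono
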