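import Mathlib
import Cfsg.Agent.Lib.UnMono.Sparse

/-!
A non-monomial subgroup over the monomial group normalised by all diagonal isometries is everything.
-/

set_option autoImplicit false
set_option linter.unusedSectionVars false

open scoped Classical

namespace CfsgLib.UnMono

open scoped Matrix
open CfsgLib.Maximal

variable {n q : ℕ} {F : Type*} [Field F] [Fintype F] {τ : F ≃+* F}
  {N : Subgroup (Matrix.GeneralLinearGroup (Fin n) F)}

local notation "hh" => Cfsg.hermForm n F q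
local notation "MM" => Matrix (Fin n) (Fin n) F

lemma ph_mul (d e : Fin n → F) (hd : ∀ i, d i * τ (d i) = 1) (he : ∀ i, e i * τ (e i) = 1)
    (hde : ∀ i, (d * e) i * τ ((d * e) i) = 1) : ph d hd * ph e he = ph (d * e) hde := by
  rw [ph, ph, ph, monoGL_mul, one_mul]
  exact Units.ext (by simp [monoGL_val])

lemma ph_one (h : ∀ i : Fin n, (1 : Fin n → F) i * τ ((1 : Fin n → F) i) = 1) :
    ph (1 : Fin n → F) h = 1 := by
  rw [ph]
  exact Units.ext (by simp [monoGL_val, monoMat_one])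

/-- Elements that differ from an element of `N` by an element of `A`, which normalises `N`. -/
def hat (N A : Subgroup (Matrix.GeneralLinearGroup (Fin n) F)) (hA : ∀ a ∈ A, ∀ g ∈ N, a * g * a⁻¹ ∈ N) :
    Subgroup (Matrix.GeneralLinearGroup (Fin n) F) where
  carrier := {g | ∃ a ∈ A, g * a ∈ N}
  one_mem' := ⟨1, one_mem A, by simp⟩
  mul_mem' := by
    rintro g h ⟨a, ha, hga⟩ ⟨b, hb, hhb⟩
    refine ⟨b * a, mul_mem hb ha, ?_⟩
    have h1 := hA a⁻¹ (inv_mem ha) _ hhb
    rw [inv_inv] at h1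
    have h2 := mul_mem hga h1
    convert h2 using 1; group
  inv_mem' := by
    rintro g ⟨a, ha, hga⟩
    refine ⟨a⁻¹, inv_mem ha, ?_⟩
    have h1 := hA a ha _ (inv_mem hga)
    convert h1 using 1; group

lemma mem_hat {A : Subgroup (Matrix.GeneralLinearGroup (Fin n) F)} {hA : ∀ a ∈ A, ∀ g ∈ N, a * g * a⁻¹ ∈ N}
    {g : Matrix.GeneralLinearGroup (Fin n) F} : g ∈ hat N A hA ↔ ∃ a ∈ A, g * a ∈ N := Iff.rfl

variable (K : Ctx n q τ)
include K

/-- The diagonal isometries. -/
def phGroup : Subgroup (Matrix.GeneralLinearGroup (Fin n) F) where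
  carrier := {g | ∃ d hd, g = ph (τ := τ) d hd}
  one_mem' := ⟨1, fun i => by simp, (ph_one _).symm⟩
  mul_mem' := by
    rintro g h ⟨d, hd, rfl⟩ ⟨e, he, rfl⟩
    exact ⟨d * e, fun i => K.nm_mul (hd i) (he i), ph_mul d e hd he _⟩
  inv_mem' := by
    rintro g ⟨d, hd, rfl⟩
    refine ⟨fun i => τ (d i), fun i => K.nm_tau (hd i), inv_eq_of_mul_eq_one_right ?_⟩
    rw [ph_mul d _ hd _ (fun i => K.nm_mul (hd i) (K.nm_tau (hd i)))]
    refine Units.ext (CfsgLib.Geometry.matrix_eq_of_mulVec fun v => ?_)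
    rw [ph_mulVec K, Units.val_one, Matrix.one_mulVec]
    funext i
    simp [scal, hd i]

/-- A transvection scalar at an isotropic vector. -/
def HK (τ : F ≃+* F) (q : ℕ) (N : Subgroup (Matrix.GeneralLinearGroup (Fin n) F)) (w : Fin n → F) (k : F) :
    Prop :=
  τ k = -k ∧ Has N (k • w) (fvec (Cfsg.hermForm n F q) w)

lemma HK.smul {w : Fin n → F} {c k : F} (hc : c ≠ 0) :
    HK τ q N (c • w) k ↔ HK τ q N w (k * (c * τ c)) := by
  have e : Has N (k • c • w) (fvec hh (c • w)) ↔ Has N ((k * (c * τ c)) • w) (fvec hh w) := by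
    rw [smul_smul, un_fvec_smul K.form, ← Has.smul_iff, smul_smul]
    rw [show τ c * (k * c) = k * (c * τ c) by ring]
  have hcc : c * τ c ≠ 0 := mul_ne_zero hc fun h => hc (τ.injective (by rw [h, map_zero]))
  constructor
  · rintro ⟨h1, h2⟩
    exact ⟨by rw [map_mul, h1, K.fix_mul_tau]; ring, e.1 h2⟩
  · rintro ⟨h1, h2⟩
    refine ⟨mul_right_cancel₀ hcc ?_, e.2 h2⟩
    rw [map_mul, K.fix_mul_tau] at h1
    linear_combination h1

lemma HK.map_normal {w : Fin n → F} {k : F} (h : HK τ q N w k) {g : Matrix.GeneralLinearGroup (Fin n) F}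
    (hg : g ∈ Cfsg.GU n F q) (hnorm : ∀ x ∈ N, g * x * g⁻¹ ∈ N) : HK τ q N ((g : MM) *ᵥ w) k := by
  obtain ⟨hk, h1, h2⟩ := h
  obtain ⟨h', he⟩ := conj_tv g (k • w) (fvec hh w) h1
  have h3 : Has N ((g : MM) *ᵥ (k • w)) (fvec hh w ᵥ* ((g⁻¹ : Matrix.GeneralLinearGroup (Fin n) F) : MM)) :=
    ⟨h', he ▸ hnorm _ h2⟩
  rw [Matrix.mulVec_smul] at h3
  refine ⟨hk, ?_⟩
  convert h3 using 1
  refine dot_ext fun y => ?_
  obtain ⟨x, rfl⟩ := mulVec_surj g y
  rw [dot_vecMul_inv, un_dot K.form, un_dot K.form]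
  exact (mem_GU_iff g).1 hg x w

variable (hn : 6 ≤ n) (hO : Over q N)
  (hD : ∀ (d : Fin n → F) (hd : ∀ i, d i * τ (d i) = 1), ∀ g ∈ N, ph d hd * g * (ph d hd)⁻¹ ∈ N)
include hn hO hD

lemma hnormal : ∀ a ∈ phGroup K, ∀ g ∈ N, a * g * a⁻¹ ∈ N := by
  rintro a ⟨d, hd, rfl⟩ g hg; exact hD d hd g hg

lemma hat_GU {g : Matrix.GeneralLinearGroup (Fin n) F} (hg : g ∈ hat N (phGroup K) (hnormal K hn hO hD)) :
    g ∈ Cfsg.GU n F q := by
  obtain ⟨a, ⟨d, hd, rfl⟩, h⟩ := mem_hat.1 hg
  simpa using (Cfsg.GU n F q).mul_mem (hO.le h).1 ((Cfsg.GU n F q).inv_mem (ph_mem_GU K (d := d) (hd := hd)))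

lemma ph_mem_hat (d : Fin n → F) (hd : ∀ i, d i * τ (d i) = 1) :
    ph d hd ∈ hat N (phGroup K) (hnormal K hn hO hD) :=
  mem_hat.2 ⟨(ph d hd)⁻¹, inv_mem (show ph d hd ∈ phGroup K from ⟨d, hd, rfl⟩), by simp⟩

lemma mem_of_hat {g : Matrix.GeneralLinearGroup (Fin n) F} (hg : g ∈ hat N (phGroup K) (hnormal K hn hO hD))
    (hdet : (g : MM).det = 1) : g ∈ N := by
  obtain ⟨a, ⟨d, hd, rfl⟩, h⟩ := mem_hat.1 hg
  have h1 := (mem_specialLinear_iff _).1 (hO.le h).2
  rw [Units.val_mul, Matrix.det_mul, hdet, one_mul, ph_det K] at h1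
  simpa using mul_mem h (inv_mem (hO.mono _ (ph_mem_su K h1) (ph_isMono K (d := d) (hd := hd))))

/-- A transvection with some scalar in a plane through a coordinate vector. -/
lemma exists_HK (hq : 3 ≤ q) (hNm : ∃ x ∈ N, ¬ IsMono x) :
    ∃ (w : Fin n → F) (b : Fin n) (k : F), hh w w = 0 ∧ w b = 1 ∧ HK τ q N w k ∧ k ≠ 0 ∧ k ≠ -1 := by
  set H := hat N (phGroup K) (hnormal K hn hO hD)
  have hτ0 : ∀ {x : F}, x ≠ 0 → τ x ≠ 0 := fun hx h => hx (τ.injective (by rw [h, map_zero]))
  -- a column with a norm other than zero and one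
  obtain ⟨x, hxH, k₀, b, hb0, hb1⟩ : ∃ x ∈ H, ∃ k b : Fin n, (x : MM) b k ≠ 0 ∧
      (x : MM) b k * τ ((x : MM) b k) ≠ 1 := by
    obtain ⟨x, hx, hxm⟩ := hNm
    have hxH : x ∈ H := mem_hat.2 ⟨1, one_mem _, by simpa using hx⟩
    have hxU := hat_GU K hn hO hD hxH
    obtain ⟨k, hk⟩ : ∃ k, 2 ≤ (supp (col x k)).card := by
      by_contra hcon
      push Not at hcon
      refine hxm fun k => ?_
      obtain ⟨i, hi⟩ := Finset.card_pos.1 (card_supp_col_pos K hxU k)
      exact ⟨i, fun l hl => by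
        by_contra h
        exact hl (Finset.card_le_one.1 (Nat.le_of_lt_succ (hcon k)) l (mem_supp.2 h) i hi)⟩
    obtain ⟨b, l, hb, hl, hbl⟩ := Finset.one_lt_card_iff.1 (show 1 < (supp (col x k)).card by omega)
    rw [mem_supp] at hb hl
    by_cases h1 : col x k b * τ (col x k b) = 1
    swap
    · exact ⟨x, hxH, k, b, hb, h1⟩
    by_cases h2 : col x k l * τ (col x k l) = 1
    swap
    · exact ⟨x, hxH, k, l, hl, h2⟩
    obtain ⟨ζ, hζ, hT1, hT2⟩ := exists_tr_ne K hq 2 1
    obtain ⟨j, hjk⟩ := Fintype.exists_ne_of_one_lt_card (by simp; omega : 1 < Fintype.card (Fin n)) k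
    let d : Fin n → F := fun i => if i = k then ζ else 1
    have hd : ∀ i, d i * τ (d i) = 1 := fun i => by simp only [d]; split_ifs <;> simp [hζ]
    refine ⟨x * ph d hd * x⁻¹, mul_mem (mul_mem hxH (ph_mem_hat K hn hO hD d hd)) (inv_mem hxH), b, l, ?_⟩
    have h3 := congrFun (conj_pair_mulVec K hxU hjk.symm (hd := hd)
      (fun i h1 _ => by simp [d, h1]) (Pi.single b 1)) l
    rw [mulVec_e, K.hh_single_left, K.hh_single_left] at h3
    simp [col, d, hjk, hbl.symm] at h3
    simp only [col] at h1 h2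
    have hne : ζ - 1 ≠ 0 := fun h => hT1 (by rw [sub_eq_zero.1 h, map_one]; norm_num)
    have h4 : ((x * ph d hd * x⁻¹ : Matrix.GeneralLinearGroup (Fin n) F) : MM) l b =
        (ζ - 1) * τ ((x : MM) b k) * (x : MM) l k := by
      rw [← h3]; simp [d]
    rw [h4]
    refine ⟨mul_ne_zero (mul_ne_zero hne (hτ0 hb)) hl, fun h => hT2 ?_⟩
    simp only [map_mul, map_sub, map_one, K.invol] at h
    linear_combination hζ + (ζ - 1) * (τ ζ - 1) * ((x : MM) l k * τ ((x : MM) l k)) * h1 +
      (ζ - 1) * (τ ζ - 1) * h2 - h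
  set u := col x k₀
  have hxU := hat_GU K hn hO hD hxH
  have huu : hh u u = 1 := by simpa [u] using hh_col K hxU k₀ k₀
  set X := u b * τ (u b) with hX
  have hX1 : X ≠ 1 := hb1
  have hX0 : X ≠ 0 := mul_ne_zero hb0 (hτ0 hb0)
  -- the phases
  let A := ((trs τ).image fun T => (1 - X) * T).erase ((1 - X) * 2)
  let B := (trs τ).image fun T => 2 - X * T
  have hXf : τ X = X := K.fix_mul_tau _
  obtain ⟨z, hzA, hzB⟩ := exists_common K (A := A) (B := B)
    (fun z hz => by
      obtain ⟨T, hT, rfl⟩ := Finset.mem_image.1 (Finset.mem_erase.1 hz).2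
      rw [map_mul, map_sub, map_one, hXf, trs_fix K T hT])
    (fun z hz => by
      obtain ⟨T, hT, rfl⟩ := Finset.mem_image.1 hz
      rw [map_sub, map_mul, hXf, trs_fix K T hT, map_ofNat])
    (by
      have h1 : ((trs τ).image fun T => (1 - X) * T).card = (trs τ).card :=
        Finset.card_image_of_injective _ fun s t h => mul_left_cancel₀ (sub_ne_zero.2 (Ne.symm hX1)) h
      have h2 : B.card = (trs τ).card := Finset.card_image_of_injective _ fun s t h =>
        mul_left_cancel₀ hX0 (by linear_combination -h)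
      have h3 := Finset.pred_card_le_card_erase (a := (1 - X) * 2)
        (s := (trs τ).image fun T => (1 - X) * T)
      have := card_trs K
      simp only [A]; omega)
  obtain ⟨hz2, hzA⟩ := Finset.mem_erase.1 hzA
  obtain ⟨T₂, hT₂, h2⟩ := Finset.mem_image.1 hzA
  obtain ⟨T₁, hT₁, h1⟩ := Finset.mem_image.1 hzB
  obtain ⟨ρ, hρ, rfl⟩ := Finset.mem_image.1 hT₂
  obtain ⟨δ, hδ, rfl⟩ := Finset.mem_image.1 hT₁
  rw [mem_mu] at hρ hδ
  have hrel : X * (δ + τ δ) + (1 - X) * (ρ + τ ρ) = 2 := by linear_combination h2 - h1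
  set ζ := δ * ρ with hζd
  set ξ := δ * τ ρ with hξd
  have hζ : ζ * τ ζ = 1 := K.nm_mul hδ hρ
  have hξ : ξ * τ ξ = 1 := K.nm_mul hδ (K.nm_tau hρ)
  have hcond : ζ + (ζ - 1) * (ξ - 1) * X + ξ = 2 * δ := by
    rw [hζd, hξd]; linear_combination δ * hrel - X * hδ + δ * δ * X * hρ
  have hprod : ξ * ζ = δ * δ := by rw [hζd, hξd]; linear_combination δ * δ * hρ
  have hξ1 : ξ ≠ 1 := fun h => by
    have hδρ : δ = ρ := by rw [hξd] at h; linear_combination ρ * h - δ * hρ
    rw [hδρ] at hrel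
    exact hz2 (by rw [← h2]; linear_combination (1 - X) * hrel)
  obtain ⟨j, hjk⟩ := Fintype.exists_ne_of_one_lt_card (by simp; omega : 1 < Fintype.card (Fin n)) k₀
  let d₁ : Fin n → F := fun i => if i = k₀ then ξ else 1
  have hd₁ : ∀ i, d₁ i * τ (d₁ i) = 1 := fun i => by simp only [d₁]; split_ifs <;> simp [hξ]
  let d₂ : Fin n → F := fun i => if i = b then ζ else 1
  have hd₂ : ∀ i, d₂ i * τ (d₂ i) = 1 := fun i => by simp only [d₂]; split_ifs <;> simp [hζ]
  set y := ph d₂ hd₂ * (x * ph d₁ hd₁ * x⁻¹) with hy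
  have hyH : y ∈ H := mul_mem (ph_mem_hat K hn hO hD d₂ hd₂)
    (mul_mem (mul_mem hxH (ph_mem_hat K hn hO hD d₁ hd₁)) (inv_mem hxH))
  have hyU := hat_GU K hn hO hD hyH
  set e : Fin n → F := Pi.single b 1
  have hyz : ∀ z : Fin n → F, (y : MM) *ᵥ z = z + ((ξ - 1) * hh z u) • u +
      ((ζ - 1) * (z b + (ξ - 1) * hh z u * u b)) • e := by
    intro z
    rw [hy, Units.val_mul, ← Matrix.mulVec_mulVec,
      conj_pair_mulVec K hxU hjk.symm (fun i h1 _ => by simp [d₁, h1]) z, ph_mulVec K]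
    funext i
    simp only [scal, d₁, d₂, e, Pi.add_apply, Pi.smul_apply, smul_eq_mul, if_true, if_neg hjk, u]
    by_cases h : i = b
    · subst h; simp; ring
    · simp [h]
  set α := 1 + (ζ - 1) * (1 + (ξ - 1) * X) - δ with hα
  set c := (ξ - 1) * τ (u b) with hc
  set v := α • e + c • u with hv
  have hyu : (y : MM) *ᵥ u = ξ • u + (ξ * u b * (ζ - 1)) • e := by
    rw [hyz, huu]; module
  have hye : (y : MM) *ᵥ e = δ • e + v := by
    rw [hyz, show hh e u = τ (u b) by simp [e, K.hh_single_left], hv, hα, hc,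
      show e b = 1 by simp [e], hX]
    module
  have hsum : α + ξ = δ := by rw [hα]; linear_combination hcond
  have hsq : α * α + c * (ξ * u b * (ζ - 1)) = 0 := by
    rw [hc, show α = δ - ξ by linear_combination hsum]
    linear_combination ξ * hcond - hprod - ξ * (ξ - 1) * (ζ - 1) * hX
  have hyv : (y : MM) *ᵥ v = δ • v := by
    rw [hv, Matrix.mulVec_add, Matrix.mulVec_smul, Matrix.mulVec_smul, hye, hyu, hv]
    match_scalars
    · linear_combination hsq
    · linear_combination c * hsum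
  have hc0 : c ≠ 0 := mul_ne_zero (sub_ne_zero.2 hξ1) (hτ0 hb0)
  have hee : hh e e = 1 := by simp [e, K.hh_single_left]
  have hiso := (mem_GU_iff y).1 hyU
  have hvv : hh v v = 0 := by
    have h1 := hiso v e
    rw [hyv, hye, K.form.smul_left, un_add_right K.form, un_smul_right K.form] at h1
    have hd0 : δ ≠ 0 := K.ne_of_nm hδ
    exact (mul_eq_zero.1 (show δ * hh v v = 0 by linear_combination h1 - hh v e * hδ)).resolve_left hd0
  have hve : hh v e = v b := by simp [e, K.hh_single_right]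
  have hvb : v b ≠ 0 := by
    intro h
    have h' : α + c * u b = 0 := by simpa [hv, e] using h
    have e1 : v = c • u + (-(c * u b)) • e := by
      rw [hv, show α = -(c * u b) by linear_combination h']; abel
    have h2 := hvv
    rw [e1] at h2
    simp only [K.form.add_left, un_add_right K.form, K.form.smul_left, un_smul_right K.form, huu, hee,
      show hh e u = τ (u b) by simp [e, K.hh_single_left],
      show hh u e = u b by simp [e, K.hh_single_right], map_mul, map_neg] at h2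
    have : c * τ c * (1 - X) = 0 := by rw [hX]; linear_combination h2
    exact mul_ne_zero (mul_ne_zero hc0 (hτ0 hc0)) (sub_ne_zero.2 (Ne.symm hX1)) this
  have hev : hh e v = τ (v b) := by simp [e, K.hh_single_left]
  have hskew : δ * τ (v b) + τ δ * v b = 0 := by
    have h1 := hiso e e
    rw [hye] at h1
    simp only [K.form.add_left, un_add_right K.form, K.form.smul_left, un_smul_right K.form, hee, hve, hev,
      hvv] at h1
    linear_combination h1 - hδ
  set t := y ^ (q + 1) with ht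
  have hpow : ∀ m : ℕ, ((y ^ m : Matrix.GeneralLinearGroup (Fin n) F) : MM) *ᵥ v = δ ^ m • v ∧
      δ • (((y ^ m : Matrix.GeneralLinearGroup (Fin n) F) : MM) *ᵥ e) =
        δ ^ (m + 1) • e + ((m : F) * δ ^ m) • v := by
    intro m
    induction m with
    | zero => simp
    | succ m ih =>
      obtain ⟨ih1, ih2⟩ := ih
      rw [pow_succ', Units.val_mul]
      refine ⟨by rw [← Matrix.mulVec_mulVec, ih1, Matrix.mulVec_smul, hyv, smul_smul, ← pow_succ], ?_⟩
      rw [← Matrix.mulVec_mulVec, ← Matrix.mulVec_smul, ih2, Matrix.mulVec_add, Matrix.mulVec_smul,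
        Matrix.mulVec_smul, hye, hyv]
      push_cast
      match_scalars <;> ring
  have hδq : δ ^ (q + 1) = 1 := K.pow_succ_of_nm hδ
  have htv : (t : MM) *ᵥ v = v := by rw [ht, (hpow _).1, hδq, one_smul]
  have hte : (t : MM) *ᵥ e = e + τ δ • v := by
    have h1 := (hpow (q + 1)).2
    rw [pow_succ δ (q + 1), hδq, one_mul, mul_one, Nat.cast_add, Nat.cast_one, K.cast_q, zero_add,
      one_smul, ← ht] at h1
    have h2 := congrArg (τ δ • ·) h1
    simpa [smul_add, smul_smul, mul_comm (τ δ), hδ] using h2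
  have hfix : ∀ r : Fin n → F, hh r e = 0 → hh r v = 0 → (t : MM) *ᵥ r = r := by
    intro r hre hrv
    have hrb : r b = 0 := by simpa [e, K.hh_single_right] using hre
    have hru : hh r u = 0 := by
      rw [hv, un_add_right K.form, un_smul_right K.form, un_smul_right K.form, hre, mul_zero, zero_add] at hrv
      exact (mul_eq_zero.1 hrv).resolve_left (hτ0 hc0)
    have hyr : (y : MM) *ᵥ r = r := by rw [hyz, hru, hrb]; simp
    have : ∀ m : ℕ, ((y ^ m : Matrix.GeneralLinearGroup (Fin n) F) : MM) *ᵥ r = r := by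
      intro m
      induction m with
      | zero => simp
      | succ m ih => rw [pow_succ', Units.val_mul, ← Matrix.mulVec_mulVec, ih, hyr]
    exact this _
  set k := τ δ / τ (v b) with hk
  have hτv : τ (v b) ≠ 0 := hτ0 hvb
  have hks : τ k = -k := by
    rw [hk, map_div₀, K.invol, K.invol, ← neg_div, div_eq_div_iff hvb hτv]
    linear_combination hskew
  have hteq : t = tv (k • v) (fvec hh v) (un_tv_dot K.form hvv k) := by
    refine Units.ext (CfsgLib.Geometry.matrix_eq_of_mulVec fun z => ?_)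
    rw [tv_mulVec, un_dot K.form]
    set a := hh z v / τ (v b)
    set c' := (hh z e - a) / v b
    have ha : a * τ (v b) = hh z v := div_mul_cancel₀ _ hτv
    have hc' : c' * v b = hh z e - a := div_mul_cancel₀ _ hvb
    set r := z + (-a) • e + (-c') • v with hr
    have hre : hh r e = 0 := by
      rw [hr, K.form.add_left, K.form.add_left, K.form.smul_left, K.form.smul_left, hee, hve]
      linear_combination -hc'
    have hrv : hh r v = 0 := by
      rw [hr, K.form.add_left, K.form.add_left, K.form.smul_left, K.form.smul_left, hvv, hev]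
      linear_combination -ha
    have hz : z = a • e + c' • v + r := by rw [hr]; module
    conv_lhs => rw [hz, Matrix.mulVec_add, Matrix.mulVec_add, Matrix.mulVec_smul, Matrix.mulVec_smul, hte,
      htv, hfix r hre hrv]
    rw [← ha, hk]
    conv_rhs => rw [hz]
    rw [smul_smul, show a * τ (v b) * (τ δ / τ (v b)) = a * τ δ by field_simp]
    module
  have htdet : (t : MM).det = 1 := by
    rw [ht, Units.val_pow_eq_pow_val, Matrix.det_pow, hy, Units.val_mul, Matrix.det_mul, det_conj,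
      ph_det K, ph_det K, Finset.prod_eq_single b (fun i _ hi => by simp [d₂, hi]) (by simp),
      Finset.prod_eq_single k₀ (fun i _ hi => by simp [d₁, hi]) (by simp)]
    simp only [d₁, d₂, if_true]
    rw [mul_comm, hprod, mul_pow, hδq, one_mul]
  have hHK : HK τ q N v k :=
    ⟨hks, un_tv_dot K.form hvv k, hteq ▸ mem_of_hat K hn hO hD (pow_mem hyH _) htdet⟩
  refine ⟨(v b)⁻¹ • v, b, τ δ * v b, ?_, by simp [hvb], ?_, mul_ne_zero (hτ0 (K.ne_of_nm hδ)) hvb, ?_⟩
  · rw [K.form.smul_left, un_smul_right K.form, hvv, mul_zero, mul_zero]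
  · rw [HK.smul K (inv_ne_zero hvb)]
    convert hHK using 1
    rw [hk, map_inv₀]; field_simp
  · intro h
    have hvbd : v b = -δ := by linear_combination δ * h - v b * hδ
    have e2 : ξ * (X - 1) = X - 2 * δ := by
      have h4 : α + c * u b = -δ := by rw [← hvbd]; simp [hv, e]
      rw [hc] at h4
      linear_combination h4 - hsum + (ξ - 1) * hX
    -- the scalar is skew, so minus one forces characteristic two
    have h2' : (2 : F) = 0 := by
      have h5 := hskew
      rw [hvbd, map_neg] at h5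
      linear_combination -h5 - 2 * hδ
    have e3 : ξ * (X - 1) = X := by linear_combination e2 - δ * h2'
    have e4 := congrArg τ e3
    rw [map_mul, map_sub, map_one, hXf] at e4
    have e5 : τ ξ = ξ := mul_right_cancel₀ (sub_ne_zero.2 hX1) (e4.trans e3.symm)
    rw [e5] at hξ
    rcases mul_self_eq_one_iff.1 hξ with h6 | h6
    · exact hξ1 h6
    · exact hξ1 (by linear_combination h6 - h2')

/-- The scalars at such a vector are all skew elements. -/
lemma full_of_HK {w : Fin n → F} {b : Fin n} {k₀ : F} (hww : hh w w = 0) (hwb : w b = 1)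
    (hk : HK τ q N w k₀) (hk0 : k₀ ≠ 0) (hk1 : k₀ ≠ -1) : UFull τ q N w := by
  set e : Fin n → F := Pi.single b 1
  let r : Fin n → F := Function.update w b 0
  let wv : F → Fin n → F := fun ρ => e + ρ • r
  have hw : w = wv 1 := by
    funext i; by_cases h : i = b
    · subst h; simp [wv, e, r, hwb]
    · simp [wv, e, r, h]
  have hrb : r b = 0 := Function.update_self ..
  have hee : hh e e = 1 := by simp [e, K.hh_single_left]
  have her : hh e r = 0 := by simp [e, K.hh_single_left, hrb]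
  have hre : hh r e = 0 := by simp [e, K.hh_single_right, hrb]
  have hrr : hh r r = -1 := by
    have h := hww
    rw [hw] at h
    simp only [wv, one_smul, K.form.add_left, un_add_right K.form, hee, her, hre] at h
    linear_combination h
  have hwd : ∀ ρ ρ' : F, hh (wv ρ) (wv ρ') = 1 - ρ * τ ρ' := fun ρ ρ' => by
    simp only [wv, K.form.add_left, un_add_right K.form, K.form.smul_left, un_smul_right K.form, hee, her,
      hre, hrr]
    ring
  -- rotation
  have rot : ∀ (ρ ρ' k : F), ρ * τ ρ = 1 → ρ' * τ ρ' = 1 → HK τ q N (wv ρ) k → HK τ q N (wv ρ') k := by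
    intro ρ ρ' k hρ hρ' h
    set η := ρ * τ ρ'
    have hη : η * τ η = 1 := K.nm_mul hρ (K.nm_tau hρ')
    let d : Fin n → F := fun i => if i = b then η else 1
    have hd : ∀ i, d i * τ (d i) = 1 := fun i => by simp only [d]; split_ifs <;> simp [hη]
    have h1 := HK.map_normal K h (g := ph d hd) (ph_mem_GU K) (hD d hd)
    rw [ph_mulVec K] at h1
    have e1 : scal d (wv ρ) = η • wv ρ' := by
      funext i
      by_cases hi : i = b
      · subst hi; simp [scal, d, wv, e, hrb]
      · simp [scal, d, wv, e, hi, η]; linear_combination (-(ρ * r i)) * hρ'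
    rw [e1, HK.smul K (K.ne_of_nm hη), hη, mul_one] at h1
    exact h1
  let A : Set F := {k | HK τ q N w k}
  have hadd : ∀ {a c}, a ∈ A → c ∈ A → a + c ∈ A := fun {a c} ha hc =>
    ⟨by rw [map_add, ha.1, hc.1]; ring, by rw [add_smul]; exact ha.2.add_left hc.2⟩
  have hzero : (0 : F) ∈ A := ⟨by simp, by rw [zero_smul]; exact has_of_zero (Or.inl rfl)⟩
  have hneg : ∀ {a}, a ∈ A → -a ∈ A := fun {a} ha =>
    ⟨by rw [map_neg, ha.1], by rw [neg_smul]; exact ha.2.neg⟩
  let R : AddSubgroup F :=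
    { carrier := {m | τ m = m ∧ ∀ k ∈ A, m * k ∈ A}
      zero_mem' := ⟨map_zero _, fun k _ => by rw [zero_mul]; exact hzero⟩
      add_mem' := fun {a c} ha hc => ⟨by rw [map_add, ha.1, hc.1], fun k hk => by
        rw [add_mul]; exact hadd (ha.2 k hk) (hc.2 k hk)⟩
      neg_mem' := fun {a} ha => ⟨by rw [map_neg, ha.1], fun k hk => by
        rw [neg_mul]; exact hneg (ha.2 k hk)⟩ }
  set C := k₀ * k₀ + k₀ with hCd
  have hC : C ≠ 0 := by
    rw [hCd, show k₀ * k₀ + k₀ = k₀ * (k₀ + 1) by ring]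
    exact mul_ne_zero hk0 fun h => hk1 (by linear_combination h)
  have hmult : ∀ ω : F, ω * τ ω = 1 → 1 - 2 * k₀ * k₀ + (C * ω + τ (C * ω)) ∈ R := by
    intro ω hω
    set c := 1 + k₀ * (1 - τ ω)
    set c' := 1 + k₀ * (ω - 1)
    have hval : 1 - 2 * k₀ * k₀ + (C * ω + τ (C * ω)) = c * τ c := by
      simp only [c, hCd, map_add, map_mul, map_sub, map_one, K.invol, hk.1]
      linear_combination k₀ * k₀ * hω
    rw [hval]
    refine ⟨K.fix_mul_tau c, fun k hkA => ?_⟩
    rcases eq_or_ne c 0 with h | hc0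
    · rw [h, zero_mul, zero_mul]; exact hzero
    obtain ⟨_, h2⟩ := (rot 1 ω k₀ (by simp) hω (hw ▸ hk)).2
    have h3 := HK.map_normal K hkA (hO.le h2).1 fun x hx => mul_mem (mul_mem h2 hx) (inv_mem h2)
    rw [tv_mulVec, un_dot K.form, smul_smul, hw, hwd, one_mul] at h3
    have e1 : wv 1 + ((1 - τ ω) * k₀) • wv ω = c • wv (c' / c) := by
      simp only [wv, c']
      match_scalars
      · simp only [c]; ring
      · field_simp
        linear_combination (-k₀) * hω
    rw [e1, HK.smul K hc0] at h3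
    have hρ : c' / c * τ (c' / c) = 1 := by
      rw [map_div₀, div_mul_div_comm, div_eq_one_iff_eq (mul_ne_zero hc0
        fun h => hc0 (τ.injective (by rw [h, map_zero])))]
      simp only [c, c', map_add, map_mul, map_sub, map_one, K.invol, hk.1]
      ring
    have h4 := rot (c' / c) 1 _ hρ (by simp) h3
    rw [← hw] at h4
    rwa [mul_comm] at h4
  let R₀ : AddSubgroup F :=
    { carrier := {m | τ m = m}
      zero_mem' := map_zero _
      add_mem' := fun {a c} (ha : τ a = a) (hc : τ c = c) => show τ (a + c) = a + c by rw [map_add, ha, hc]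
      neg_mem' := fun {a} (ha : τ a = a) => show τ (-a) = -a by rw [map_neg, ha] }
  have hR0 : Nat.card R₀ = q := by
    have e1 : Nat.card R₀ = (fixF τ).card := by
      rw [Nat.card_eq_fintype_card]; exact Fintype.card_of_subtype _ fun x => mem_fixF
    rw [e1]
    refine le_antisymm (card_fixF_le K) ((card_skewF K).trans (Finset.card_le_card_of_injOn (k₀ * ·)
      (fun x hx => ?_) fun a _ c _ h => mul_left_cancel₀ hk0 h))
    simp only [Finset.mem_coe, mem_skewF] at hx
    rw [Finset.mem_coe, mem_fixF, map_mul, hk.1, hx, neg_mul_neg]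
  have hRle : R ≤ R₀ := fun m hm => hm.1
  have hRcard : q + 1 ≤ 2 * Nat.card R := by
    refine (card_lin K hC).trans (Nat.mul_le_mul_left 2 ?_)
    have e1 : Nat.card R = (Finset.univ.filter fun m => m ∈ R).card := by
      rw [Nat.card_eq_fintype_card, Fintype.card_subtype]
    rw [e1]
    refine Finset.card_le_card_of_injOn (1 - 2 * k₀ * k₀ + ·) (fun x hx => ?_) fun a _ c _ h => add_left_cancel h
    obtain ⟨ω, hω, rfl⟩ := Finset.mem_image.1 hx
    simp only [Finset.coe_filter, Finset.mem_univ, true_and, Set.mem_setOf_eq]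
    exact hmult ω (mem_mu.1 hω)
  have hReq : R = R₀ := by
    refine AddSubgroup.eq_of_le_of_card_ge hRle ?_
    obtain ⟨m, hm⟩ := AddSubgroup.card_dvd_of_le hRle
    rw [hR0] at hm ⊢
    rcases Nat.lt_or_ge m 2 with h | h
    · interval_cases m <;> [have := K.two_le_q; skip] <;> omega
    · nlinarith
  intro k hks
  have hm : k / k₀ ∈ R₀ := show τ (k / k₀) = k / k₀ by rw [map_div₀, hks, hk.1, neg_div_neg_eq]
  rw [← hReq] at hm
  have h := (hm.2 k₀ hk).2
  rwa [div_mul_cancel₀ _ hk0] at h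

/-- All vectors on two coordinates are full. -/
lemma pairs_full (hq : 3 ≤ q) (hNm : ∃ x ∈ N, ¬ IsMono x) :
    ∀ w : Fin n → F, hh w w = 0 → (supp w).card ≤ 2 → UFull τ q N w := by
  obtain ⟨w, b, k, hww, hwb, hk, hk0, hk1⟩ := exists_HK K hn hO hD hq hNm
  have hfull := full_of_HK K hn hO hD hww hwb hk hk0 hk1
  obtain ⟨l, hlb, hl⟩ : ∃ l, l ≠ b ∧ w l ≠ 0 := by
    by_contra hcon
    push Not at hcon
    rw [K.hh_self, Finset.sum_eq_single b (fun i _ hi => by rw [hcon i hi, zero_mul]) (by simp), hwb,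
      map_one, mul_one] at hww
    exact one_ne_zero hww
  obtain ⟨v, hvv, hvb, hvl, hoff, hv⟩ := shrink K hO.le hfull hww hlb.symm (by rw [hwb]; exact one_ne_zero) hl
    fun d hd _ => by
      have := UFull.map_normal K hfull (g := ph d hd) (ph_mem_GU K) (hD d hd)
      rwa [ph_mulVec K] at this
  intro u huu hcard
  obtain ⟨a, a', haa, hsub⟩ : ∃ a a' : Fin n, a ≠ a' ∧ supp u ⊆ {a, a'} := by
    obtain ⟨T, hT1, hT2⟩ := Finset.exists_superset_card_eq (s := supp u) (n := 2) hcard (by simp; omega)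
    obtain ⟨a, a', haa, rfl⟩ := Finset.card_eq_two.1 hT2
    exact ⟨a, a', haa, hT1⟩
  have hmove : ∀ (p p' : Fin n) (z : Fin n → F), UFull τ q N z → hh z z = 0 → ∃ z' : Fin n → F,
      UFull τ q N z' ∧ hh z' z' = 0 ∧ ∀ i, z' i ≠ 0 ↔ z (Equiv.swap p p' i) ≠ 0 := by
    intro p p' z hz hzz
    by_cases hpp : p = p'
    · exact ⟨z, hz, hzz, fun i => by simp [hpp]⟩
    obtain ⟨m, c, hm, hmm, hc, hmv⟩ := swapGL_exists K (by omega : 3 ≤ n) hpp
    refine ⟨(m : MM) *ᵥ z, hz.map K.form hO.le (hO.mono m hm hmm), by rw [(mem_GU_iff m).1 hm.1, hzz],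
      fun i => ?_⟩
    rw [hmv, mul_ne_zero_iff]; simp [hc i]
  obtain ⟨z₁, hz₁, hz₁z, hs₁⟩ := hmove b a v hv hvv
  set l' := Equiv.swap b a l
  have hl'a : l' ≠ a := fun h => hlb ((Equiv.swap b a).injective (h.trans (Equiv.swap_apply_left b a).symm))
  obtain ⟨z₂, hz₂, hz₂z, hs₂⟩ := hmove l' a' z₁ hz₁ hz₁z
  have hz₂s : ∀ i, z₂ i ≠ 0 ↔ i = a ∨ i = a' := by
    intro i
    rw [hs₂, hs₁]
    have hv' : ∀ j, v j ≠ 0 ↔ j = b ∨ j = l := fun j => by
      refine ⟨fun h => ?_, fun h => by rcases h with rfl | rfl <;> assumption⟩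
      by_contra hcon
      rw [not_or] at hcon
      exact h (hoff j hcon.1 hcon.2)
    rw [hv']
    refine or_congr ?_ ?_
    · rw [Equiv.swap_apply_eq_iff, Equiv.swap_apply_left, Equiv.swap_apply_eq_iff,
        Equiv.swap_apply_of_ne_of_ne hl'a.symm haa]
    · rw [Equiv.swap_apply_eq_iff, Equiv.swap_apply_eq_iff, Equiv.swap_apply_left]
  refine pair_all K hO.le (hO.hasDiag K) (by omega) haa hz₂z ((hz₂s a).2 (Or.inl rfl))
    ((hz₂s a').2 (Or.inr rfl)) (fun i h1 h2 => ?_) hz₂ huu (fun i h1 h2 => ?_)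
  · by_contra h; rcases (hz₂s i).1 h with h | h <;> contradiction
  · by_contra h
    have := hsub (mem_supp.2 h)
    simp [h1, h2] at this

/-- The main step for `q ≥ 3`. -/
theorem suGL_le_of_normalised (hq : 3 ≤ q) (hNm : ∃ x ∈ N, ¬ IsMono x) : suGL n F q ≤ N :=
  suGL_le_of_pairs K hO.le (hO.hasDiag K) (by omega) (pairs_full K hn hO hD hq hNm) (by omega)

end CfsgLib.UnMono
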