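import Mathlib
import Cfsg.Agent.Lib.UnMono.Torus

/-!
Even characteristic: transvections in the monomial group and their images.
-/

set_option autoImplicit false
set_option linter.unusedSectionVars false

open scoped Classical

namespace CfsgLib.UnMono

open scoped Matrix
open CfsgLib.Maximal

variable {n q : ℕ} {F : Type*} [Field F] [Fintype F] {τ : F ≃+* F}
  {M : Subgroup (Matrix.GeneralLinearGroup (Fin n) F)}

local notation "hh" => Cfsg.hermForm n F q
local notation "MM" => Matrix (Fin n) (Fin n) F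

/-- A non-monomial element contains no column with two zeros. -/
def Dense (M : Subgroup (Matrix.GeneralLinearGroup (Fin n) F)) : Prop :=
  ∀ x ∈ M, ¬ IsMono x → ∀ k c c', (x : MM) c k = 0 → (x : MM) c' k = 0 → c = c'

variable (K : Ctx n q τ)
include K

lemma dense_of_not_fixer (hn : 10 ≤ n) (hO : Over q M) (hno : ¬ Fixer M) : Dense M :=
  fun _ hx hxm _ c c' h h' => by_contra fun hcc =>
    hno (fixer_of_two_zeros K (by omega) hO (B := 4) (by omega)
      (fun hno _ hx hxm _ _ _ hab ha hb => (fixer_or_small K (by omega) hO hno hx hxm hab ha hb).2) hx hxm hcc h h')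

omit K in
lemma Dense.card_supp (hD : Dense M) {x : Matrix.GeneralLinearGroup (Fin n) F} (hx : x ∈ M)
    (hxm : ¬ IsMono x) (k : Fin n) : n ≤ (supp (col x k)).card + 1 := by
  have h : (Finset.univ \ supp (col x k)).card ≤ 1 := Finset.card_le_one.2 fun a ha b hb => by
    simp only [Finset.mem_sdiff, Finset.mem_univ, true_and, notMem_supp] at ha hb
    exact hD x hx hxm k a b ha hb
  rw [Finset.card_sdiff_of_subset (Finset.subset_univ _), Finset.card_univ, Fintype.card_fin] at h
  omega

lemma tv_col {v : Fin n → F} (hv : hh v v = 0) (k : F) (c l : Fin n) :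
    (tv (k • v) (fvec hh v) (un_tv_dot K.form hv k) : MM) l c =
      (Pi.single c 1 : Fin n → F) l + τ (v c) * k * v l := by
  have h := congrFun (mulVec_e (tv (k • v) (fvec hh v) (un_tv_dot K.form hv k)) c) l
  rw [tv_mulVec, un_dot K.form, K.hh_single_left, one_mul] at h
  rw [show (tv (k • v) (fvec hh v) (un_tv_dot K.form hv k) : MM) l c =
    col (tv (k • v) (fvec hh v) (un_tv_dot K.form hv k)) c l from rfl, ← h]
  simp [mul_assoc]

lemma tv_not_mono {v : Fin n → F} (hv : hh v v = 0) {k : F} (hk : k ≠ 0) (h3 : 3 ≤ (supp v).card) :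
    ¬ IsMono (tv (k • v) (fvec hh v) (un_tv_dot K.form hv k)) := by
  intro hm
  obtain ⟨a, b, c, ha, hb, hc, hab, hac, hbc⟩ := Finset.two_lt_card_iff.1 h3
  obtain ⟨i, hi⟩ := hm a
  have hne : ∀ l, l ≠ a → v l ≠ 0 → (tv (k • v) (fvec hh v) (un_tv_dot K.form hv k) : MM) l a ≠ 0 :=
    fun l hl hl0 => by
      rw [tv_col K hv, Pi.single_eq_of_ne hl, zero_add]
      exact mul_ne_zero (mul_ne_zero (fun h => mem_supp.1 ha (τ.injective (by rw [h, map_zero]))) hk) hl0
  have e1 : b = i := by_contra fun h => hne b hab.symm (mem_supp.1 hb) (hi b h)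
  have e2 : c = i := by_contra fun h => hne c hac.symm (mem_supp.1 hc) (hi c h)
  exact hbc (e1.trans e2.symm)

lemma fixer_of_HK {v : Fin n → F} (hv : hh v v = 0) {k : F} (hk : HK τ q M v k) (hk0 : k ≠ 0)
    (h3 : 3 ≤ (supp v).card) {c : Fin n} (hc : v c = 0) : Fixer M := by
  obtain ⟨-, h1, h2⟩ := hk
  refine ⟨_, h2, tv_not_mono K hv hk0 h3, c, fun l hl => ?_⟩
  rw [tv_col K hv]; simp [hc, hl]

variable (hn : 6 ≤ n) (hO : Over q M) (h2 : (2 : F) = 0)
include hn hO h2

lemma root_HK {a b : Fin n} (hab : a ≠ b) {f : Fin n → F} (ha : f a * τ (f a) = 1)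
    (hb : f b * τ (f b) = 1) (hoff : ∀ i, i ≠ a → i ≠ b → f i = 0) : hh f f = 0 ∧ HK τ q M f 1 := by
  have hff : hh f f = 0 := by rw [hh_two K hab hoff, ha, hb]; linear_combination h2
  have h1 : τ (1 : F) = -1 := by rw [map_one]; linear_combination h2
  refine ⟨hff, h1, un_tv_dot K.form hff 1, hO.mono _ (utv_mem_su K.form hff h1) fun c => ?_⟩
  refine ⟨if c = a then b else if c = b then a else c, fun l hl => ?_⟩
  rw [tv_col K hff]
  by_cases h1 : c = a
  · subst h1
    rw [if_pos rfl] at hl
    by_cases h3 : l = c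
    · subst h3; simp; linear_combination ha + h2
    · simp [h3, hoff l h3 hl]
  rw [if_neg h1] at hl
  by_cases h3 : c = b
  · subst h3
    rw [if_pos rfl] at hl
    by_cases h4 : l = c
    · subst h4; simp; linear_combination hb + h2
    · simp [h4, hoff l hl h4]
  rw [if_neg h3] at hl
  simp [hl, hoff c h1 h3]

/-- A root transvection interchanges two coordinates. -/
lemma exists_sw {a b : Fin n} (hab : a ≠ b) {ρ : F} (hρ : ρ * τ ρ = 1) :
    ∃ m ∈ M, ∀ z : Fin n → F, ∀ i, ((m : MM) *ᵥ z) i =
      if i = a then τ ρ * z b else if i = b then ρ * z a else z i := by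
  let f : Fin n → F := fun i => if i = a then 1 else if i = b then ρ else 0
  obtain ⟨hff, -, h1, hm⟩ := root_HK K hn hO h2 hab (f := f) (by simp [f]) (by simp [f, hab.symm, hρ])
    (fun i h1 h2 => by simp [f, h1, h2])
  refine ⟨_, hm, fun z i => ?_⟩
  rw [tv_mulVec, un_dot K.form, K.hh_eq,
    Finset.sum_eq_add a b hab (fun j _ hj => by simp [f, hj.1, hj.2]) (by simp) (by simp)]
  simp only [f, Pi.add_apply, Pi.smul_apply, smul_eq_mul, if_true, if_neg hab.symm, map_one, one_mul, mul_one]
  split_ifs with h3 h4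
  · subst h3; linear_combination (z i) * h2
  · subst h4; linear_combination z i * hρ + (z i) * h2
  · ring

/-- A root image with at least three coordinates. -/
lemma exists_root_image {g : Matrix.GeneralLinearGroup (Fin n) F} (hg : g ∈ M) {a : Fin n}
    (h3 : 3 ≤ (supp (col g a)).card) : ∃ v : Fin n → F, hh v v = 0 ∧ HK τ q M v 1 ∧ 3 ≤ (supp v).card := by
  by_contra hcon
  push Not at hcon
  set u := col g a
  have hgU := (hO.le hg).1
  have hun : ∀ b, b ≠ a → (supp u ∪ supp (col g b)).card ≤ 3 := by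
    intro b hba
    by_contra hc
    obtain ⟨T, hT, hT4⟩ := Finset.exists_subset_card_eq (s := supp u ∪ supp (col g b)) (n := 4) (by omega)
    let vv : F → Fin n → F := fun ρ => u + ρ • col g b
    have hz : ∀ ρ ∈ mu τ, 2 ≤ (T.filter fun i => vv ρ i = 0).card := by
      intro ρ hρ
      rw [mem_mu] at hρ
      let f : Fin n → F := fun i => if i = a then 1 else if i = b then ρ else 0
      obtain ⟨hff, hf⟩ := root_HK K hn hO h2 hba.symm (f := f) (by simp [f]) (by simp [f, hba, hρ])
        (fun i h1 h2 => by simp [f, h1, h2])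
      have h1 := HK.map_normal K hf hgU fun x hx => mul_mem (mul_mem hg hx) (inv_mem hg)
      have e : (g : MM) *ᵥ f = vv ρ := by
        have e1 : f = Pi.single a 1 + ρ • Pi.single b 1 := by
          funext i
          by_cases h1 : i = a
          · subst h1; simp [f, hba.symm]
          by_cases h2 : i = b
          · subst h2; simp [f, hba]
          simp [f, h1, h2]
        rw [e1, Matrix.mulVec_add, Matrix.mulVec_smul, mulVec_e, mulVec_e]
      rw [e] at h1
      have hiso : hh (vv ρ) (vv ρ) = 0 := by rw [← e, (mem_GU_iff g).1 hgU, hff]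
      have hlt := hcon _ hiso h1
      have h4 := Finset.card_filter_add_card_filter_not (s := T) (fun i => vv ρ i = 0)
      have h5 : (T.filter fun i => ¬ vv ρ i = 0).card ≤ (supp (vv ρ)).card :=
        Finset.card_le_card fun i hi => mem_supp.2 (Finset.mem_filter.1 hi).2
      omega
    have hdisj : (mu τ : Set F).PairwiseDisjoint fun ρ => T.filter fun i => vv ρ i = 0 := by
      intro ρ _ ρ' _ hne
      refine Finset.disjoint_left.2 fun i hi hi' => ?_
      obtain ⟨hiT, e1⟩ := Finset.mem_filter.1 hi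
      have e2 := (Finset.mem_filter.1 hi').2
      simp only [vv, Pi.add_apply, Pi.smul_apply, smul_eq_mul] at e1 e2
      have hw : col g b i = 0 := (mul_eq_zero.1 (show (ρ - ρ') * col g b i = 0 by
        linear_combination e1 - e2)).resolve_left (sub_ne_zero.2 hne)
      have hu : u i = 0 := by rw [hw] at e1; linear_combination e1
      rcases Finset.mem_union.1 (hT hiT) with h | h
      · exact mem_supp.1 h hu
      · exact mem_supp.1 h hw
    have e1 : ((mu τ).biUnion fun ρ => T.filter fun i => vv ρ i = 0).card ≤ T.card :=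
      Finset.card_le_card fun i hi => by
        obtain ⟨_, _, hi⟩ := Finset.mem_biUnion.1 hi; exact (Finset.mem_filter.1 hi).1
    rw [Finset.card_biUnion hdisj] at e1
    have e2 := (Finset.card_nsmul_le_sum (mu τ) _ 2 hz).trans e1
    rw [smul_eq_mul, card_mu K] at e2
    have := K.two_le_q
    omega
  have hsub : ∀ b, supp (col g b) ⊆ supp u := by
    intro b
    by_cases hba : b = a
    · subst hba; exact Finset.Subset.refl _
    intro i hi
    have h := Finset.eq_of_subset_of_card_le (Finset.subset_union_left (s₂ := supp (col g b)) (s₁ := supp u))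
      ((hun b hba).trans h3)
    rw [h]; exact Finset.mem_union_right _ hi
  obtain ⟨j, hj⟩ := Fintype.exists_ne_of_one_lt_card (by simp; omega : 1 < Fintype.card (Fin n)) a
  have hu3 : (supp u).card ≤ 3 := (Finset.card_le_card Finset.subset_union_left).trans (hun j hj)
  have hli : LinearIndependent F (fun (b : Fin n) (i : supp u) => (g : MM) i b) := by
    rw [Fintype.linearIndependent_iff]
    intro c hc b
    have h0 : (∑ i, c i • col g i) = 0 := by
      funext l
      rw [Finset.sum_apply]
      by_cases hl : l ∈ supp u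
      · simpa [col, Finset.sum_apply] using congrFun hc ⟨l, hl⟩
      · refine Finset.sum_eq_zero fun i _ => ?_
        rw [Pi.smul_apply, notMem_supp.1 (fun h => hl (hsub i h)), smul_zero]
    have h1 := congrArg (fun w => hh w (col g b)) h0
    simp only [un_sum_left K.form, K.form.smul_left, hh_col K hgU, un_zero_left K.form] at h1
    rw [Finset.sum_eq_single b (fun i _ hi => by rw [if_neg hi, mul_zero]) (by simp),
      if_pos rfl, mul_one] at h1
    exact h1
  have := hli.fintype_card_le_finrank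
  simp at this
  omega

/-- In even characteristic some non-monomial element fixes a coordinate line. -/
theorem fixer_even (h10 : 10 ≤ n) (hNm : ∃ x ∈ M, ¬ IsMono x) : Fixer M := by
  by_contra hno
  have hD := dense_of_not_fixer K h10 hO hno
  obtain ⟨g, hg, hgm⟩ := hNm
  let a : Fin n := ⟨0, by omega⟩
  have hga := hD.card_supp hg hgm a
  obtain ⟨v, hvv, hv, hv3⟩ := exists_root_image K hn hO h2 hg (a := a) (by omega)
  have hfull : ∀ i, v i ≠ 0 := fun i hi => hno (fixer_of_HK K hvv hv one_ne_zero hv3 hi)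
  have h1' : τ (1 : F) = -1 := by rw [map_one]; linear_combination h2
  -- three pairs of coordinates and a spare one
  let ix : Fin 7 → Fin n := fun j => ⟨j.1, by omega⟩
  have hix : Function.Injective ix := fun i j h => Fin.ext (by simpa [ix] using congrArg Fin.val h)
  let C : Fin 3 → F := fun j => v (ix ⟨2 * j.1, by omega⟩) * τ (v (ix ⟨2 * j.1 + 1, by omega⟩))
  have hC : ∀ j, C j ≠ 0 := fun j => mul_ne_zero (hfull _) fun h => hfull _ (τ.injective (by rw [h, map_zero]))
  let S : Fin 3 → Finset F := fun j => (mu τ).image fun z => C j * z + τ (C j * z)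
  have hS : ∀ j, q + 1 ≤ 2 * (S j).card := fun j => card_lin K (hC j)
  have hSf : ∀ j, ∀ x ∈ S j, τ x = x := fun j x hx => by
    obtain ⟨z, -, rfl⟩ := Finset.mem_image.1 hx; exact K.fix_add_tau _
  have hqe : Even q := by
    haveI : CharP F 2 := CharTwo.of_one_ne_zero_of_two_eq_zero one_ne_zero h2
    exact even_iff_two_dvd.2 ((CharP.cast_eq_zero_iff F 2 q).1 K.cast_q)
  set R := ∑ j : Fin 6, v (ix ⟨j.1, by omega⟩) * τ (v (ix ⟨j.1, by omega⟩))
  have hR : τ R = R := by rw [map_sum]; exact Finset.sum_congr rfl fun j _ => K.fix_mul_tau _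
  obtain ⟨t₂, ht₂, ht₂0⟩ := Finset.exists_mem_ne (s := S 1) (by
    have := hS 1; have := K.two_le_q; obtain ⟨r, hr⟩ := hqe; omega) 0
  let A := ((S 0).erase 0).image (t₂ + ·)
  let B := (S 2).image fun x => 1 + R - x
  obtain ⟨x, hxA, hxB⟩ := exists_common K (A := A) (B := B)
    (fun x hx => by
      obtain ⟨y, hy, rfl⟩ := Finset.mem_image.1 hx
      rw [map_add, hSf 1 t₂ ht₂, hSf 0 y (Finset.mem_of_mem_erase hy)])
    (fun x hx => by
      obtain ⟨y, hy, rfl⟩ := Finset.mem_image.1 hx
      rw [map_sub, map_add, map_one, hR, hSf 2 y hy])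
    (by
      have e1 : A.card = ((S 0).erase 0).card := Finset.card_image_of_injective _ (add_right_injective t₂)
      have e2 : B.card = (S 2).card := Finset.card_image_of_injective _ (fun a b h => by
        have : (1 + R - a) = (1 + R - b) := h
        linear_combination -this)
      have e3 := Finset.pred_card_le_card_erase (a := (0 : F)) (s := S 0)
      have := hS 0; have := hS 2
      obtain ⟨r, hr⟩ := hqe
      omega)
  obtain ⟨t₁, ht₁, rfl⟩ := Finset.mem_image.1 hxA
  obtain ⟨t₃, ht₃, h3⟩ := Finset.mem_image.1 hxB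
  obtain ⟨ht₁0, ht₁⟩ := Finset.mem_erase.1 ht₁
  obtain ⟨z₁, hz₁, rfl⟩ := Finset.mem_image.1 ht₁
  obtain ⟨z₂, hz₂, rfl⟩ := Finset.mem_image.1 ht₂
  obtain ⟨z₃, hz₃, rfl⟩ := Finset.mem_image.1 ht₃
  rw [mem_mu] at hz₁ hz₂ hz₃
  have hne : ∀ i j : Fin 7, i ≠ j → ix i ≠ ix j := fun i j h => hix.ne h
  obtain ⟨m₁, hm₁, e₁⟩ := exists_sw K hn hO h2 (hne 0 1 (by decide)) (ρ := z₁) hz₁
  obtain ⟨m₂, hm₂, e₂⟩ := exists_sw K hn hO h2 (hne 2 3 (by decide)) (ρ := z₂) hz₂
  obtain ⟨m₃, hm₃, e₃⟩ := exists_sw K hn hO h2 (hne 4 5 (by decide)) (ρ := z₃) hz₃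
  set m := m₁ * m₂ * m₃
  have hm : m ∈ M := mul_mem (mul_mem hm₁ hm₂) hm₃
  set w := (m : MM) *ᵥ v with hw
  have hwi : ∀ i, w i = if i = ix 0 then τ z₁ * v (ix 1) else if i = ix 1 then z₁ * v (ix 0)
      else if i = ix 2 then τ z₂ * v (ix 3) else if i = ix 3 then z₂ * v (ix 2)
      else if i = ix 4 then τ z₃ * v (ix 5) else if i = ix 5 then z₃ * v (ix 4) else v i := by
    intro i
    rw [hw, Units.val_mul, Units.val_mul, ← Matrix.mulVec_mulVec, ← Matrix.mulVec_mulVec]
    simp only [e₁, e₂, e₃, hix.eq_iff]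
    simp [Fin.ext_iff]
  have hvw : hh v w = 1 := by
    have e : hh v w - hh v v = ∑ j : Fin 6, v (ix ⟨j.1, by omega⟩) *
        (τ (w (ix ⟨j.1, by omega⟩)) - τ (v (ix ⟨j.1, by omega⟩))) := by
      rw [K.hh_eq, K.hh_eq, ← Finset.sum_sub_distrib]
      have hinj : Function.Injective fun j : Fin 6 => ix ⟨j.1, by omega⟩ := fun a b h => Fin.ext (by
        simpa [ix] using congrArg Fin.val h)
      rw [← Finset.sum_subset (Finset.subset_univ ((Finset.univ : Finset (Fin 6)).image fun j => ix ⟨j.1, by omega⟩))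
        (fun i _ hi => ?_), Finset.sum_image hinj.injOn]
      · exact Finset.sum_congr rfl fun i _ => by ring
      simp only [Finset.mem_image, Finset.mem_univ, true_and, not_exists] at hi
      rw [hwi, if_neg fun h => hi 0 h.symm, if_neg fun h => hi 1 h.symm, if_neg fun h => hi 2 h.symm,
        if_neg fun h => hi 3 h.symm, if_neg fun h => hi 4 h.symm, if_neg fun h => hi 5 h.symm, sub_self]
    rw [hvv, sub_zero] at e
    rw [e]
    simp only [Fin.sum_univ_six, hwi, hix.eq_iff, R, C] at h3 ⊢
    simp [Fin.ext_iff, K.invol] at h3 ⊢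
    linear_combination -h3
  have hwHK : HK τ q M w 1 := HK.map_normal K hv (hO.le hm).1 fun x hx => mul_mem (mul_mem hm hx) (inv_mem hm)
  obtain ⟨-, hd, ht⟩ := hwHK
  set t := tv ((1 : F) • w) (fvec hh w) hd
  have htv : (t : MM) *ᵥ v = v + w := by
    simp only [t, tv_mulVec, un_dot K.form, hvw, one_smul]
  have hv' : HK τ q M (v + w) 1 := by
    have := HK.map_normal K hv (hO.le ht).1 fun x hx => mul_mem (mul_mem ht hx) (inv_mem ht)
    rwa [htv] at this
  have hv'v : hh (v + w) (v + w) = 0 := by rw [← htv, (mem_GU_iff t).1 (hO.le ht).1, hvv]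
  have hc : (v + w) (ix 6) = 0 := by
    simp only [Pi.add_apply, hwi, hix.eq_iff]
    simp [Fin.ext_iff]
    linear_combination v (ix 6) * h2
  refine hno (fixer_of_HK K hv'v hv' one_ne_zero ?_ hc)
  have hA : ∀ (z : F) (p p' : Fin n), z * τ z = 1 →
      (v p * τ (v p')) * z + τ ((v p * τ (v p')) * z) ≠ 0 → v p + τ z * v p' ≠ 0 ∧ v p' + z * v p ≠ 0 := by
    intro z p p' hz hne
    constructor <;> intro h <;> apply hne <;> simp only [map_mul, K.invol]
    · have e : v p = τ z * v p' := by linear_combination h - τ z * v p' * h2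
      rw [e, map_mul, K.invol]
      linear_combination 2 * v p' * τ (v p') * hz + v p' * τ (v p') * h2
    · have e : v p' = z * v p := by linear_combination h - z * v p * h2
      rw [e, map_mul]
      linear_combination 2 * v p * τ (v p) * hz + v p * τ (v p) * h2
  obtain ⟨a0, a1⟩ := hA z₁ (ix 0) (ix 1) hz₁ ht₁0
  obtain ⟨a2, a3⟩ := hA z₂ (ix 2) (ix 3) hz₂ ht₂0
  refine Finset.two_lt_card_iff.2 ⟨ix 0, ix 1, ix 2, mem_supp.2 ?_, mem_supp.2 ?_, mem_supp.2 ?_,
    hne 0 1 (by decide), hne 0 2 (by decide), hne 1 2 (by decide)⟩ <;>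
    simp only [Pi.add_apply, hwi, hix.eq_iff] <;> simp [Fin.ext_iff] <;> assumption

end CfsgLib.UnMono
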