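import Mathlib
import Cfsg.Agent.Lib.UnMono.Even

/-!
Odd characteristic: centralisers of involutions give an element fixing a coordinate line.
-/

set_option autoImplicit false
set_option linter.unusedSectionVars false

open scoped Classical

namespace CfsgLib.UnMono

open scoped Matrix
open CfsgLib.Maximal

/-- Two non-conjugate involutions have a common commuting involution in the subgroup they generate. -/
lemma exists_central {G : Type*} [Group G] [Finite G] {s t : G} (hs : s * s = 1) (ht : t * t = 1)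
    (hne : ¬ IsConj s t) :
    ∃ z ∈ Subgroup.closure ({s, t} : Set G), z * z = 1 ∧ z ≠ 1 ∧ z * s = s * z ∧ z * t = t * z := by
  set a := s * t with ha
  set N := orderOf a
  have hsmem : s ∈ Subgroup.closure ({s, t} : Set G) := Subgroup.subset_closure (by simp)
  have htmem : t ∈ Subgroup.closure ({s, t} : Set G) := Subgroup.subset_closure (by simp)
  have hsinv : s⁻¹ = s := inv_eq_of_mul_eq_one_right hs
  have htinv : t⁻¹ = t := inv_eq_of_mul_eq_one_right ht
  have hsa : s * a * s⁻¹ = a⁻¹ := by rw [ha, mul_inv_rev, hsinv, htinv, ← mul_assoc, hs, one_mul]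
  have hta : t * a * t⁻¹ = a⁻¹ := by rw [ha, mul_inv_rev, hsinv, htinv, mul_assoc, mul_assoc, ht, mul_one]
  have hconj : ∀ (k : ℕ), s * a ^ k * s⁻¹ = (a ^ k)⁻¹ ∧ t * a ^ k * t⁻¹ = (a ^ k)⁻¹ := fun k =>
    ⟨by rw [← conj_pow, hsa, inv_pow], by rw [← conj_pow, hta, inv_pow]⟩
  rcases Nat.even_or_odd N with ⟨k, hk⟩ | ⟨k, hk⟩
  · have hN : 0 < N := orderOf_pos a
    have hz : a ^ k * a ^ k = 1 := by rw [← pow_add, ← hk]; exact pow_orderOf_eq_one a
    have hinv : (a ^ k)⁻¹ = a ^ k := inv_eq_of_mul_eq_one_right hz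
    refine ⟨a ^ k, pow_mem (mul_mem hsmem htmem) k, hz, pow_ne_one_of_lt_orderOf (by omega) (by
      show k < N; omega), ?_, ?_⟩
    · have := (hconj k).1; rw [hinv] at this
      conv_lhs => rw [← this]
      rw [inv_mul_cancel_right]
    · have := (hconj k).2; rw [hinv] at this
      conv_lhs => rw [← this]
      rw [inv_mul_cancel_right]
  · refine absurd ?_ hne
    rw [isConj_iff]
    refine ⟨(a ^ (k + 1))⁻¹, ?_⟩
    have h1 : s * a ^ (k + 1) = (a ^ (k + 1))⁻¹ * s := by rw [← (hconj (k + 1)).1, inv_mul_cancel_right]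
    rw [inv_inv, mul_assoc, h1, ← mul_assoc, ← mul_inv_rev, ← pow_add,
      show k + 1 + (k + 1) = N + 1 by omega, pow_succ, pow_orderOf_eq_one, one_mul, ha, mul_inv_rev, hsinv,
      htinv, mul_assoc, hs, mul_one]

variable {n q : ℕ} {F : Type*} [Field F] [Fintype F] {τ : F ≃+* F}
  {M : Subgroup (Matrix.GeneralLinearGroup (Fin n) F)}

local notation "hh" => Cfsg.hermForm n F q
local notation "MM" => Matrix (Fin n) (Fin n) F

/-- The elements fixing each vector of a set. -/
def fixing (W : Set (Fin n → F)) : Subgroup (Matrix.GeneralLinearGroup (Fin n) F) where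
  carrier := {g | ∀ x ∈ W, (g : MM) *ᵥ x = x}
  one_mem' := fun x _ => by simp
  mul_mem' := fun {a b} ha hb x hx => by rw [Units.val_mul, ← Matrix.mulVec_mulVec, hb x hx, ha x hx]
  inv_mem' := fun {a} ha x hx => by
    conv_lhs => rw [← ha x hx]
    rw [Matrix.mulVec_mulVec, ← Units.val_mul, inv_mul_cancel, Units.val_one, Matrix.one_mulVec]

variable (K : Ctx n q τ)
include K

/-- Outside `S` the displacements lie in the span of a family whose common perp is fixed. -/
lemma outside (hn : 6 ≤ n) {g : Matrix.GeneralLinearGroup (Fin n) F} (hg : g ∈ Cfsg.GU n F q)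
    (S : Finset (Fin n)) {r : ℕ} (P : Fin r → Fin n → F)
    (hfix : ∀ x : Fin n → F, (∀ l ∈ S, x l = 0) → (∀ j, hh x (P j) = 0) → (g : MM) *ᵥ x = x)
    (z : Fin n → F) :
    ∃ c : Fin r → F, ∀ l, l ∉ S → (z - (g : MM) *ᵥ z) l = ∑ j, c j * P j l := by
  let v : S ⊕ Fin r → Fin n → F := Sum.elim (fun l => Pi.single (l : Fin n) 1) P
  have hmem : z - (g : MM) *ᵥ z ∈ Submodule.span F (Set.range v) := by
    by_contra hcon
    obtain ⟨y, hy, hy1⟩ := un_eval₀ K.form v hcon
    have hgy : (g : MM) *ᵥ y = y := hfix y (fun l hl => by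
      have := hy (Sum.inl ⟨l, hl⟩)
      simpa [v, K.hh_single_right] using this) fun j => hy (Sum.inr j)
    have h1 := (mem_GU_iff g).1 hg y z
    rw [hgy] at h1
    rw [sub_eq_add_neg, ← neg_one_smul F ((g : MM) *ᵥ z), un_add_right K.form, un_smul_right K.form, h1,
      map_neg, map_one] at hy1
    exact one_ne_zero (by linear_combination -hy1)
  obtain ⟨c, hc⟩ := (Submodule.mem_span_range_iff_exists_fun F).1 hmem
  refine ⟨fun j => c (Sum.inr j), fun l hl => ?_⟩
  rw [← hc, Fintype.sum_sum_type, Pi.add_apply, Finset.sum_apply, Finset.sum_apply,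
    Finset.sum_eq_zero fun i _ => by
      have : (i : Fin n) ≠ l := fun h => hl (h ▸ i.2)
      simp [v, this.symm], zero_add]
  exact Finset.sum_congr rfl fun j _ => by simp [v]

omit K in
lemma mono_e (σ : Equiv.Perm (Fin n)) (d : Fin n → Fˣ) (i : Fin n) :
    (monoGL σ d : MM) *ᵥ Pi.single i 1 = Pi.single (σ i) (d i : F) := by
  funext l
  obtain ⟨k, rfl⟩ := σ.surjective l
  rw [monoGL_val, monoMat_mulVec]
  by_cases hk : k = i <;> simp [hk, σ.injective.eq_iff]

/-- An isometric involution preserving a plane commutes with the reflection in it. -/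
lemma commutes_of_plane {u v : Fin n → F} (huu : hh u u = 1) (hvv : hh v v = 1) (huv : hh u v = 0)
    {s m : Matrix.GeneralLinearGroup (Fin n) F}
    (hs : ∀ z, (s : MM) *ᵥ z = z + ((-2) * hh z u) • u + ((-2) * hh z v) • v)
    (hm : m ∈ Cfsg.GU n F q) (hmm : m * m = 1) {a b c d : F} (hmu : (m : MM) *ᵥ u = a • u + b • v)
    (hmv : (m : MM) *ᵥ v = c • u + d • v) : m * s = s * m := by
  have hiso := (mem_GU_iff m).1 hm
  have hm2 : ∀ z, (m : MM) *ᵥ ((m : MM) *ᵥ z) = z := fun z => by
    rw [Matrix.mulVec_mulVec, ← Units.val_mul, hmm, Units.val_one, Matrix.one_mulVec]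
  have hadj : ∀ z w, hh ((m : MM) *ᵥ z) w = hh z ((m : MM) *ᵥ w) := fun z w => by
    conv_lhs => rw [← hm2 w]
    rw [hiso]
  have hvu : hh v u = 0 := by rw [K.form.herm, huv, map_zero]
  have e1 := hadj u u
  have e2 := hadj u v
  have e3 := hadj v v
  rw [hmu] at e1 e2
  rw [hmv] at e2 e3
  simp only [K.form.add_left, un_add_right K.form, K.form.smul_left, un_smul_right K.form, huu, hvv, huv,
    hvu, mul_one, mul_zero, add_zero, zero_add] at e1 e2 e3
  refine Units.ext (CfsgLib.Geometry.matrix_eq_of_mulVec fun z => ?_)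
  rw [Units.val_mul, Units.val_mul, ← Matrix.mulVec_mulVec, ← Matrix.mulVec_mulVec, hs, hs,
    Matrix.mulVec_add, Matrix.mulVec_add, Matrix.mulVec_smul, Matrix.mulVec_smul, hadj, hadj, hmu, hmv]
  simp only [un_add_right K.form, un_smul_right K.form]
  rw [← e1, ← e3, ← e2, show τ b = c by rw [e2, K.invol]]
  module

variable (hn : 6 ≤ n) (hO : Over q M) (h2 : (2 : F) ≠ 0) (hD : Dense M)
include hn hO h2 hD

/-- An element commuting with a diagonal one with two large eigenspaces is monomial. -/
lemma mono_of_commute {x : Matrix.GeneralLinearGroup (Fin n) F} (hx : x ∈ M) {d : Fin n → F}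
    {hd : ∀ i, d i * τ (d i) = 1} {a a' b b' : Fin n} (haa : a ≠ a') (hbb : b ≠ b') (ha : d a = d a')
    (hb : d b = d b') (hab : d a ≠ d b) (hc : x * ph d hd = ph d hd * x) : IsMono x := by
  by_contra hxm
  have key : ∀ l k, d l ≠ d k → (x : MM) l k = 0 := by
    intro l k hlk
    have h := congrArg (fun g : Matrix.GeneralLinearGroup (Fin n) F => ((g : MM) *ᵥ Pi.single k 1) l) hc
    simp only [Units.val_mul, ← Matrix.mulVec_mulVec, ph_mulVec K, mulVec_e] at h
    rw [show scal d (Pi.single k 1 : Fin n → F) = d k • (Pi.single k 1 : Fin n → F) from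
      funext fun i => by by_cases h : i = k <;> simp [scal, h], Matrix.mulVec_smul, mulVec_e] at h
    simp only [Pi.smul_apply, smul_eq_mul, col, scal] at h
    exact (mul_eq_zero.1 (show (d k - d l) * (x : MM) l k = 0 by linear_combination h)).resolve_left
      (sub_ne_zero.2 (Ne.symm hlk))
  by_cases hk : d a = d b
  · exact hab hk
  exact hbb (hD x hx hxm a b b' (key b a (Ne.symm hab)) (key b' a (hb ▸ Ne.symm hab)))

lemma not_mono_neg (g : Matrix.GeneralLinearGroup (Fin n) F) (hg : g ∈ M) (hgm : ¬ IsMono g) {a b : Fin n}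
    (hab : a ≠ b) {d : Fin n → F} {hd : ∀ i, d i * τ (d i) = 1} (hda : d a = -1) (hdb : d b = -1)
    (hoff : ∀ i, i ≠ a → i ≠ b → d i = 1) : ¬ IsMono (g * ph d hd * g⁻¹) := by
  intro hm
  obtain ⟨σ, e, he⟩ := hm.exists_eq
  have hgU := (hO.le hg).1
  set J := supp (col g a) ∩ supp (col g b)
  have hJ : 3 ≤ J.card := by
    have h1 := hD.card_supp hg hgm a
    have h3 := hD.card_supp hg hgm b
    have h4 := Finset.card_union_add_card_inter (supp (col g a)) (supp (col g b))
    have h5 := Finset.card_le_univ (supp (col g a) ∪ supp (col g b))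
    rw [Fintype.card_fin] at h5
    simp only [J]; omega
  have h4 := (small_of_mono K (u := col g a) (v := col g b) (fun α β h => col_indep K hgU hab h) (A := -2)
    (B := -2) (neg_ne_zero.2 h2) (neg_ne_zero.2 h2) σ.injective J hJ
    (fun i hi => mem_supp.1 (Finset.mem_inter.1 hi).1) fun i _ l h1 h2' => by
      have h := congrFun (conj_pair_mulVec K hgU hab (hd := hd) hoff (Pi.single i 1)) l
      rw [he, mono_e, K.hh_single_left, K.hh_single_left, hda, hdb] at h
      simp [h1, h2'] at h
      linear_combination -h).1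
  have := hD.card_supp hg hgm a
  omega

/-- A monomial isometry of determinant minus one commuting with a non-monomial member. -/
lemma exists_odd_mono (h10 : 10 ≤ n) (hNm : ∃ x ∈ M, ¬ IsMono x) :
    ∃ s ∈ M, ¬ IsMono s ∧ ∃ m ∈ Cfsg.GU n F q, IsMono m ∧ (m : MM).det = -1 ∧ m * s = s * m := by
  obtain ⟨g, hg, hgm⟩ := hNm
  have hgU := (hO.le hg).1
  obtain ⟨a, b, hab⟩ : ∃ a b : Fin n, a ≠ b := ⟨⟨0, by omega⟩, ⟨1, by omega⟩, by simp⟩
  let ds : Fin n → F := fun i => if i = a ∨ i = b then -1 else 1
  have hds : ∀ i, ds i * τ (ds i) = 1 := fun i => by simp only [ds]; split_ifs <;> simp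
  have hdsa : ds a = -1 := by simp [ds]
  have hdsb : ds b = -1 := by simp [ds]
  have hdso : ∀ i, i ≠ a → i ≠ b → ds i = 1 := fun i h1 h2 => by simp [ds, h1, h2]
  set s := g * ph ds hds * g⁻¹ with hs_def
  have hpm : ph ds hds ∈ M := hO.mono _ (ph_mem_su K (by
    rw [Finset.prod_eq_mul a b hab (fun i _ hi => hdso i hi.1 hi.2) (by simp) (by simp), hdsa, hdsb]
    ring)) (ph_isMono K)
  have hsM : s ∈ M := mul_mem (mul_mem hg hpm) (inv_mem hg)
  have hsm : ¬ IsMono s := not_mono_neg K hn hO h2 hD g hg hgm hab hdsa hdsb hdso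
  refine ⟨s, hsM, hsm, ?_⟩
  have hph2 : ∀ (d : Fin n → F) (hd : ∀ i, d i * τ (d i) = 1), (∀ i, d i * d i = 1) → ph d hd * ph d hd = 1 :=
    fun d hd h => Units.ext (CfsgLib.Geometry.matrix_eq_of_mulVec fun v => by
      rw [Units.val_mul, ← Matrix.mulVec_mulVec, ph_mulVec K, ph_mulVec K, Units.val_one, Matrix.one_mulVec]
      funext i; simp only [scal]; linear_combination v i * h i)
  have hss : s * s = 1 := by
    have := hph2 ds hds fun i => by simp only [ds]; split_ifs <;> ring
    calc s * s = g * (ph ds hds * ph ds hds) * g⁻¹ := by simp [hs_def, mul_assoc]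
      _ = 1 := by rw [this, mul_one, mul_inv_cancel]
  set u := col g a
  set v := col g b
  have hs : ∀ z, (s : MM) *ᵥ z = z + ((-2) * hh z u) • u + ((-2) * hh z v) • v := fun z => by
    rw [hs_def, conj_pair_mulVec K hgU hab hdso z, hdsa, hdsb, show (-1 : F) - 1 = -2 by ring]
  have huu : hh u u = 1 := by simpa [u] using hh_col K hgU a a
  have hvv : hh v v = 1 := by simpa [v] using hh_col K hgU b b
  have huv : hh u v = 0 := by simpa [u, v, hab] using hh_col K hgU a b
  have hvu : hh v u = 0 := by rw [K.form.herm, huv, map_zero]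
  -- the possible outcomes for one four-set
  have key : ∀ S : Finset (Fin n), S.card = 4 →
      (∃ m ∈ Cfsg.GU n F q, IsMono m ∧ (m : MM).det = -1 ∧ m * s = s * m) ∨
      ∃ (w : Fin n → F) (α β : F) (i i' : Fin n), w = α • u + β • v ∧ w ≠ 0 ∧
        (∀ l, l ∉ S → l ≠ i → l ≠ i' → w l = 0) ∧
        ((∀ l ∈ S, w l = 0) → ∃ m ∈ Cfsg.GU n F q, IsMono m ∧ (m : MM).det = -1 ∧ m * s = s * m) := by
    intro S hS
    let dt : Fin n → F := fun i => if i ∈ S then -1 else 1
    have hdt : ∀ i, dt i * τ (dt i) = 1 := fun i => by simp only [dt]; split_ifs <;> simp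
    set t := ph dt hdt with ht_def
    have hprod : ∏ i, dt i = 1 := by
      simp only [dt]
      rw [Finset.prod_ite_mem, Finset.univ_inter, Finset.prod_const, hS]; ring
    have htM : t ∈ M := hO.mono _ (ph_mem_su K hprod) (ph_isMono K)
    have htt : t * t = 1 := hph2 dt hdt fun i => by simp only [dt]; split_ifs <;> ring
    have htr : ∀ (d : Fin n → F) (hd : ∀ i, d i * τ (d i) = 1), Matrix.trace (ph d hd : MM) = ∑ i, d i :=
      fun d hd => by
        rw [Matrix.trace]
        exact Finset.sum_congr rfl fun i _ => by simp [ph, monoGL_val, monoMat]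
    have hcount : ∀ T : Finset (Fin n), ∑ i, (if i ∈ T then (-1 : F) else 1) = (n : F) - 2 * (T.card : F) := by
      intro T
      have e : ∀ i : Fin n, (if i ∈ T then (-1 : F) else 1) = 1 - 2 * (if i ∈ T then 1 else 0) := fun i => by
        split_ifs <;> ring
      rw [Finset.sum_congr rfl fun i _ => e i, Finset.sum_sub_distrib, ← Finset.mul_sum, Finset.sum_boole]
      simp
    have hnc : ¬ IsConj s t := by
      intro hcj
      obtain ⟨c, hc⟩ := isConj_iff.1 hcj
      have e : Matrix.trace (s : MM) = Matrix.trace (t : MM) := by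
        rw [← hc]; simp only [Units.val_mul, Matrix.trace_units_conj]
      rw [hs_def, Units.val_mul, Units.val_mul, Matrix.trace_units_conj, ht_def, htr, htr,
        show ∑ i, ds i = ∑ i, (if i ∈ ({a, b} : Finset (Fin n)) then (-1 : F) else 1) from
          Finset.sum_congr rfl fun i _ => by simp [ds], hcount, hcount, hS, Finset.card_pair hab] at e
      push_cast at e
      exact h2 (by
        have h4 : (2 : F) * 2 = 0 := by linear_combination e
        rcases mul_eq_zero.1 h4 with h | h <;> exact h)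
    obtain ⟨z, hzcl, hzz, hz1, hzs, hzt⟩ := exists_central hss htt hnc
    have hzM : z ∈ M := (Subgroup.closure_le M).2 (by
      intro x hx; rcases hx with rfl | rfl
      · exact hsM
      · exact htM) hzcl
    have hzU := (hO.le hzM).1
    -- monomiality
    obtain ⟨c₁, c₂, hc12, hc1, hc2⟩ : ∃ c₁ c₂, c₁ ≠ c₂ ∧ c₁ ∈ S ∧ c₂ ∈ S := by
      obtain ⟨x, y, hx, hy, hxy⟩ := Finset.one_lt_card_iff.1 (by omega : 1 < S.card)
      exact ⟨x, y, hxy, hx, hy⟩
    obtain ⟨c₃, c₄, hc34, hc3, hc4⟩ : ∃ c₃ c₄, c₃ ≠ c₄ ∧ c₃ ∉ S ∧ c₄ ∉ S := by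
      obtain ⟨x, y, hx, hy, hxy⟩ := Finset.one_lt_card_iff.1 (show 1 < (Finset.univ \ S).card by
        rw [Finset.card_sdiff_of_subset (Finset.subset_univ _), Finset.card_univ, Fintype.card_fin]; omega)
      exact ⟨x, y, hxy, (Finset.mem_sdiff.1 hx).2, (Finset.mem_sdiff.1 hy).2⟩
    have hzm : IsMono z := mono_of_commute K hn hO h2 hD hzM (a := c₁) (a' := c₂) (b := c₃) (b' := c₄) hc12
      hc34 (by simp [dt, hc1, hc2]) (by simp [dt, hc3, hc4]) (by
        simp [dt, hc1, hc3]
        intro h; exact h2 (by linear_combination -h)) hzt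
    obtain ⟨σ, d, hzσ⟩ := hzm.exists_eq
    have hdn : ∀ i, (d i : F) * τ (d i) = 1 := nm_of_mono K (hzσ ▸ hzU)
    have hzv : ∀ x i, ((z : MM) *ᵥ x) (σ i) = d i * x i := fun x i => by
      rw [hzσ, monoGL_val, monoMat_mulVec]
    have hzv2 : ∀ x, (z : MM) *ᵥ ((z : MM) *ᵥ x) = x := fun x => by
      rw [Matrix.mulVec_mulVec, ← Units.val_mul, hzz, Units.val_one, Matrix.one_mulVec]
    have hsigd : ∀ i, σ (σ i) = i ∧ (d (σ i) : F) * d i = 1 := by
      intro i
      have h1 := congrFun (hzv2 (Pi.single i 1)) (σ (σ i))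
      rw [hzv, hzv, Pi.single_eq_same, mul_one] at h1
      by_cases h : σ (σ i) = i
      · refine ⟨h, ?_⟩
        rwa [h, Pi.single_eq_same] at h1
      · rw [Pi.single_eq_of_ne h] at h1
        rcases mul_eq_zero.1 h1 with h' | h' <;> exact absurd h' (Units.ne_zero _)
    have hσS : ∀ i, σ i ∈ S ↔ i ∈ S := by
      intro i
      have h1 := congrArg (fun g : Matrix.GeneralLinearGroup (Fin n) F => ((g : MM) *ᵥ Pi.single i 1) (σ i)) hzt
      simp only [Units.val_mul, ← Matrix.mulVec_mulVec, ht_def, ph_mulVec K] at h1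
      simp only [scal, hzv, Pi.single_eq_same, mul_one] at h1
      have h2' : dt i = dt (σ i) := mul_left_cancel₀ (Units.ne_zero (d i)) (by linear_combination h1)
      simp only [dt] at h2'
      by_cases hi : i ∈ S <;> by_cases hsi : σ i ∈ S <;> simp [hi, hsi] at h2' ⊢
      · exact h2 (by linear_combination -h2')
      · exact h2 (by linear_combination h2')
    -- displacement of a moved coordinate
    let f : Fin n → Fin n → F := fun i => Pi.single i 1 - (z : MM) *ᵥ Pi.single i 1
    let moved : Fin n → Prop := fun i => σ i ≠ i ∨ (d i : F) ≠ 1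
    have hunmoved : ∀ i, ¬ moved i → ∀ x, ((z : MM) *ᵥ x) i = x i := by
      intro i hi x
      simp only [moved, not_or, not_not] at hi
      have := hzv x i
      rw [hi.1, hi.2, one_mul] at this
      exact this
    have hfi : ∀ i, f i = Pi.single i 1 - Pi.single (σ i) (d i : F) := fun i => by
      simp only [f, hzσ, mono_e]
    have hmove1 : ∀ i, moved i → σ i = i → (d i : F) = -1 := by
      intro i hi h
      have h1 := (hsigd i).2
      rw [h] at h1
      rcases mul_self_eq_one_iff.1 h1 with h3 | h3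
      · exact absurd h3 (hi.resolve_left (not_not.2 h))
      · exact h3
    have hfii : ∀ i, moved i → f i i ≠ 0 := fun i hi => by
      rw [hfi]
      by_cases h : σ i = i
      · rw [h, Pi.sub_apply, Pi.single_eq_same, Pi.single_eq_same, hmove1 i hi h]
        intro h'; exact h2 (by linear_combination h')
      · simp [Ne.symm h]
    have hfoff : ∀ i l, l ≠ i → l ≠ σ i → f i l = 0 := fun i l h1 h2 => by simp [hfi, h1, h2]
    have hfnorm : ∀ i, moved i → hh (f i) (f i) ≠ 0 := by
      intro i hi
      have e : hh (f i) (f i) = 2 - ((Pi.single (σ i) (d i : F) : Fin n → F) i +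
          τ ((Pi.single (σ i) (d i : F) : Fin n → F) i)) := by
        rw [hfi, sub_eq_add_neg, ← neg_one_smul F (Pi.single (σ i) (d i : F) : Fin n → F), K.form.add_left,
          K.form.smul_left, un_add_right K.form, un_add_right K.form, un_smul_right K.form,
          un_smul_right K.form, K.hh_single_left, K.hh_single_left, K.hh_single_left, K.hh_single_left,
          Pi.single_eq_same, Pi.single_eq_same, map_one]
        by_cases h : σ i = i
        · simp [h]; linear_combination hdn i
        · simp [h, Ne.symm h]; linear_combination hdn i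
      rw [e]
      by_cases h : σ i = i
      · rw [h, Pi.single_eq_same, hmove1 i hi h, map_neg, map_one]
        intro h'
        have h4 : (2 : F) * 2 = 0 := by linear_combination h'
        rcases mul_eq_zero.1 h4 with h5 | h5 <;> exact h2 h5
      · rw [Pi.single_eq_of_ne (Ne.symm h), map_zero, add_zero, sub_zero]; exact h2
    have hfS : ∀ i, i ∉ S → ∀ l ∈ S, f i l = 0 := fun i hi l hl =>
      hfoff i l (fun h => hi (h ▸ hl)) (fun h => hi ((hσS i).1 (h ▸ hl)))
    have hfix : ∀ x : Fin n → F, (∀ l ∈ S, x l = 0) → (∀ j, hh x (![u, v] j) = 0) →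
        (z : MM) *ᵥ x = x := by
      intro x hxS hxP
      refine ((Subgroup.closure_le (fixing {x})).2 ?_ hzcl) x rfl
      intro y hy x' hx'
      rw [Set.mem_singleton_iff] at hx'
      subst hx'
      rcases hy with rfl | rfl
      · rw [hs, show hh x' u = 0 from hxP 0, show hh x' v = 0 from hxP 1]; simp
      · rw [ht_def, ph_mulVec K]
        funext l
        simp only [scal, dt]
        split_ifs with h
        · simp [hxS l h]
        · simp
    have hcoef : ∀ i, ∃ c0 c1 : F, ∀ l, l ∉ S → f i l = c0 * u l + c1 * v l := by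
      intro i
      obtain ⟨c, hc⟩ := outside K hn hzU S ![u, v] hfix (Pi.single i 1)
      exact ⟨c 0, c 1, fun l hl => by simpa [f, Fin.sum_univ_two] using hc l hl⟩
    -- the action on the plane
    have hproj : ∀ x, (s : MM) *ᵥ x = -x → x = hh x u • u + hh x v • v := by
      intro x hx
      rw [hs] at hx
      refine smul_right_injective (Fin n → F) h2 ?_
      show (2 : F) • x = (2 : F) • (hh x u • u + hh x v • v)
      have : (2 : F) • x + ((-2) * hh x u) • u + ((-2) * hh x v) • v = 0 := by
        rw [two_smul, show x + x + ((-2) * hh x u) • u + ((-2) * hh x v) • v =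
          x + (x + ((-2) * hh x u) • u + ((-2) * hh x v) • v) by abel, hx, add_neg_cancel]
      rw [← sub_eq_zero, ← this]; module
    have hsneg : ∀ p, p = u ∨ p = v → (s : MM) *ᵥ p = -p := by
      intro p hp
      rcases hp with rfl | rfl <;> rw [hs]
      · rw [huu, huv]; module
      · rw [hvv, hvu]; module
    have hzP : ∀ p, p = u ∨ p = v → ∃ c0 c1 : F, (z : MM) *ᵥ p = c0 • u + c1 • v := by
      intro p hp
      refine ⟨_, _, hproj _ ?_⟩
      rw [Matrix.mulVec_mulVec, ← Units.val_mul, ← hzs, Units.val_mul, ← Matrix.mulVec_mulVec, hsneg p hp,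
        Matrix.mulVec_neg]
    -- the monomial piece on one orbit
    have mkm : ∀ i, moved i → ∃ m ∈ Cfsg.GU n F q, IsMono m ∧ (m : MM).det = -1 ∧ m * m = 1 ∧
        ∀ x l, ((m : MM) *ᵥ x) l = if l = i ∨ l = σ i then ((z : MM) *ᵥ x) l else x l := by
      intro i hi
      let e : Fin n → Fˣ := fun l => if l = i ∨ l = σ i then d l else 1
      have he : ∀ l, (e l : F) * τ (e l) = 1 := fun l => by simp only [e]; split_ifs <;> simp [hdn]
      have hmx : ∀ x l, ((monoGL (Equiv.swap i (σ i)) e : MM) *ᵥ x) l =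
          if l = i ∨ l = σ i then ((z : MM) *ᵥ x) l else x l := by
        intro x l
        rw [monoGL_val, monoMat_mulVec', Equiv.symm_swap]
        by_cases h1 : l = i
        · subst h1
          rw [Equiv.swap_apply_left, if_pos (Or.inl rfl)]
          have h3 := hzv x (σ l)
          rw [(hsigd l).1] at h3
          simp [e, h3]
        by_cases h3 : l = σ i
        · subst h3
          rw [Equiv.swap_apply_right, if_pos (Or.inr rfl), hzv]
          simp [e]
        rw [Equiv.swap_apply_of_ne_of_ne h1 h3, if_neg (by simp [h1, h3])]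
        simp [e, h1, h3]
      refine ⟨monoGL (Equiv.swap i (σ i)) e, mono_mem_GU K _ _ he, monoGL_isMono _ _, ?_, ?_, hmx⟩
      · rw [mono_det K]
        by_cases h : σ i = i
        · rw [h, Equiv.swap_self, show Equiv.Perm.sign (Equiv.refl (Fin n)) = 1 from map_one _,
            Finset.prod_eq_single i (fun l _ hl => by simp [e, h, hl]) (by simp)]
          simp [e, hmove1 i hi h]
        · rw [Equiv.Perm.sign_swap (Ne.symm h), Finset.prod_eq_mul i (σ i) (Ne.symm h)
            (fun l _ hl => by simp [e, hl.1, hl.2]) (by simp) (by simp)]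
          have h3 := (hsigd i).2
          simp [e]; linear_combination h3
      · refine Units.ext (CfsgLib.Geometry.matrix_eq_of_mulVec fun x => funext fun l => ?_)
        rw [Units.val_mul, ← Matrix.mulVec_mulVec, hmx, Units.val_one, Matrix.one_mulVec]
        split_ifs with hl
        · conv_rhs => rw [← hzv2 x]
          rcases hl with rfl | rfl
          · have h1 := hzv ((monoGL (Equiv.swap l (σ l)) e : MM) *ᵥ x) (σ l)
            have h3 := hzv ((z : MM) *ᵥ x) (σ l)
            rw [(hsigd l).1] at h1 h3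
            rw [h1, h3, hmx, if_pos (Or.inr rfl)]
          · rw [hzv, hzv, hmx, if_pos (Or.inl rfl)]
        · rw [hmx, if_neg hl]
    by_cases hzfix : (z : MM) *ᵥ u = u ∧ (z : MM) *ᵥ v = v
    · left
      obtain ⟨i, hi⟩ : ∃ i, moved i := by
        by_contra hcon
        push Not at hcon
        exact hz1 (Units.ext (CfsgLib.Geometry.matrix_eq_of_mulVec fun x => funext fun i => by
          rw [hunmoved i (hcon i), Units.val_one, Matrix.one_mulVec]))
      have hiS : i ∈ S := by
        by_contra hiS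
        obtain ⟨c0, c1, hc⟩ := hcoef i
        have hperp : ∀ p, (z : MM) *ᵥ p = p → hh p (f i) = 0 := fun p hp => by
          have h1 := (mem_GU_iff z).1 hzU p (Pi.single i 1)
          rw [hp] at h1
          show hh p (Pi.single i 1 - (z : MM) *ᵥ Pi.single i 1) = 0
          rw [sub_eq_add_neg, ← neg_one_smul F ((z : MM) *ᵥ Pi.single i 1), un_add_right K.form,
            un_smul_right K.form, h1, map_neg, map_one]
          ring
        apply hfnorm i hi
        have e : hh (f i) (f i) = c0 * hh u (f i) + c1 * hh v (f i) := by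
          rw [K.hh_eq, K.hh_eq, K.hh_eq, Finset.mul_sum, Finset.mul_sum, ← Finset.sum_add_distrib]
          refine Finset.sum_congr rfl fun l _ => ?_
          by_cases hl : l ∈ S
          · rw [hfS i hiS l hl, map_zero]; ring
          · conv_lhs => arg 1; rw [hc l hl]
            ring
        rw [e, hperp u hzfix.1, hperp v hzfix.2, mul_zero, mul_zero, add_zero]
      obtain ⟨m, hmU, hmm, hmdet, hm2, hmx⟩ := mkm i hi
      refine ⟨m, hmU, hmm, hmdet, commutes_of_plane K huu hvv huv hs hmU hm2 (a := 1) (b := 0) (c := 0)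
        (d := 1) ?_ ?_⟩
      · funext l; rw [hmx, hzfix.1]; simp
      · funext l; rw [hmx, hzfix.2]; simp
    by_cases hzneg : (z : MM) *ᵥ u = -u ∧ (z : MM) *ᵥ v = -v
    · exfalso
      have hu0 : ∀ l, ¬ moved l → u l = 0 := fun l hl => by
        have h := hunmoved l hl u
        rw [hzneg.1, Pi.neg_apply] at h
        exact (mul_eq_zero.1 (show (2 : F) * u l = 0 by linear_combination -h)).resolve_left h2
      -- at most two moved orbits outside
      have horb : ∀ i j l, moved i → moved j → moved l → i ∉ S → j ∉ S → l ∉ S → j ≠ i → j ≠ σ i →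
          l ≠ i → l ≠ σ i → l ≠ j → l ≠ σ j → False := by
        intro i j l hi hj hl hiS hjS hlS h1 h2' h3 h4 h5 h6
        obtain ⟨a0, a1, ha⟩ := hcoef i
        obtain ⟨b0, b1, hb⟩ := hcoef j
        obtain ⟨c0, c1, hc⟩ := hcoef l
        have eil := hfoff i l h3 h4
        have ejl := hfoff j l h5 h6
        have eij := hfoff i j h1 h2'
        have eii := ha i hiS
        by_cases hdet : a0 * b1 - a1 * b0 = 0
        · have hij : (a0 * f j j = 0) ∧ (a1 * f j j = 0) := by
            constructor
            · linear_combination a0 * hb j hjS + b0 * eij - b0 * ha j hjS + v j * hdet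
            · linear_combination a1 * hb j hjS + b1 * eij - b1 * ha j hjS - u j * hdet
          have e0 : a0 = 0 := (mul_eq_zero.1 hij.1).resolve_right (hfii j hj)
          have e1 : a1 = 0 := (mul_eq_zero.1 hij.2).resolve_right (hfii j hj)
          exact hfii i hi (by rw [eii, e0, e1]; ring)
        · refine hfii l hl ((mul_eq_zero.1 (show (a0 * b1 - a1 * b0) * f l l = 0 from ?_)).resolve_left hdet)
          linear_combination (a0 * b1 - a1 * b0) * hc l hlS + (c0 * b1 - c1 * b0) * (eil - ha l hlS) +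
            (a0 * c1 - a1 * c0) * (ejl - hb l hlS)
      have hsmall : ∃ i j, supp u ⊆ S ∪ {i, σ i, j, σ j} := by
        by_cases h0 : ∃ i, moved i ∧ i ∉ S
        swap
        · refine ⟨a, a, fun l hl => Finset.mem_union_left _ ?_⟩
          by_contra hlS
          exact mem_supp.1 hl (hu0 l fun h => h0 ⟨l, h, hlS⟩)
        obtain ⟨i, hi, hiS⟩ := h0
        by_cases h1 : ∃ j, moved j ∧ j ∉ S ∧ j ≠ i ∧ j ≠ σ i
        swap
        · refine ⟨i, i, fun l hl => ?_⟩
          by_contra hcon
          simp only [Finset.mem_union, Finset.mem_insert, Finset.mem_singleton, not_or] at hcon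
          exact mem_supp.1 hl (hu0 l fun h => h1 ⟨l, h, hcon.1, hcon.2.1, hcon.2.2.1⟩)
        obtain ⟨j, hj, hjS, hji, hjσ⟩ := h1
        refine ⟨i, j, fun l hl => ?_⟩
        by_contra hcon
        simp only [Finset.mem_union, Finset.mem_insert, Finset.mem_singleton, not_or] at hcon
        exact mem_supp.1 hl (hu0 l fun h =>
          horb i j l hi hj h hiS hjS hcon.1 hji hjσ hcon.2.1 hcon.2.2.1 hcon.2.2.2.1 hcon.2.2.2.2)
      obtain ⟨i, j, hij⟩ := hsmall
      have h1 := (Finset.card_le_card hij).trans (Finset.card_union_le _ _)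
      have h3 : ({i, σ i, j, σ j} : Finset (Fin n)).card ≤ 4 := Finset.card_le_four
      have h4 : n ≤ (supp u).card + 1 := hD.card_supp hg hgm a
      omega
    right
    -- the eigenline in the plane
    obtain ⟨w, α, β, hw, hw0, hzw⟩ : ∃ (w : Fin n → F) (α β : F), w = α • u + β • v ∧ w ≠ 0 ∧
        (z : MM) *ᵥ w = -w := by
      have mk : ∀ p, (p = u ∨ p = v) → (z : MM) *ᵥ p ≠ p → ∃ (w : Fin n → F) (α β : F),
          w = α • u + β • v ∧ w ≠ 0 ∧ (z : MM) *ᵥ w = -w := by
        intro p hp hne
        obtain ⟨c0, c1, hc⟩ := hzP p hp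
        refine ⟨p - (z : MM) *ᵥ p, (if p = u then 1 else 0) - c0, (if p = u then 0 else 1) - c1, ?_,
          sub_ne_zero.2 (Ne.symm hne), by rw [Matrix.mulVec_sub, hzv2, neg_sub]⟩
        rw [hc]
        rcases hp with rfl | rfl
        · rw [if_pos rfl, if_pos rfl]; module
        · have hne' : v ≠ u := fun h => by rw [h, huu] at huv; exact one_ne_zero huv
          rw [if_neg hne', if_neg hne']; module
      by_cases h : (z : MM) *ᵥ u = u
      · exact mk v (Or.inr rfl) fun h' => hzfix ⟨h, h'⟩
      · exact mk u (Or.inl rfl) h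
    have hline : ∀ x (c0 c1 : F), x = c0 • u + c1 • v → (z : MM) *ᵥ x = -x → ∃ γ : F, x = γ • w := by
      intro x c0 c1 hx hzx
      by_cases hdet : α * c1 - β * c0 = 0
      · by_cases hα : α = 0
        · have hβ : β ≠ 0 := fun h => hw0 (by rw [hw, hα, h]; simp)
          rw [hα, zero_mul, zero_sub, neg_eq_zero] at hdet
          refine ⟨c1 / β, ?_⟩
          have hc0 : c0 = 0 := (mul_eq_zero.1 hdet).resolve_left hβ
          simp [hw, hx, hα, hc0, smul_smul, hβ]
        · refine ⟨c0 / α, ?_⟩
          rw [hw, hx, smul_add, smul_smul, smul_smul, div_mul_cancel₀ _ hα]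
          congr 2
          rw [div_mul_eq_mul_div, eq_div_iff hα]; linear_combination hdet
      · exfalso
        refine hzneg ⟨?_, ?_⟩ <;> refine smul_right_injective (Fin n → F) hdet ?_ <;> beta_reduce
        · have e : (α * c1 - β * c0) • u = c1 • w - β • x := by rw [hw, hx]; module
          rw [smul_neg, ← Matrix.mulVec_smul, e, Matrix.mulVec_sub, Matrix.mulVec_smul, Matrix.mulVec_smul,
            hzw, hzx]
          module
        · have e : (α * c1 - β * c0) • v = α • x - c0 • w := by rw [hw, hx]; module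
          rw [smul_neg, ← Matrix.mulVec_smul, e, Matrix.mulVec_sub, Matrix.mulVec_smul, Matrix.mulVec_smul,
            hzw, hzx]
          module
    have hw_unmoved : ∀ l, ¬ moved l → w l = 0 := fun l hl => by
      have h := hunmoved l hl w
      rw [hzw, Pi.neg_apply] at h
      exact (mul_eq_zero.1 (show (2 : F) * w l = 0 by linear_combination -h)).resolve_left h2
    -- displacements outside are multiples of w
    have hfw : ∀ i, i ∉ S → ∃ γ : F, ∀ l, l ∉ S → 2 * f i l = γ * w l := by
      intro i hiS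
      obtain ⟨c0, c1, hc⟩ := hcoef i
      obtain ⟨p0, p1, hp⟩ := hzP u (Or.inl rfl)
      obtain ⟨r0, r1, hr⟩ := hzP v (Or.inr rfl)
      set Q := c0 • u + c1 • v with hQ
      have hzQ : (z : MM) *ᵥ Q = (c0 * p0 + c1 * r0) • u + (c0 * p1 + c1 * r1) • v := by
        rw [hQ, Matrix.mulVec_add, Matrix.mulVec_smul, Matrix.mulVec_smul, hp, hr]; module
      obtain ⟨γ, hγ⟩ := hline (Q - (z : MM) *ᵥ Q) (c0 - (c0 * p0 + c1 * r0)) (c1 - (c0 * p1 + c1 * r1))
        (by rw [hzQ, hQ]; module) (by rw [Matrix.mulVec_sub, hzv2, neg_sub])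
      refine ⟨γ, fun l hl => ?_⟩
      have hzf : (z : MM) *ᵥ f i = -f i := by
        simp only [f, Matrix.mulVec_sub, hzv2, neg_sub]
      obtain ⟨k, rfl⟩ := σ.surjective l
      have hk : k ∉ S := fun h => hl ((hσS k).2 h)
      have h1 := congrFun hzf (σ k)
      rw [hzv, Pi.neg_apply, hc k hk] at h1
      have h3 := congrFun hγ (σ k)
      rw [Pi.sub_apply, hzv, Pi.smul_apply, smul_eq_mul] at h3
      simp only [hQ, Pi.add_apply, Pi.smul_apply, smul_eq_mul] at h3
      linear_combination h3 + h1 + hc (σ k) hl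
    by_cases h0 : ∃ i, moved i ∧ i ∉ S
    swap
    · refine ⟨w, α, β, a, a, hw, hw0, fun l hl _ _ => hw_unmoved l fun h => h0 ⟨l, h, hl⟩, fun hS0 => ?_⟩
      exact absurd (funext fun l => (em (l ∈ S)).elim (hS0 l) fun hl => hw_unmoved l fun h => h0 ⟨l, h, hl⟩) hw0
    obtain ⟨i, hi, hiS⟩ := h0
    have hsupp : ∀ l, l ∉ S → l ≠ i → l ≠ σ i → w l = 0 := by
      intro l hl h1 h2'
      by_cases hml : moved l
      swap
      · exact hw_unmoved l hml
      obtain ⟨γ, hγ⟩ := hfw i hiS
      have e1 := hγ l hl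
      rw [hfoff i l h1 h2', mul_zero] at e1
      refine (mul_eq_zero.1 e1.symm).resolve_left fun hγ0 => hfii i hi ?_
      have e2 := hγ i hiS
      rw [hγ0, zero_mul] at e2
      exact (mul_eq_zero.1 e2).resolve_left h2
    refine ⟨w, α, β, i, σ i, hw, hw0, hsupp, fun hS0 => ?_⟩
    obtain ⟨m, hmU, hmm, hmdet, hm2, hmx⟩ := mkm i hi
    have hwall : ∀ l, l ≠ i → l ≠ σ i → w l = 0 := fun l h1 h3 =>
      (em (l ∈ S)).elim (hS0 l) fun hl => hsupp l hl h1 h3
    have hmp : ∀ p, (p = u ∨ p = v) → (m : MM) *ᵥ p = (z : MM) *ᵥ p := by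
      intro p hp
      obtain ⟨c0, c1, hc⟩ := hzP p hp
      obtain ⟨γ, hγ⟩ := hline (p - (z : MM) *ᵥ p) ((if p = u then 1 else 0) - c0)
        ((if p = u then 0 else 1) - c1) (by
          rw [hc]
          rcases hp with rfl | rfl
          · rw [if_pos rfl, if_pos rfl]; module
          · have hne' : v ≠ u := fun h => by rw [h, huu] at huv; exact one_ne_zero huv
            rw [if_neg hne', if_neg hne']; module) (by rw [Matrix.mulVec_sub, hzv2, neg_sub])
      funext l
      rw [hmx]
      split_ifs with hl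
      · rfl
      · rw [not_or] at hl
        have h1 := congrFun hγ l
        rw [Pi.sub_apply, Pi.smul_apply, hwall l hl.1 hl.2, smul_zero] at h1
        linear_combination h1
    obtain ⟨p0, p1, hp⟩ := hzP u (Or.inl rfl)
    obtain ⟨r0, r1, hr⟩ := hzP v (Or.inr rfl)
    exact ⟨m, hmU, hmm, hmdet, commutes_of_plane K huu hvv huv hs hmU hm2 ((hmp u (Or.inl rfl)).trans hp)
      ((hmp v (Or.inr rfl)).trans hr)⟩
  obtain ⟨S₀, -, hS₀⟩ := Finset.exists_subset_card_eq (s := (Finset.univ : Finset (Fin n))) (n := 4)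
    (by simp; omega)
  rcases key S₀ hS₀ with h | ⟨w, α, β, i, i', hw, hw0, hwz, -⟩
  · exact h
  set T := S₀ ∪ {i, i'}
  have hT : T.card ≤ 6 := (Finset.card_union_le _ _).trans (by
    have := Finset.card_le_two (a := i) (b := i'); omega)
  have hwT : ∀ l, l ∉ T → w l = 0 := fun l hl => by
    simp only [T, Finset.mem_union, Finset.mem_insert, Finset.mem_singleton, not_or] at hl
    exact hwz l hl.1 hl.2.1 hl.2.2
  have hZ : 4 ≤ (Finset.univ \ T).card := by
    rw [Finset.card_sdiff_of_subset (Finset.subset_univ _), Finset.card_univ, Fintype.card_fin]; omega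
  obtain ⟨S', hS', hS'4⟩ := Finset.exists_subset_card_eq (s := Finset.univ \ T) (n := 4) (by omega)
  have hS'0 : ∀ l ∈ S', w l = 0 := fun l hl => hwT l (Finset.mem_sdiff.1 (hS' hl)).2
  rcases key S' hS'4 with h | ⟨w', α', β', j, j', hw', hw'0, hw'z, hok⟩
  · exact h
  have hrow : ∀ l, ¬ (u l = 0 ∧ v l = 0) := by
    rintro l ⟨h1, h3⟩
    have him : ¬ IsMono g⁻¹ := fun h => hgm (by simpa using isMono_inv h)
    exact hab (hD g⁻¹ (inv_mem hg) him l a b (by rw [inv_apply K hgU]; exact (congrArg τ h1).trans (map_zero τ))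
      (by rw [inv_apply K hgU]; exact (congrArg τ h3).trans (map_zero τ)))
  by_cases hdet : α * β' - β * α' = 0
  · apply hok
    intro l hl
    have e : ∀ k, w k = 0 → w' k = 0 := by
      intro k hk
      rw [hw, Pi.add_apply, Pi.smul_apply, Pi.smul_apply, smul_eq_mul, smul_eq_mul] at hk
      rw [hw', Pi.add_apply, Pi.smul_apply, Pi.smul_apply, smul_eq_mul, smul_eq_mul]
      by_cases hα : α = 0
      · have hβ : β ≠ 0 := fun h => hw0 (by rw [hw, hα, h]; simp)
        rw [hα, zero_mul, zero_sub, neg_eq_zero] at hdet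
        rw [hα, zero_mul, zero_add] at hk
        rw [(mul_eq_zero.1 hdet).resolve_left hβ, (mul_eq_zero.1 hk).resolve_left hβ]; ring
      · refine (mul_eq_zero.1 (show α * (α' * u k + β' * v k) = 0 from ?_)).resolve_left hα
        linear_combination α' * hk + v k * hdet
    exact e l (hS'0 l hl)
  -- two small supports cover everything
  have hcov : ∀ l, w l ≠ 0 ∨ w' l ≠ 0 := by
    intro l
    by_contra hcon
    push Not at hcon
    obtain ⟨h1, h3⟩ := hcon
    rw [hw, Pi.add_apply, Pi.smul_apply, Pi.smul_apply, smul_eq_mul, smul_eq_mul] at h1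
    rw [hw', Pi.add_apply, Pi.smul_apply, Pi.smul_apply, smul_eq_mul, smul_eq_mul] at h3
    exact hrow l ⟨(mul_eq_zero.1 (show (α * β' - β * α') * u l = 0 by
      linear_combination β' * h1 - β * h3)).resolve_left hdet,
      (mul_eq_zero.1 (show (α * β' - β * α') * v l = 0 by
      linear_combination α * h3 - α' * h1)).resolve_left hdet⟩
  set W := supp w
  set W' := supp w'
  have hWc : W.card ≤ 6 := le_trans (Finset.card_le_card fun l hl => by
    by_contra hlT; exact mem_supp.1 hl (hwT l hlT)) hT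
  have hW'c : W'.card ≤ 6 := le_trans (Finset.card_le_card (t := S' ∪ {j, j'}) fun l hl => by
    by_contra hlT
    simp only [Finset.mem_union, Finset.mem_insert, Finset.mem_singleton, not_or] at hlT
    exact mem_supp.1 hl (hw'z l hlT.1 hlT.2.1 hlT.2.2))
    ((Finset.card_union_le _ _).trans (by have := Finset.card_le_two (a := j) (b := j'); omega))
  have hun : n ≤ (W ∪ W').card := by
    have : (Finset.univ : Finset (Fin n)).card ≤ (W ∪ W').card := Finset.card_le_card fun l _ =>
      Finset.mem_union.2 ((hcov l).imp mem_supp.2 mem_supp.2)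
    simpa using this
  have hI : (W ∪ W').card + (W ∩ W').card = W.card + W'.card := Finset.card_union_add_card_inter W W'
  have hA : (W \ W').card + (W ∩ W').card = W.card := Finset.card_sdiff_add_card_inter W W'
  have hB : (W' \ W).card + (W ∩ W').card = W'.card := by
    rw [Finset.inter_comm]; exact Finset.card_sdiff_add_card_inter W' W
  obtain ⟨A, hAW, hAc⟩ := Finset.exists_subset_card_eq (s := W \ W') (n := min 4 (W.card - 3)) (by omega)
  obtain ⟨B, hBW, hBc⟩ := Finset.exists_subset_card_eq (s := W' \ W) (n := 4 - min 4 (W.card - 3)) (by omega)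
  have hAB : (A ∪ B).card = 4 := by
    rw [Finset.card_union_of_disjoint (Finset.disjoint_left.2 fun l hlA hlB =>
      (Finset.mem_sdiff.1 (hBW hlB)).2 (Finset.mem_sdiff.1 (hAW hlA)).1), hAc, hBc]
    omega
  rcases key (A ∪ B) hAB with h | ⟨w'', α'', β'', k, k', hw'', hw''0, hw''z, -⟩
  · exact h
  exfalso
  set x := α'' * β' - β'' * α' with hx
  set y := α * β'' - β * α'' with hy
  have he : ∀ l, (α * β' - β * α') * w'' l = x * w l + y * w' l := fun l => by
    simp only [hw, hw', hw'', hx, hy, Pi.add_apply, Pi.smul_apply, smul_eq_mul]; ring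
  have hin : ∀ l, x * w l + y * w' l ≠ 0 → l ∈ (A ∪ B) ∪ {k, k'} := fun l hl => by
    by_contra hlT
    simp only [Finset.mem_union, Finset.mem_insert, Finset.mem_singleton, not_or] at hlT
    exact hl (by rw [← he, hw''z l (by simp [hlT.1]) hlT.2.1 hlT.2.2, mul_zero])
  have hkk := Finset.card_le_two (a := k) (b := k')
  by_cases hx0 : x = 0
  · have hy0 : y ≠ 0 := fun hy0 => hw''0 (funext fun l =>
      (mul_eq_zero.1 (by rw [he, hx0, hy0]; ring)).resolve_left hdet)
    have hsub : W' \ B ⊆ {k, k'} := fun l hl => by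
      obtain ⟨hlW, hlB⟩ := Finset.mem_sdiff.1 hl
      have h := hin l (by rw [hx0, zero_mul, zero_add]; exact mul_ne_zero hy0 (mem_supp.1 hlW))
      rcases Finset.mem_union.1 h with h | h
      · rcases Finset.mem_union.1 h with h | h
        · exact absurd hlW (Finset.mem_sdiff.1 (hAW h)).2
        · exact absurd h hlB
      · exact h
    have h1 := Finset.card_le_card hsub
    rw [Finset.card_sdiff_of_subset (hBW.trans Finset.sdiff_subset), hBc] at h1
    omega
  by_cases hy0 : y = 0
  · have hsub : W \ A ⊆ {k, k'} := fun l hl => by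
      obtain ⟨hlW, hlA⟩ := Finset.mem_sdiff.1 hl
      have h := hin l (by rw [hy0, zero_mul, add_zero]; exact mul_ne_zero hx0 (mem_supp.1 hlW))
      rcases Finset.mem_union.1 h with h | h
      · rcases Finset.mem_union.1 h with h | h
        · exact absurd h hlA
        · exact absurd hlW (Finset.mem_sdiff.1 (hBW h)).2
      · exact h
    have h1 := Finset.card_le_card hsub
    rw [Finset.card_sdiff_of_subset (hAW.trans Finset.sdiff_subset), hAc] at h1
    omega
  have hsub : (W \ W') ∪ (W' \ W) ⊆ (A ∪ B) ∪ {k, k'} := fun l hl => hin l (by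
    rcases Finset.mem_union.1 hl with h | h <;> obtain ⟨h1, h3⟩ := Finset.mem_sdiff.1 h
    · rw [notMem_supp.1 h3, mul_zero, add_zero]; exact mul_ne_zero hx0 (mem_supp.1 h1)
    · rw [notMem_supp.1 h3, mul_zero, zero_add]; exact mul_ne_zero hy0 (mem_supp.1 h1))
  have h1 := (Finset.card_le_card hsub).trans (Finset.card_union_le _ _)
  rw [Finset.card_union_of_disjoint (Finset.disjoint_left.2 fun l hl hl' =>
    (Finset.mem_sdiff.1 hl').2 (Finset.mem_sdiff.1 hl).1), hAB] at h1
  omega

end CfsgLib.UnMono
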