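import Mathlib
import Cfsg.Agent.Lib.UnMono.Odd

/-!
Odd characteristic, second stage: with reflections available every column would be flat, which is impossible.
-/

set_option autoImplicit false
set_option linter.unusedSectionVars false

open scoped Classical

namespace CfsgLib.UnMono

open scoped Matrix
open CfsgLib.Maximal

variable {n q : ℕ} {F : Type*} [Field F] [Fintype F] {τ : F ≃+* F}
  {M : Subgroup (Matrix.GeneralLinearGroup (Fin n) F)}

local notation "hh" => Cfsg.hermForm n F q
local notation "MM" => Matrix (Fin n) (Fin n) F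

variable (K : Ctx n q τ)
include K

lemma flip_prop (T : Finset (Fin n)) :
    ∀ i, (fun l => if l ∈ T then (-1 : F) else 1) i * τ ((fun l => if l ∈ T then (-1 : F) else 1) i) = 1 :=
  fun i => by simp only; split_ifs <;> simp

/-- The diagonal sign change on `T`. -/
def flipGL (T : Finset (Fin n)) : Matrix.GeneralLinearGroup (Fin n) F := ph _ (flip_prop K T)

lemma flip_mulVec (T : Finset (Fin n)) (x : Fin n → F) (l : Fin n) :
    ((flipGL K T : MM) *ᵥ x) l = if l ∈ T then -x l else x l := by
  rw [flipGL, ph_mulVec K]; simp only [scal]; split_ifs <;> simp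

lemma flip_sq (T : Finset (Fin n)) : flipGL K T * flipGL K T = 1 :=
  Units.ext (CfsgLib.Geometry.matrix_eq_of_mulVec fun x => funext fun l => by
    rw [Units.val_mul, ← Matrix.mulVec_mulVec, flip_mulVec K, flip_mulVec K, Units.val_one, Matrix.one_mulVec]
    split_ifs <;> simp)

lemma flip_comm (S T : Finset (Fin n)) : flipGL K S * flipGL K T = flipGL K T * flipGL K S :=
  Units.ext (CfsgLib.Geometry.matrix_eq_of_mulVec fun x => funext fun l => by
    rw [Units.val_mul, Units.val_mul, ← Matrix.mulVec_mulVec, ← Matrix.mulVec_mulVec, flip_mulVec K,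
      flip_mulVec K, flip_mulVec K, flip_mulVec K]
    split_ifs <;> rfl)

lemma flip_det (T : Finset (Fin n)) : (flipGL K T : MM).det = (-1) ^ T.card := by
  rw [flipGL, ph_det K, Finset.prod_ite_mem, Finset.univ_inter, Finset.prod_const]

/-- In odd characteristic some non-monomial element fixes a coordinate line. -/
theorem fixer_of_odd_mono (hn : 6 ≤ n) (hO : Over q M) (hq : 3 ≤ q) (h2 : (2 : F) ≠ 0) (hD : Dense M)
    (hodd : ∃ s ∈ M, ¬ IsMono s ∧ ∃ m ∈ Cfsg.GU n F q, IsMono m ∧ (m : MM).det = -1 ∧ m * s = s * m) :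
    Fixer M := by
  by_contra hno
  obtain ⟨s₀, hs₀, hs₀m, m, hm, hmm, hmdet, hms⟩ := hodd
  set G₂ : Set (Matrix.GeneralLinearGroup (Fin n) F) := insert s₀ {g | g ∈ suGL n F q ∧ IsMono g}
  set M₂ := Subgroup.closure G₂
  have hM₂ : M₂ ≤ M := (Subgroup.closure_le _).2 fun g hg => by
    rcases hg with rfl | ⟨hg, hgm⟩
    · exact hs₀
    · exact hO.mono g hg hgm
  have hO₂ : Over q M₂ := ⟨hM₂.trans hO.le, fun g hg hgm => Subgroup.subset_closure (Or.inr ⟨hg, hgm⟩)⟩
  have hD₂ : Dense M₂ := fun x hx => hD x (hM₂ hx)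
  let p₀ : Fin n := ⟨0, by omega⟩
  set r := flipGL K {p₀}
  have hrU : r ∈ Cfsg.GU n F q := ph_mem_GU K
  have hrdet : (r : MM).det = -1 := by rw [flip_det K]; simp
  have hrinv : r⁻¹ = r := inv_eq_of_mul_eq_one_right (flip_sq K _)
  have hrnorm : ∀ g ∈ M₂, r * g * r⁻¹ ∈ M₂ := by
    suffices hle : M₂ ≤ M₂.comap (MulAut.conj r).toMonoidHom from fun g hg => hle hg
    refine (Subgroup.closure_le _).2 fun g hg => ?_
    show r * g * r⁻¹ ∈ M₂
    rcases hg with rfl | ⟨hg, hgm⟩
    swap
    · exact hO₂.mono _ (conj_mem_su K hrU hg) (isMono_mul (isMono_mul (ph_isMono K) hgm) (isMono_inv (ph_isMono K)))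
    have h1 : r * m⁻¹ ∈ M₂ := hO₂.mono _
      ⟨(Cfsg.GU n F q).mul_mem hrU ((Cfsg.GU n F q).inv_mem hm), (mem_specialLinear_iff _).2 (by
        rw [Units.val_mul, Matrix.det_mul, hrdet]
        have h3 : (m : MM).det * ((m⁻¹ : Matrix.GeneralLinearGroup (Fin n) F) : MM).det = 1 := by
          rw [← Matrix.det_mul, ← Units.val_mul, mul_inv_cancel, Units.val_one, Matrix.det_one]
        rw [hmdet] at h3
        exact h3)⟩
      (isMono_mul (ph_isMono K) (isMono_inv hmm))
    have h3 := mul_mem (mul_mem h1 (Subgroup.subset_closure (Or.inl rfl) : g ∈ M₂)) (inv_mem h1)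
    rw [show r * g * r⁻¹ = r * m⁻¹ * g * (r * m⁻¹)⁻¹ from ?_]
    · exact h3
    · rw [mul_inv_rev, inv_inv, show r * m⁻¹ * g * (m * r⁻¹) = r * (m⁻¹ * (g * m)) * r⁻¹ by group, ← hms,
        inv_mul_cancel_left]
  have hA : ∀ a ∈ Subgroup.zpowers r, ∀ g ∈ M₂, a * g * a⁻¹ ∈ M₂ := by
    intro a ha g hg
    obtain ⟨k, rfl⟩ := Subgroup.mem_zpowers_iff.1 ha
    induction k using Int.induction_on with
    | zero => simpa using hg
    | succ k ih =>
      have := hrnorm _ (ih ⟨_, rfl⟩)
      convert this using 1; group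
    | pred k ih =>
      have := hrnorm _ (ih ⟨_, rfl⟩)
      rw [zpow_sub, zpow_one, hrinv]
      rw [hrinv] at this
      convert this using 1
      rw [mul_inv_rev, hrinv, (Commute.refl r).zpow_right (-(k : ℤ)) |>.eq.symm]
      group
  set H := hat M₂ (Subgroup.zpowers r) hA with hH
  have hr01 : ∀ a ∈ Subgroup.zpowers r, a = 1 ∨ a = r := by
    intro a ha
    obtain ⟨k, rfl⟩ := Subgroup.mem_zpowers_iff.1 ha
    rcases Int.even_or_odd k with ⟨j, rfl⟩ | ⟨j, rfl⟩
    · left; rw [← two_mul, zpow_mul, show r ^ (2 : ℤ) = 1 by rw [zpow_two]; exact flip_sq K _, one_zpow]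
    · right
      rw [zpow_add, zpow_mul, show r ^ (2 : ℤ) = 1 by rw [zpow_two]; exact flip_sq K _, one_zpow, one_mul,
        zpow_one]
  have hne1 : (-1 : F) ≠ 1 := fun h => h2 (by linear_combination -h)
  have hHdet : ∀ g ∈ H, (g : MM).det = 1 → g ∈ M₂ := by
    intro g hg hdet
    obtain ⟨a, ha, hga⟩ := mem_hat.1 hg
    rcases hr01 a ha with rfl | rfl
    · simpa using hga
    · have h1 := (mem_specialLinear_iff _).1 (hO₂.le hga).2
      rw [Units.val_mul, Matrix.det_mul, hdet, hrdet, one_mul] at h1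
      exact absurd h1 hne1
  have hHU : ∀ g ∈ H, g ∈ Cfsg.GU n F q := by
    intro g hg
    obtain ⟨a, ha, hga⟩ := mem_hat.1 hg
    have haU : a ∈ Cfsg.GU n F q := by
      rcases hr01 a ha with rfl | rfl
      · exact one_mem _
      · exact hrU
    simpa using (Cfsg.GU n F q).mul_mem (hO₂.le hga).1 ((Cfsg.GU n F q).inv_mem haU)
  have hMH : ∀ g ∈ M₂, g ∈ H := fun g hg => mem_hat.2 ⟨1, one_mem _, by simpa using hg⟩
  have hrH : r ∈ H := mem_hat.2 ⟨r, Subgroup.mem_zpowers r, by rw [flip_sq K]; exact one_mem _⟩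
  have hflipH : ∀ k : Fin n, flipGL K {k} ∈ H := fun k => by
    have h : flipGL K {k} * r ∈ M₂ := hO₂.mono _ ⟨(Cfsg.GU n F q).mul_mem (ph_mem_GU K) hrU,
      (mem_specialLinear_iff _).2 (by rw [Units.val_mul, Matrix.det_mul, flip_det K, hrdet]; simp)⟩
      (isMono_mul (ph_isMono K) (ph_isMono K))
    have := mul_mem (hMH _ h) (inv_mem hrH)
    simpa using this
  -- every column of a non-monomial element is flat
  have flat : ∀ x ∈ M₂, ¬ IsMono x → ∀ k p p' : Fin n, p ≠ p' → col x k p ≠ 0 → col x k p' ≠ 0 →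
      col x k p * τ (col x k p) = col x k p' * τ (col x k p') := by
    intro x hx hxm k p p' hpp hp hp'
    by_contra hne
    have hxU := (hO₂.le hx).1
    set u := col x k
    obtain ⟨j, hjk⟩ := Fintype.exists_ne_of_one_lt_card (by simp; omega : 1 < Fintype.card (Fin n)) k
    set ru := x * flipGL K {k} * x⁻¹ with hru
    have hruz : ∀ z, (ru : MM) *ᵥ z = z + ((-2) * hh z u) • u := fun z => by
      rw [hru, flipGL, conj_pair_mulVec K hxU hjk.symm (fun i h1 _ => by simp [h1]) z]
      simp [hjk, u]
      norm_num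
    set t := flipGL K {p, p'}
    have htU : t ∈ Cfsg.GU n F q := ph_mem_GU K
    have htdet : (t : MM).det = 1 := by rw [flip_det K, Finset.card_pair hpp]; ring
    have htM : t ∈ M₂ := hO₂.mono _ ⟨htU, (mem_specialLinear_iff _).2 htdet⟩ (ph_isMono K)
    have hrusq : ru * ru = 1 := by
      rw [hru, show x * flipGL K {k} * x⁻¹ * (x * flipGL K {k} * x⁻¹) =
        x * (flipGL K {k} * flipGL K {k}) * x⁻¹ by group, flip_sq K, mul_one, mul_inv_cancel]
    have hnc : ¬ IsConj ru t := by
      intro hc
      obtain ⟨c, hc⟩ := isConj_iff.1 hc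
      have h1 : (t : MM).det = (ru : MM).det := by rw [← hc, det_conj]
      rw [htdet, hru, det_conj, flip_det K] at h1
      exact hne1 (by simpa using h1.symm)
    obtain ⟨z, hzcl, hzz, hz1, hzs, hzt⟩ := exists_central hrusq (flip_sq K {p, p'}) hnc
    have hruH : ru ∈ H := mul_mem (mul_mem (hMH x hx) (hflipH k)) (inv_mem (hMH x hx))
    have hzH : z ∈ H := (Subgroup.closure_le H).2 (by
      intro y hy; rcases hy with rfl | rfl
      · exact hruH
      · exact hMH _ htM) hzcl
    have hzU := hHU z hzH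
    obtain ⟨a, ha, hza⟩ := mem_hat.1 hzH
    obtain ⟨o₁, o₂, ho, ho₁, ho₂⟩ : ∃ o₁ o₂ : Fin n, o₁ ≠ o₂ ∧ o₁ ∉ ({p, p'} : Finset (Fin n)) ∧
        o₂ ∉ ({p, p'} : Finset (Fin n)) := by
      obtain ⟨x, y, hx, hy, hxy⟩ := Finset.one_lt_card_iff.1 (show 1 < (Finset.univ \ ({p, p'} : Finset (Fin n))).card by
        rw [Finset.card_sdiff_of_subset (Finset.subset_univ _), Finset.card_univ, Fintype.card_fin,
          Finset.card_pair hpp]; omega)
      exact ⟨x, y, hxy, (Finset.mem_sdiff.1 hx).2, (Finset.mem_sdiff.1 hy).2⟩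
    have hamono : IsMono a ∧ a * t = t * a := by
      rcases hr01 a ha with rfl | rfl
      · exact ⟨fun c => ⟨c, fun l hl => by simp [hl]⟩, by simp⟩
      · exact ⟨ph_isMono K, flip_comm K _ _⟩
    have hzam : IsMono (z * a) := mono_of_commute K hn hO₂ h2 hD₂ hza (a := p) (a' := p') (b := o₁) (b' := o₂)
      (hd := flip_prop K {p, p'}) hpp ho (by simp) (by simp only [if_neg ho₁, if_neg ho₂])
      (by simp only [if_neg ho₁]; simpa using hne1) (by
        show z * a * t = t * (z * a)
        rw [mul_assoc, hamono.2, ← mul_assoc, hzt, mul_assoc])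
    have hzm : IsMono z := (isMono_mul_iff hamono.1).1 hzam
    obtain ⟨σ, d, hzσ⟩ := hzm.exists_eq
    have hdn : ∀ i, (d i : F) * τ (d i) = 1 := nm_of_mono K (hzσ ▸ hzU)
    have hzv : ∀ y i, ((z : MM) *ᵥ y) (σ i) = d i * y i := fun y i => by
      rw [hzσ, monoGL_val, monoMat_mulVec]
    have huu : hh u u = 1 := by simpa [u] using hh_col K hxU k k
    -- the image of the line of u
    have hzu : (z : MM) *ᵥ u = hh ((z : MM) *ᵥ u) u • u := by
      have h1 : (ru : MM) *ᵥ ((z : MM) *ᵥ u) = -((z : MM) *ᵥ u) := by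
        rw [Matrix.mulVec_mulVec, ← Units.val_mul, ← hzs, Units.val_mul, ← Matrix.mulVec_mulVec, hruz u, huu,
          show u + ((-2 : F) * 1) • u = -u by module, Matrix.mulVec_neg]
      rw [hruz] at h1
      refine smul_right_injective (Fin n → F) h2 ?_
      beta_reduce
      rw [← sub_eq_zero]
      have h3 : (z : MM) *ᵥ u + ((-2) * hh ((z : MM) *ᵥ u) u) • u + (z : MM) *ᵥ u = 0 := by
        rw [h1, neg_add_cancel]
      rw [← h3]; module
    set γ := hh ((z : MM) *ᵥ u) u
    have hγ : γ * γ = 1 := by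
      have h1 : (z : MM) *ᵥ ((z : MM) *ᵥ u) = u := by
        rw [Matrix.mulVec_mulVec, ← Units.val_mul, hzz, Units.val_one, Matrix.one_mulVec]
      rw [hzu, Matrix.mulVec_smul, hzu, smul_smul] at h1
      have h3 := congrFun h1 p
      exact mul_right_cancel₀ hp (by simpa using h3)
    have hfix : ∀ y : Fin n → F, (∀ l ∈ ({p, p'} : Finset (Fin n)), y l = 0) → (∀ j, hh y (![u] j) = 0) →
        (z : MM) *ᵥ y = y := by
      intro y hyS hyP
      refine ((Subgroup.closure_le (fixing {y})).2 ?_ hzcl) y rfl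
      intro g hg y' hy'
      rw [Set.mem_singleton_iff] at hy'
      subst hy'
      rcases hg with rfl | rfl
      · rw [hruz, show hh y' u = 0 from hyP 0]; simp
      · funext l
        rw [flip_mulVec K]
        split_ifs with h
        · simp [hyS l h]
        · rfl
    have hσT : ∀ i, σ i ∈ ({p, p'} : Finset (Fin n)) ↔ i ∈ ({p, p'} : Finset (Fin n)) := by
      intro i
      have h1 := congrArg (fun g : Matrix.GeneralLinearGroup (Fin n) F => ((g : MM) *ᵥ Pi.single i 1) (σ i)) hzt
      simp only [Units.val_mul, ← Matrix.mulVec_mulVec] at h1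
      rw [hzv, flip_mulVec K, flip_mulVec K, hzv, Pi.single_eq_same] at h1
      by_cases hi : i ∈ ({p, p'} : Finset (Fin n)) <;> by_cases hsi : σ i ∈ ({p, p'} : Finset (Fin n)) <;>
        simp only [if_pos, if_neg, hi, hsi, iff_self, not_false_iff] at h1 ⊢
      · exact absurd (mul_left_cancel₀ (Units.ne_zero (d i)) (show (d i : F) * (-1) = d i * 1 by
          linear_combination h1)) hne1
      · exact absurd (mul_left_cancel₀ (Units.ne_zero (d i)) (show (d i : F) * (-1) = d i * 1 by
          linear_combination -h1)) hne1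
    rcases mul_self_eq_one_iff.1 hγ with hγ1 | hγ1
    · -- u is fixed
      rw [hγ1, one_smul] at hzu
      have hout : ∀ i, i ∉ ({p, p'} : Finset (Fin n)) → (z : MM) *ᵥ Pi.single i 1 = Pi.single i 1 := by
        intro i hi
        obtain ⟨c, hc⟩ := outside K hn hzU {p, p'} ![u] hfix (Pi.single i 1)
        set f := Pi.single i 1 - (z : MM) *ᵥ Pi.single i 1 with hf
        have hfσ : (z : MM) *ᵥ Pi.single i 1 = Pi.single (σ i) (d i : F) := by rw [hzσ, mono_e]
        have hfu : hh u f = 0 := by
          have h1 := (mem_GU_iff z).1 hzU u (Pi.single i 1)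
          rw [hzu] at h1
          rw [hf, sub_eq_add_neg, ← neg_one_smul F ((z : MM) *ᵥ Pi.single i 1), un_add_right K.form,
            un_smul_right K.form, h1, map_neg, map_one]
          ring
        have hff : hh f f = 0 := by
          have e : hh f f = c 0 * hh u f := by
            rw [K.hh_eq, K.hh_eq, Finset.mul_sum]
            refine Finset.sum_congr rfl fun l _ => ?_
            by_cases hl : l ∈ ({p, p'} : Finset (Fin n))
            · have h0 : f l = 0 := by
                have h1 : l ≠ i := fun h => hi (h ▸ hl)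
                have h3 : l ≠ σ i := fun h => hi ((hσT i).1 (h ▸ hl))
                simp [hf, hfσ, h1, h3]
              rw [h0, map_zero]; ring
            · conv_lhs => arg 1; rw [show f l = c 0 * u l by simpa [Fin.sum_univ_one] using hc l hl]
              ring
          rw [e, hfu, mul_zero]
        rw [hfσ]
        rw [hf, hfσ] at hff
        rw [sub_eq_add_neg, ← neg_one_smul F (Pi.single (σ i) (d i : F) : Fin n → F), K.form.add_left,
          K.form.smul_left, un_add_right K.form, un_add_right K.form, un_smul_right K.form,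
          un_smul_right K.form, K.hh_single_left, K.hh_single_left, K.hh_single_left, K.hh_single_left,
          Pi.single_eq_same, Pi.single_eq_same, map_one] at hff
        by_cases h : σ i = i
        · rw [h] at hff ⊢
          simp only [Pi.single_eq_same, map_neg, map_one] at hff
          have hdd : (d i : F) * d i = 1 := by
            have h1 := hzv ((z : MM) *ᵥ Pi.single i 1) i
            rw [Matrix.mulVec_mulVec, ← Units.val_mul, hzz, Units.val_one, Matrix.one_mulVec, h, hfσ, h,
              Pi.single_eq_same, Pi.single_eq_same] at h1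
            exact h1.symm
          rcases mul_self_eq_one_iff.1 hdd with h1 | h1
          · rw [h1]
          · exfalso
            rw [h1, map_neg, map_one] at hff
            have h4 : (2 : F) * 2 = 0 := by linear_combination hff
            rcases mul_eq_zero.1 h4 with h5 | h5 <;> exact h2 h5
        · exfalso
          rw [Pi.single_eq_of_ne h, Pi.single_eq_of_ne (Ne.symm h)] at hff
          simp at hff
          exact h2 (by linear_combination hff - hdn i)
      have hσp : σ p = p ∨ σ p = p' := by simpa using (hσT p).2 (by simp)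
      rcases hσp with h | h
      · -- neither moves, or a coordinate of u vanishes
        have hp'σ : σ p' = p' := by
          rcases (by simpa using (hσT p').2 (by simp) : σ p' = p ∨ σ p' = p') with h' | h'
          · exact absurd (σ.injective (h'.trans h.symm)) hpp.symm
          · exact h'
        have e1 := hzv u p
        rw [h, hzu] at e1
        have hd1 : (d p : F) = 1 := mul_right_cancel₀ hp (by rw [one_mul, ← e1])
        have e2 := hzv u p'
        rw [hp'σ, hzu] at e2
        have hd2 : (d p' : F) = 1 := mul_right_cancel₀ hp' (by rw [one_mul, ← e2])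
        refine hz1 (Units.ext (CfsgLib.Geometry.matrix_eq_of_mulVec fun y => funext fun l => ?_))
        rw [Units.val_one, Matrix.one_mulVec]
        by_cases hl : l ∈ ({p, p'} : Finset (Fin n))
        · simp at hl
          rcases hl with rfl | rfl
          · have := hzv y l; rwa [h, hd1, one_mul] at this
          · have := hzv y l; rwa [hp'σ, hd2, one_mul] at this
        · have h1 := congrFun (hout l hl) l
          rw [hzσ, mono_e, Pi.single_eq_same] at h1
          have hσl : σ l = l := by
            by_contra h3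
            rw [Pi.single_eq_of_ne (Ne.symm h3)] at h1
            exact zero_ne_one h1
          rw [hσl, Pi.single_eq_same] at h1
          have := hzv y l
          rwa [hσl, h1, one_mul] at this
      · have e1 := hzv u p
        rw [h, hzu] at e1
        exact hne (by rw [e1, map_mul]; linear_combination -(u p * τ (u p)) * hdn p)
    · -- u is negated
      rw [hγ1, neg_one_smul] at hzu
      have hunm : ∀ l, (z : MM) *ᵥ Pi.single l 1 = Pi.single l 1 → u l = 0 := by
        intro l hl
        have h1 := (mem_GU_iff z).1 hzU u (Pi.single l 1)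
        rw [hl, hzu, K.hh_single_right, K.hh_single_right, map_one, mul_one, mul_one, Pi.neg_apply] at h1
        exact (mul_eq_zero.1 (show (2 : F) * u l = 0 by linear_combination -h1)).resolve_left h2
      have hu12 : n ≤ (supp u).card + 1 := hD₂.card_supp hx hxm k
      have hsub : ∃ i, supp u ⊆ {p, p', i, σ i} := by
        by_cases h0 : ∃ i, i ∉ ({p, p'} : Finset (Fin n)) ∧ (z : MM) *ᵥ Pi.single i 1 ≠ Pi.single i 1
        swap
        · refine ⟨p, fun l hl => ?_⟩
          by_contra hcon
          simp only [Finset.mem_insert, Finset.mem_singleton, not_or] at hcon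
          exact mem_supp.1 hl (hunm l (not_not.1 fun h => h0 ⟨l, by simp [hcon.1, hcon.2.1], h⟩))
        obtain ⟨i, hiS, hi⟩ := h0
        refine ⟨i, fun l hl => ?_⟩
        by_contra hcon
        simp only [Finset.mem_insert, Finset.mem_singleton, not_or] at hcon
        obtain ⟨c, hc⟩ := outside K hn hzU {p, p'} ![u] hfix (Pi.single i 1)
        have e1 := hc l (by simp [hcon.1, hcon.2.1])
        rw [hzσ, mono_e] at e1
        simp [hcon.2.2.1, hcon.2.2.2] at e1
        have hc0 : c 0 = 0 := e1.resolve_right (mem_supp.1 hl)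
        refine hi (funext fun j => ?_)
        by_cases hj : j ∈ ({p, p'} : Finset (Fin n))
        · have h1 : j ≠ i := fun h => hiS (h ▸ hj)
          have h3 : j ≠ σ i := fun h => hiS ((hσT i).1 (h ▸ hj))
          rw [hzσ, mono_e]; simp [h1, h3]
        · have h1 := hc j hj
          simp [hc0] at h1
          rw [mulVec_e]; exact (sub_eq_zero.1 h1).symm
      obtain ⟨i, hi⟩ := hsub
      have h1 := (Finset.card_le_card hi).trans Finset.card_le_four
      omega
  -- a column that is not flat
  have hs₂ : s₀ ∈ M₂ := Subgroup.subset_closure (Or.inl rfl)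
  have hsU := (hO₂.le hs₂).1
  let k : Fin n := ⟨0, by omega⟩
  set u := col s₀ k
  have hu12 : n ≤ (supp u).card + 1 := hD₂.card_supp hs₂ hs₀m k
  obtain ⟨a, b, ha, hb, hab⟩ := Finset.one_lt_card_iff.1 (by omega : 1 < (supp u).card)
  have hXY := flat s₀ hs₂ hs₀m k a b hab (mem_supp.1 ha) (mem_supp.1 hb)
  set X := u a * τ (u a) with hX
  have hX0 : X ≠ 0 := mul_ne_zero (mem_supp.1 ha) fun h => mem_supp.1 ha (τ.injective (by rw [h, map_zero]))
  obtain ⟨α, hα, hT1, hT2⟩ := exists_tr_ne K hq 2 (2 - 1 / X)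
  let d : Fin n → F := fun i => if i = a then α else if i = b then τ α else 1
  have hd : ∀ i, d i * τ (d i) = 1 := fun i => by
    simp only [d]; split_ifs <;> simp [hα, K.invol, mul_comm (τ α)]
  have hdM : ph d hd ∈ M₂ := hO₂.mono _ (ph_mem_su K (by
    rw [Finset.prod_eq_mul a b hab (fun i _ hi => by simp [d, hi.1, hi.2]) (by simp) (by simp)]
    simp [d, hab.symm, hα])) (ph_isMono K)
  set x' := s₀ * flipGL K {k} * s₀⁻¹ * (ph d hd * s₀) * flipGL K {(⟨1, by omega⟩ : Fin n)}
  have hx'H : x' ∈ H := mul_mem (mul_mem (mul_mem (mul_mem (hMH _ hs₂) (hflipH k)) (inv_mem (hMH _ hs₂)))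
    (mul_mem (hMH _ hdM) (hMH _ hs₂))) (hflipH _)
  have hx'M : x' ∈ M₂ := hHdet x' hx'H (by
    simp only [x']
    rw [Units.val_mul, Matrix.det_mul, Units.val_mul, Matrix.det_mul, det_conj, Units.val_mul, Matrix.det_mul,
      (mem_specialLinear_iff _).1 (hO₂.le hdM).2, (mem_specialLinear_iff _).1 (hO₂.le hs₂).2, flip_det K,
      flip_det K]
    simp)
  obtain ⟨j, hjk⟩ := Fintype.exists_ne_of_one_lt_card (by simp; omega : 1 < Fintype.card (Fin n)) k
  set h := hh (scal d u) u
  have hval : h = X * (α + τ α - 2) + 1 := by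
    have huu : hh u u = 1 := by simpa [u] using hh_col K hsU k k
    have e : scal d u = (fun i => (d i - 1) * u i) + u := funext fun i => by simp [scal]; ring
    have e2 : h = hh (fun i => (d i - 1) * u i) u + 1 := by
      show hh (scal d u) u = _
      rw [e, K.form.add_left, huu]
    rw [e2, hh_two K hab (fun i h1 h2 => by simp [d, h1, h2])]
    simp [d, hab.symm, hX]
    linear_combination -(τ α - 1) * hXY
  have hh0 : h ≠ 0 := fun h0 => hT2 (by
    rw [hval] at h0; field_simp; linear_combination h0)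
  have hhf : τ h = h := by
    rw [hval, map_add, map_mul, map_sub, map_one, K.fix_add_tau, hX, K.fix_mul_tau, map_ofNat]
  set u' := col x' k
  have hu' : ∀ i, u' i = (d i - 2 * h) * u i := by
    intro i
    have e1 : (flipGL K {(⟨1, by omega⟩ : Fin n)} : MM) *ᵥ Pi.single k 1 = Pi.single k 1 := funext fun l => by
      rw [flip_mulVec K]; simp only [Finset.mem_singleton]; split_ifs with hl
      · subst hl; simp [k, Fin.ext_iff]
      · rfl
    rw [show u' = (x' : MM) *ᵥ Pi.single k 1 from (mulVec_e x' k).symm]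
    simp only [x']
    rw [Units.val_mul _ (flipGL K {(⟨1, by omega⟩ : Fin n)}), ← Matrix.mulVec_mulVec, e1, Units.val_mul _ (ph d hd * s₀),
      ← Matrix.mulVec_mulVec, Units.val_mul (ph d hd), ← Matrix.mulVec_mulVec, mulVec_e, ph_mulVec K, flipGL,
      conj_pair_mulVec K hsU hjk.symm (fun i h1 _ => by simp [h1])]
    simp [hjk, scal, h, u]
    ring
  have hαne : α ≠ 1 := fun e => hT1 (by rw [e, map_one]; norm_num)
  have hda : d a = α := if_pos rfl
  have hdb : d b = τ α := by simp [d, hab.symm]
  have hdi : ∀ i, i ≠ a → i ≠ b → d i = 1 := fun i h1 h2 => by simp [d, h1, h2]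
  obtain ⟨i, i', hi, hi', hii, hia, hib, hia', hib'⟩ : ∃ i i', i ∈ supp u ∧ i' ∈ supp u ∧ i ≠ i' ∧
      i ≠ a ∧ i ≠ b ∧ i' ≠ a ∧ i' ≠ b := by
    obtain ⟨i, i', hi, hi', hne⟩ := Finset.one_lt_card_iff.1 (show 1 < (supp u \ {a, b}).card by
      have := Finset.le_card_sdiff {a, b} (supp u)
      rw [Finset.card_pair hab] at this; omega)
    simp only [Finset.mem_sdiff, Finset.mem_insert, Finset.mem_singleton, not_or] at hi hi'
    exact ⟨i, i', hi.1, hi'.1, hne, hi.2.1, hi.2.2, hi'.2.1, hi'.2.2⟩
  by_cases h12 : 1 - 2 * h = 0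
  · have hu'a : u' a ≠ 0 := by
      rw [hu', hda]
      exact mul_ne_zero (fun e => hαne (by linear_combination e - h12)) (mem_supp.1 ha)
    have hu'b : u' b ≠ 0 := by
      rw [hu', hdb]
      exact mul_ne_zero (fun e => hαne (τ.injective (by rw [map_one]; linear_combination e - h12)))
        (mem_supp.1 hb)
    have hnm : ¬ IsMono x' := fun hmo => by
      obtain ⟨o, ho⟩ := hmo k
      have e1 : a = o := by_contra fun hc => hu'a (ho a hc)
      have e2 : b = o := by_contra fun hc => hu'b (ho b hc)
      exact hab (e1.trans e2.symm)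
    exact hii (hD₂ x' hx'M hnm k i i' (by show u' i = 0; rw [hu', hdi i hia hib, h12, zero_mul])
      (by show u' i' = 0; rw [hu', hdi i' hia' hib', h12, zero_mul]))
  have hu'i : u' i ≠ 0 := by rw [hu', hdi i hia hib]; exact mul_ne_zero h12 (mem_supp.1 hi)
  have hu'i' : u' i' ≠ 0 := by rw [hu', hdi i' hia' hib']; exact mul_ne_zero h12 (mem_supp.1 hi')
  have hnm : ¬ IsMono x' := fun hmo => by
    obtain ⟨o, ho⟩ := hmo k
    have e1 : i = o := by_contra fun hc => hu'i (ho i hc)
    have e2 : i' = o := by_contra fun hc => hu'i' (ho i' hc)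
    exact hii (e1.trans e2.symm)
  by_cases hu'a : u' a = 0
  · have hα2 : α = 2 * h := by
      rw [hu', hda] at hu'a
      exact sub_eq_zero.1 ((mul_eq_zero.1 hu'a).resolve_right (mem_supp.1 ha))
    have hu'b : u' b = 0 := by
      rw [hu', hdb, hα2, map_mul, map_ofNat, hhf, sub_self, zero_mul]
    exact hab (hD₂ x' hx'M hnm k a b hu'a hu'b)
  have e1 := flat x' hx'M hnm k a i hia.symm hu'a hu'i
  have e2 := flat s₀ hs₂ hs₀m k a i hia.symm (mem_supp.1 ha) (mem_supp.1 hi)
  simp only [u'] at hu'
  rw [hu', hu', hdi i hia hib, hda, map_mul, map_mul] at e1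
  have e3 : (α - 2 * h) * τ (α - 2 * h) = (1 - 2 * h) * τ (1 - 2 * h) :=
    mul_right_cancel₀ hX0 (by rw [hX]; linear_combination e1 - (1 - 2 * h) * τ (1 - 2 * h) * e2)
  simp only [map_sub, map_mul, map_ofNat, map_one, hhf] at e3
  have e4 : 2 * h * (2 - (α + τ α)) = 0 := by linear_combination e3 - hα
  rcases mul_eq_zero.1 e4 with e5 | e5
  · exact (mul_ne_zero h2 hh0) e5
  · exact hT1 (by linear_combination -e5)

/-- In odd characteristic some non-monomial element fixes a coordinate line. -/
theorem fixer_odd (hn : 10 ≤ n) (hO : Over q M) (hq : 3 ≤ q) (h2 : (2 : F) ≠ 0)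
    (hNm : ∃ x ∈ M, ¬ IsMono x) : Fixer M := by
  by_contra hno
  have hn6 : 6 ≤ n := by omega
  have hD := dense_of_not_fixer K hn hO hno
  exact hno (fixer_of_odd_mono K hn6 hO hq h2 hD (exists_odd_mono K hn6 hO h2 hD hn hNm))

end CfsgLib.UnMono
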