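import Mathlib
import Cfsg.Agent.Lib.UnMono.Flat

/-!
The monomial subgroup of `SU_6(q)` for `q ≥ 3`: some non-monomial element fixes a coordinate line.
-/

set_option autoImplicit false
set_option linter.unusedSectionVars false

open scoped Classical

namespace CfsgLib.UnMono

open scoped Matrix
open CfsgLib.Maximal

variable {n q : ℕ} {F : Type*} [Field F] [Fintype F] {τ : F ≃+* F}
  {M : Subgroup (Matrix.GeneralLinearGroup (Fin n) F)}

local notation "hh" => Cfsg.hermForm n F q
local notation "MM" => Matrix (Fin n) (Fin n) F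

variable (K : Ctx n q τ) (h6 : n = 6) (hq : 3 ≤ q) (hO : Over q M)
include K

/-- A norm-one element whose sixth power is not one. -/
lemma exists_eps (hq : 3 ≤ q) (h5 : q ≠ 5) : ∃ ε : F, ε * τ ε = 1 ∧ ε ^ 6 ≠ 1 := by
  by_contra hcon
  push Not at hcon
  have hmu := card_mu K
  have key : ∀ d : ℕ, 0 < d → (∀ x ∈ mu τ, x ^ d = 1) → q + 1 ≤ d := by
    intro d hd h
    let P : Polynomial F := Polynomial.X ^ d - Polynomial.C 1
    have hdeg : P.natDegree = d := Polynomial.natDegree_X_pow_sub_C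
    have hP : P ≠ 0 := fun e => by rw [e] at hdeg; simp at hdeg; omega
    rw [← hmu, ← hdeg]
    refine Polynomial.card_le_degree_of_subset_roots fun x hx => ?_
    rw [Polynomial.mem_roots hP]
    simp [P, h x hx]
  have hle := key 6 (by norm_num) fun x hx => hcon x (mem_mu.1 hx)
  have h2 : ∀ x ∈ mu τ, x ^ Nat.gcd 6 (q + 1) = 1 := fun x hx =>
    pow_gcd_eq_one.2 ⟨hcon x (mem_mu.1 hx), K.pow_succ_of_nm (mem_mu.1 hx)⟩
  have hle2 := key _ (Nat.gcd_pos_of_pos_left _ (by norm_num)) h2
  have : q = 3 ∨ q = 4 ∨ q = 5 := by omega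
  rcases this with rfl | rfl | rfl
  · simp at hle2
  · simp at hle2
  · exact h5 rfl

/-- A norm-one element with trace other than `2`, `-2`, `-1`. -/
lemma exists_rot (hq : 4 ≤ q) : ∃ ζ : F, ζ * τ ζ = 1 ∧ τ ζ ≠ ζ ∧ 1 + ζ + τ ζ ≠ 0 := by
  have hmu := card_mu K
  obtain ⟨ω, hω⟩ : ∃ S : Finset F, S.card ≤ 2 ∧ ∀ z : F, z * τ z = 1 → 1 + z + τ z = 0 → z ∈ S := by
    let P : Polynomial F := Polynomial.C 1 * Polynomial.X ^ 2 + Polynomial.C 1 * Polynomial.X + Polynomial.C 1
    have hd : P.natDegree = 2 := Polynomial.natDegree_quadratic one_ne_zero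
    refine ⟨P.roots.toFinset, hd ▸ (Multiset.toFinset_card_le _).trans (Polynomial.card_roots' P), fun z hz h => ?_⟩
    have hP : P ≠ 0 := fun h => by rw [h] at hd; simp at hd
    rw [Multiset.mem_toFinset, Polynomial.mem_roots hP, Polynomial.IsRoot]
    simp only [P, Polynomial.eval_add, Polynomial.eval_mul, Polynomial.eval_C, Polynomial.eval_pow,
      Polynomial.eval_X]
    linear_combination z * h - hz
  obtain ⟨z, hz, hz'⟩ := Finset.exists_mem_notMem_of_card_lt_card (s := ω ∪ {1, -1}) (t := mu τ)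
    (lt_of_le_of_lt (Finset.card_union_le _ _) (by
      have := Finset.card_le_two (a := (1 : F)) (b := -1); omega))
  simp only [Finset.mem_union, Finset.mem_insert, Finset.mem_singleton, not_or] at hz'
  rw [mem_mu] at hz
  refine ⟨z, hz, fun h => ?_, fun h => hz'.1 (hω.2 z hz h)⟩
  rw [h] at hz
  rcases mul_self_eq_one_iff.1 hz with e | e
  · exact hz'.2.1 e
  · exact hz'.2.2 e

include h6 hO

/-- A multiple of the quasi-reflection in a column. -/
lemma exists_refl {x : Matrix.GeneralLinearGroup (Fin n) F} (hx : x ∈ M) (k : Fin n) {ε : F}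
    (hε : ε * τ ε = 1) (hε6 : ε ^ 6 ≠ 1) :
    ∃ ρ ∈ M, ∃ c : F, c ≠ 0 ∧ (∀ z, (ρ : MM) *ᵥ z = ε • z + (c * hh z (col x k)) • col x k) ∧
      (3 ≤ (supp (col x k)).card → ¬ IsMono ρ) := by
  have hxU := (hO.le hx).1
  have hε0 := K.ne_of_nm hε
  let d : Fin n → F := fun i => if i = k then τ ε ^ 5 else ε
  have hd : ∀ i, d i * τ (d i) = 1 := fun i => by
    simp only [d]; split_ifs
    · rw [map_pow, ← mul_pow, K.nm_tau hε, one_pow]
    · exact hε
  have hprod : ∏ i, d i = 1 := by
    rw [← Finset.mul_prod_erase _ _ (Finset.mem_univ k), Finset.prod_congr rfl fun i hi =>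
      show d i = ε from if_neg (Finset.ne_of_mem_erase hi), Finset.prod_const,
      Finset.card_erase_of_mem (Finset.mem_univ k), Finset.card_univ, Fintype.card_fin, h6]
    simp only [d, if_true]
    rw [← mul_pow, mul_comm, hε, one_pow]
  have hc : τ ε ^ 5 - ε ≠ 0 := fun h => hε6 (by
    have e : ε ^ 5 * τ ε ^ 5 = 1 := by rw [← mul_pow, hε, one_pow]
    linear_combination e - ε ^ 5 * h)
  set u := col x k
  have hf : ∀ z, ((x * ph d hd * x⁻¹ : Matrix.GeneralLinearGroup (Fin n) F) : MM) *ᵥ z =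
      ε • z + ((τ ε ^ 5 - ε) * hh z u) • u := by
    intro z
    rw [Units.val_mul, Units.val_mul, ← Matrix.mulVec_mulVec, ← Matrix.mulVec_mulVec, ph_mulVec K]
    set w := ((x⁻¹ : Matrix.GeneralLinearGroup (Fin n) F) : MM) *ᵥ z with hw
    have e : scal d w = ε • w + ((τ ε ^ 5 - ε) * w k) • Pi.single k 1 := by
      funext i
      by_cases h : i = k
      · subst h; simp [scal, d]; ring
      · simp [scal, d, h]
    rw [e, Matrix.mulVec_add, Matrix.mulVec_smul, Matrix.mulVec_smul, mulVec_e, hw, inv_coord K hxU,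
      Matrix.mulVec_mulVec, ← Units.val_mul, mul_inv_cancel, Units.val_one, Matrix.one_mulVec]
  refine ⟨_, mul_mem (mul_mem hx (hO.mono _ (ph_mem_su K hprod) (ph_isMono K))) (inv_mem hx), _, hc, hf, ?_⟩
  intro h3 hm
  obtain ⟨a, b, c, ha, hb, hc', hab, hac, hbc⟩ := Finset.two_lt_card_iff.1 h3
  obtain ⟨i, hi⟩ := hm a
  have hne : ∀ l, l ≠ a → u l ≠ 0 → ((x * ph d hd * x⁻¹ : Matrix.GeneralLinearGroup (Fin n) F) : MM) l a ≠ 0 := by
    intro l hl hl0 h
    have h1 := congrFun (hf (Pi.single a 1)) l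
    rw [mulVec_e, K.hh_single_left] at h1
    simp only [col] at h1
    rw [h] at h1
    simp [hl] at h1
    rcases h1 with (h1 | h1) | h1
    · exact hc h1
    · exact mem_supp.1 ha h1
    · exact hl0 h1
  exact hbc ((by_contra fun h => hne b hab.symm (mem_supp.1 hb) (hi b h) : b = i).trans
    (by_contra fun h => hne c hac.symm (mem_supp.1 hc') (hi c (Ne.symm h)) : i = c))

include hq

/-- Two columns with a common zero have at most two non-zero entries each. -/
lemma supp_le_two (hno : ¬ Fixer M) {x : Matrix.GeneralLinearGroup (Fin n) F} (hx : x ∈ M)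
    (hxm : ¬ IsMono x) {a b c : Fin n} (hab : a ≠ b) (ha : (x : MM) c a = 0) (hb : (x : MM) c b = 0) :
    (supp (col x a)).card ≤ 2 := by
  by_contra h3
  have hn : 6 ≤ n := by omega
  have hxU := (hO.le hx).1
  obtain ⟨hsupp, h4⟩ := fixer_or_small K hn hO hno hx hxm hab ha hb
  set u := col x a with hu
  set v := col x b with hv
  by_cases hE : ∃ ε : F, ε * τ ε = 1 ∧ ε ^ 6 ≠ 1
  · obtain ⟨ε, hε, hε6⟩ := hE
    obtain ⟨ρ, hρ, k, -, hρv, hρm⟩ := exists_refl K h6 hO hx a hε hε6
    refine hno ⟨ρ, hρ, hρm (show 3 ≤ (supp u).card by omega), c, fun l hl => ?_⟩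
    have h1 := congrFun (hρv (Pi.single c 1)) l
    rw [mulVec_e, K.hh_single_left] at h1
    simp only [col] at h1
    rw [h1]
    simp [hl, ha]
  have hq4 : 4 ≤ q := by
    by_contra h
    exact hE (exists_eps K hq (by omega))
  obtain ⟨ζ, hζ, hζn, hζT⟩ := exists_rot K hq4
  let d : Fin n → F := fun i => if i = a then ζ else if i = b then τ ζ else 1
  have hd : ∀ i, d i * τ (d i) = 1 := fun i => by
    simp only [d]; split_ifs <;> simp [hζ, K.invol, mul_comm (τ ζ)]
  have hda : d a = ζ := if_pos rfl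
  have hdb : d b = τ ζ := by simp [d, hab.symm]
  have hoff : ∀ i, i ≠ a → i ≠ b → d i = 1 := fun i h1 h2 => by simp [d, h1, h2]
  have hprod : ∏ i, d i = 1 := by
    rw [Finset.prod_eq_mul a b hab (fun i _ hi => hoff i hi.1 hi.2) (by simp) (by simp), hda, hdb, hζ]
  set y := x * ph d hd * x⁻¹ with hy_def
  have hyM : y ∈ M := mul_mem (mul_mem hx (hO.mono _ (ph_mem_su K hprod) (ph_isMono K))) (inv_mem hx)
  have hyv : ∀ z, (y : MM) *ᵥ z = z + ((ζ - 1) * hh z u) • u + ((τ ζ - 1) * hh z v) • v := fun z => by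
    rw [hy_def, conj_pair_mulVec K hxU hab hoff z, hda, hdb]
  have hy : ∀ i l, (y : MM) l i =
      (Pi.single i 1 : Fin n → F) l + (ζ - 1) * τ (u i) * u l + (τ ζ - 1) * τ (v i) * v l := by
    intro i l
    have h1 := congrFun (hyv (Pi.single i 1)) l
    rw [mulVec_e, K.hh_single_left, K.hh_single_left] at h1
    simpa [col, ← mul_assoc] using h1
  have hym : IsMono y := by
    by_contra h
    exact hno ⟨y, hyM, h, c, fun l hl => by rw [hy]; simp [u, v, col, ha, hb, hl]⟩
  obtain ⟨σ, e, he⟩ := hym.exists_eq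
  have hσ : ∀ i l, l ≠ σ i → (y : MM) l i = 0 := fun i l hl => by rw [he, monoGL_val]; simp [monoMat, hl]
  have huu : hh u u = 1 := by simpa [u] using hh_col K hxU a a
  have hvv : hh v v = 1 := by simpa [v] using hh_col K hxU b b
  have huv : hh u v = 0 := by simpa [u, v, hab] using hh_col K hxU a b
  have hvu : hh v u = 0 := by rw [K.form.herm, huv, map_zero]
  -- the square
  have hy2 : ∀ i l, l ≠ σ (σ i) → (Pi.single i 1 : Fin n → F) l + (ζ * ζ - 1) * τ (u i) * u l +
      (τ ζ * τ ζ - 1) * τ (v i) * v l = 0 := by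
    intro i l hl
    have h1 : ((y * y : Matrix.GeneralLinearGroup (Fin n) F) : MM) l i = 0 := by
      rw [he, monoGL_mul, monoGL_val]; simp [monoMat, hl]
    have h2 := congrFun (mulVec_e (y * y) i) l
    simp only [col, h1] at h2
    rw [Units.val_mul, ← Matrix.mulVec_mulVec, hyv, hyv] at h2
    simp only [K.form.add_left, K.form.smul_left, huu, hvv, huv, hvu, K.hh_single_left, one_mul, Pi.add_apply,
      Pi.smul_apply, smul_eq_mul] at h2
    linear_combination h2
  have hτ0 : ∀ {z : F}, z ≠ 0 → τ z ≠ 0 := fun hx h => hx (τ.injective (by rw [h, map_zero]))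
  set S := supp u
  have hthree : ∀ i ∈ S, S ⊆ {i, σ i, σ (σ i)} := by
    intro i hi l hl
    by_contra hcon
    simp only [Finset.mem_insert, Finset.mem_singleton, not_or] at hcon
    obtain ⟨h1, h2, h5⟩ := hcon
    have e1 := hσ i l h2
    have e2 := hy2 i l h5
    rw [hy, Pi.single_eq_of_ne h1] at e1
    rw [Pi.single_eq_of_ne h1] at e2
    have hv0 : τ (v i) * v l ≠ 0 := mul_ne_zero (hτ0 (mem_supp.1 (hsupp ▸ hi))) (mem_supp.1 (hsupp ▸ hl))
    have h : (τ ζ - 1) * (τ ζ - ζ) * (τ (v i) * v l) = 0 := by linear_combination e2 - (ζ + 1) * e1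
    rcases mul_eq_zero.1 h with h | h
    · rcases mul_eq_zero.1 h with h | h
      · exact hζn (by rw [sub_eq_zero.1 h, ← K.invol ζ, sub_eq_zero.1 h, map_one])
      · exact hζn (sub_eq_zero.1 h)
    · exact hv0 h
  obtain ⟨i₀, hi₀⟩ := Finset.card_pos.1 (by omega : 0 < S.card)
  have hS3 : S.card = 3 := by
    have := (Finset.card_le_card (hthree i₀ hi₀)).trans Finset.card_le_three
    omega
  have hdiag : ∀ i ∈ S, 1 + (ζ - 1) * (u i * τ (u i)) + (τ ζ - 1) * (v i * τ (v i)) = 0 := by
    intro i hi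
    have hne : i ≠ σ i := fun h => by
      have h1 := Finset.card_le_card (hthree i hi)
      rw [← h, ← h] at h1
      simp at h1
      omega
    have e1 := hσ i i hne
    rw [hy, Pi.single_eq_same] at e1
    linear_combination e1
  have hsum := Finset.sum_eq_zero hdiag
  rw [Finset.sum_add_distrib, Finset.sum_add_distrib, ← Finset.mul_sum, ← Finset.mul_sum, Finset.sum_const,
    hS3] at hsum
  have hXs : ∀ (w : Fin n → F), supp w = S → ∑ i ∈ S, w i * τ (w i) = hh w w := fun w hw => by
    rw [K.hh_self]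
    exact Finset.sum_subset (Finset.subset_univ _) fun i _ hi => by
      rw [notMem_supp.1 (fun h => hi (hw ▸ h)), zero_mul]
  rw [hXs u rfl, hXs v hsupp.symm, huu, hvv] at hsum
  exact hζT (by simp at hsum; linear_combination hsum)

/-- Without a fixer the group is dense. -/
lemma dense_six (hno : ¬ Fixer M) : Dense M :=
  fun _ hx hxm _ c c' h h' => by_contra fun hcc => hno (fixer_of_two_zeros K (by omega) hO (B := 2) (by omega)
    (fun hno _ hx hxm _ _ _ hab ha hb => supp_le_two K h6 hq hO hno hx hxm hab ha hb) hx hxm hcc h h')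

/-- In even characteristic some non-monomial element fixes a coordinate line. -/
theorem fixer_even_six (h2 : (2 : F) = 0) (hNm : ∃ x ∈ M, ¬ IsMono x) : Fixer M := by
  by_contra hno
  have hn : 6 ≤ n := by omega
  have hD := dense_six K h6 hq hO hno
  obtain ⟨g, hg, hgm⟩ := hNm
  have hga := hD.card_supp hg hgm (⟨0, by omega⟩ : Fin n)
  obtain ⟨v₀, hvv₀, hv₀, hv₀3⟩ := exists_root_image K hn hO h2 hg (a := (⟨0, by omega⟩ : Fin n)) (by omega)
  have hfull₀ : ∀ i, v₀ i ≠ 0 := fun i hi => hno (fixer_of_HK K hvv₀ hv₀ one_ne_zero hv₀3 hi)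
  have hqe : Even q := by
    haveI : CharP F 2 := CharTwo.of_one_ne_zero_of_two_eq_zero one_ne_zero h2
    exact even_iff_two_dvd.2 ((CharP.cast_eq_zero_iff F 2 q).1 K.cast_q)
  obtain ⟨r, hr⟩ := hqe
  -- a root vector whose norms are not all equal
  obtain ⟨v, a, b, hvv, hv, hfull, hab⟩ : ∃ (v : Fin n → F) (a b : Fin n), hh v v = 0 ∧ HK τ q M v 1 ∧
      (∀ i, v i ≠ 0) ∧ v a * τ (v a) ≠ v b * τ (v b) := by
    by_cases hflat : ∃ a b, v₀ a * τ (v₀ a) ≠ v₀ b * τ (v₀ b)
    · obtain ⟨a, b, hab⟩ := hflat; exact ⟨v₀, a, b, hvv₀, hv₀, hfull₀, hab⟩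
    push Not at hflat
    let a : Fin n := ⟨0, by omega⟩
    let b : Fin n := ⟨1, by omega⟩
    let c : Fin n := ⟨2, by omega⟩
    have hab : a ≠ b := by simp [a, b]
    have hca : c ≠ a := by simp [a, c]
    have hcb : c ≠ b := by simp [b, c]
    set X := v₀ a * τ (v₀ a) with hX
    have hX0 : X ≠ 0 := mul_ne_zero (hfull₀ a) fun h => hfull₀ a (τ.injective (by rw [h, map_zero]))
    have hT := card_trs K
    obtain ⟨T, hT1, hT2⟩ := Finset.exists_mem_notMem_of_card_lt_card (s := ({0, 1 / X} : Finset F)) (t := trs τ)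
      (lt_of_le_of_lt Finset.card_le_two (by omega))
    obtain ⟨α, hα, rfl⟩ := Finset.mem_image.1 hT1
    simp only [Finset.mem_insert, Finset.mem_singleton, not_or] at hT2
    rw [mem_mu] at hα
    let d : Fin n → F := fun i => if i = a then α else if i = b then τ α else 1
    have hd : ∀ i, d i * τ (d i) = 1 := fun i => by
      simp only [d]; split_ifs <;> simp [hα, K.invol, mul_comm (τ α)]
    have hdM : ph d hd ∈ M := hO.mono _ (ph_mem_su K (by
      rw [Finset.prod_eq_mul a b hab (fun i _ hi => by simp [d, hi.1, hi.2]) (by simp) (by simp)]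
      simp [d, hab.symm, hα])) (ph_isMono K)
    set w := scal d v₀ with hw
    have hwHK : HK τ q M w 1 := by
      have := HK.map_normal K hv₀ (hO.le hdM).1 fun x hx => mul_mem (mul_mem hdM hx) (inv_mem hdM)
      rwa [ph_mulVec K] at this
    set h := X * (α + τ α) with hh_def
    have hh0 : h ≠ 0 := mul_ne_zero hX0 hT2.1
    have hh1 : h ≠ 1 := fun e => hT2.2 (by rw [hh_def] at e; field_simp; linear_combination e)
    have hvw : hh v₀ w = h := by
      have e : w = (fun i => (d i - 1) * v₀ i) + v₀ := funext fun i => by simp [hw, scal]; ring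
      rw [e, un_add_right K.form, hvv₀, add_zero, K.hh_eq,
        Finset.sum_eq_add a b hab (fun i _ hi => by simp [d, hi.1, hi.2]) (by simp) (by simp)]
      simp [d, hab.symm, K.invol, hh_def, hX]
      linear_combination (α - 1) * hflat b a - X * h2
    obtain ⟨-, hdt, ht⟩ := hwHK
    set t := tv ((1 : F) • w) (fvec hh w) hdt
    have htv : (t : MM) *ᵥ v₀ = v₀ + h • w := by
      simp only [t, tv_mulVec, un_dot K.form, hvw, one_smul]
    have hv' : HK τ q M (v₀ + h • w) 1 := by
      have := HK.map_normal K hv₀ (hO.le ht).1 fun x hx => mul_mem (mul_mem ht hx) (inv_mem ht)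
      rwa [htv] at this
    have hiso' : hh (v₀ + h • w) (v₀ + h • w) = 0 := by rw [← htv, (mem_GU_iff t).1 (hO.le ht).1, hvv₀]
    have hval : ∀ i, (v₀ + h • w) i = (1 + h * d i) * v₀ i := fun i => by simp [hw, scal]; ring
    have h1h : ∀ i, i ≠ a → i ≠ b → (v₀ + h • w) i ≠ 0 := fun i h1 h3 => by
      rw [hval]; simp only [d, h1, h3, if_false, mul_one]
      exact mul_ne_zero (fun e => hh1 (by linear_combination e - h2)) (hfull₀ i)
    have h3' : 3 ≤ (supp (v₀ + h • w)).card := by
      have hsub : Finset.univ \ {a, b} ⊆ supp (v₀ + h • w) := fun i hi => by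
        simp only [Finset.mem_sdiff, Finset.mem_univ, Finset.mem_insert, Finset.mem_singleton, not_or, true_and] at hi
        exact mem_supp.2 (h1h i hi.1 hi.2)
      have := Finset.card_le_card hsub
      rw [Finset.card_sdiff_of_subset (Finset.subset_univ _), Finset.card_univ, Fintype.card_fin,
        Finset.card_pair hab] at this
      omega
    have hfull' : ∀ i, (v₀ + h • w) i ≠ 0 := fun i hi => hno (fixer_of_HK K hiso' hv' one_ne_zero h3' hi)
    refine ⟨_, a, c, hiso', hv', hfull', fun e => ?_⟩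
    rw [hval, hval] at e
    simp only [d, if_true, if_neg hca, if_neg hcb, map_mul, map_add, map_one] at e
    have hτh : τ h = h := by rw [hh_def, map_mul, K.fix_add_tau, hX, K.fix_mul_tau]
    rw [hτh] at e
    have e' : X * h * ((α + τ α) - 2) = 0 := by
      linear_combination e + (1 + h) * (1 + h) * hflat c a - X * h * h * hα
    exact (mul_ne_zero (mul_ne_zero hX0 hh0) (fun e => hT2.1 (by linear_combination e + h2))) e'
  -- two pairs and two spare coordinates
  obtain ⟨σ, hσa, hσb⟩ : ∃ σ : Fin n ≃ Fin 6, σ a = 0 ∧ σ b = 1 := by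
    let σ₀ : Fin n ≃ Fin 6 := finCongr h6
    let σ₁ := σ₀.trans (Equiv.swap (σ₀ a) 0)
    refine ⟨σ₁.trans (Equiv.swap (σ₁ b) 1), ?_, by simp⟩
    have h0 : σ₁ a = 0 := by simp [σ₁]
    have hne : σ₁ b ≠ 0 := fun h => hab (by rw [σ₁.injective (h.trans h0.symm)])
    simp only [Equiv.trans_apply, h0]
    exact Equiv.swap_apply_of_ne_of_ne hne.symm (by decide)
  let ix : Fin 6 → Fin n := σ.symm
  have hix : Function.Injective ix := σ.symm.injective
  have ha' : ix 0 = a := by simp [ix, ← hσa]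
  have hb' : ix 1 = b := by simp [ix, ← hσb]
  have hC : ∀ i j : Fin 6, v (ix i) * τ (v (ix j)) ≠ 0 := fun i j =>
    mul_ne_zero (hfull _) fun h => hfull _ (τ.injective (by rw [h, map_zero]))
  let S : Fin 6 → Fin 6 → Finset F := fun i j =>
    (mu τ).image fun z => v (ix i) * τ (v (ix j)) * z + τ (v (ix i) * τ (v (ix j)) * z)
  have hSf : ∀ i j, ∀ x ∈ S i j, τ x = x := fun i j x hx => by
    obtain ⟨z, -, rfl⟩ := Finset.mem_image.1 hx; exact K.fix_add_tau _
  set R := v (ix 0) * τ (v (ix 0)) + v (ix 1) * τ (v (ix 1)) + v (ix 2) * τ (v (ix 2)) + v (ix 3) * τ (v (ix 3))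
    with hR_def
  have hR : τ R = R := by simp only [hR_def, map_add, map_mul, K.invol]; ring
  let A := (S 2 3).erase 0
  let B := (S 0 1).image fun x => 1 + R - x
  obtain ⟨t₂, htA, htB⟩ := exists_common K (A := A) (B := B)
    (fun x hx => hSf 2 3 x (Finset.mem_of_mem_erase hx))
    (fun x hx => by
      obtain ⟨y, hy, rfl⟩ := Finset.mem_image.1 hx
      rw [map_sub, map_add, map_one, hR, hSf 0 1 y hy])
    (by
      have e2 : B.card = (S 0 1).card := Finset.card_image_of_injective _ (fun a b h => by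
        have : (1 + R - a) = (1 + R - b) := h
        linear_combination -this)
      have e3 := Finset.pred_card_le_card_erase (a := (0 : F)) (s := S 2 3)
      have h01 : q + 1 ≤ 2 * (S 0 1).card := card_lin K (hC 0 1)
      have h23 : q + 1 ≤ 2 * (S 2 3).card := card_lin K (hC 2 3)
      simp only [A]
      omega)
  obtain ⟨t₁, ht₁, h3⟩ := Finset.mem_image.1 htB
  obtain ⟨ht₂0, ht₂⟩ := Finset.mem_erase.1 htA
  obtain ⟨z₁, hz₁, rfl⟩ := Finset.mem_image.1 ht₁
  obtain ⟨z₂, hz₂, rfl⟩ := Finset.mem_image.1 ht₂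
  rw [mem_mu] at hz₁ hz₂
  have hne : ∀ i j : Fin 6, i ≠ j → ix i ≠ ix j := fun i j h => hix.ne h
  obtain ⟨m₁, hm₁, e₁⟩ := exists_sw K hn hO h2 (hne 0 1 (by decide)) (ρ := z₁) hz₁
  obtain ⟨m₂, hm₂, e₂⟩ := exists_sw K hn hO h2 (hne 2 3 (by decide)) (ρ := z₂) hz₂
  set m := m₁ * m₂
  have hm : m ∈ M := mul_mem hm₁ hm₂
  set w := (m : MM) *ᵥ v with hw
  have hwi : ∀ i, w (ix i) = if i = 0 then τ z₁ * v (ix 1) else if i = 1 then z₁ * v (ix 0)
      else if i = 2 then τ z₂ * v (ix 3) else if i = 3 then z₂ * v (ix 2) else v (ix i) := by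
    intro i
    rw [hw, Units.val_mul, ← Matrix.mulVec_mulVec]
    simp only [e₁, e₂, hix.eq_iff]
    fin_cases i <;> simp
  have hvw : hh v w = 1 := by
    have e : hh v w - hh v v = ∑ j : Fin 6, v (ix j) * (τ (w (ix j)) - τ (v (ix j))) := by
      rw [K.hh_eq, K.hh_eq, ← Finset.sum_sub_distrib, ← Equiv.sum_comp σ.symm]
      exact Finset.sum_congr rfl fun i _ => by ring
    rw [hvv, sub_zero] at e
    rw [e]
    simp only [Fin.sum_univ_six, hwi]
    simp [K.invol] at h3 ⊢
    simp only [hR_def] at h3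
    linear_combination -h3
  have hwHK : HK τ q M w 1 := HK.map_normal K hv (hO.le hm).1 fun x hx => mul_mem (mul_mem hm hx) (inv_mem hm)
  obtain ⟨-, hd, ht⟩ := hwHK
  set t := tv ((1 : F) • w) (fvec hh w) hd
  have htv : (t : MM) *ᵥ v = v + w := by
    simp only [t, tv_mulVec, un_dot K.form, hvw, one_smul]
  have hv' : HK τ q M (v + w) 1 := by
    have := HK.map_normal K hv (hO.le ht).1 fun x hx => mul_mem (mul_mem ht hx) (inv_mem ht)
    rwa [htv] at this
  have hv'v : hh (v + w) (v + w) = 0 := by rw [← htv, (mem_GU_iff t).1 (hO.le ht).1, hvv]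
  have hc : (v + w) (ix 4) = 0 := by
    simp [hwi]; linear_combination v (ix 4) * h2
  refine hno (fixer_of_HK K hv'v hv' one_ne_zero ?_ hc)
  have n0 : v (ix 0) + τ z₁ * v (ix 1) ≠ 0 := fun h => hab (by
    rw [← ha', ← hb', show v (ix 0) = -(τ z₁ * v (ix 1)) by linear_combination h, map_neg, map_mul, K.invol]
    linear_combination v (ix 1) * τ (v (ix 1)) * hz₁)
  have n1 : v (ix 1) + z₁ * v (ix 0) ≠ 0 := fun h => hab (by
    rw [← ha', ← hb', show v (ix 1) = -(z₁ * v (ix 0)) by linear_combination h, map_neg, map_mul]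
    linear_combination -(v (ix 0) * τ (v (ix 0))) * hz₁)
  have n2 : v (ix 2) + τ z₂ * v (ix 3) ≠ 0 := fun h => ht₂0 (by
    simp only [map_mul, K.invol]
    rw [show v (ix 2) = τ z₂ * v (ix 3) by linear_combination h - τ z₂ * v (ix 3) * h2, map_mul, K.invol]
    linear_combination 2 * v (ix 3) * τ (v (ix 3)) * hz₂ + v (ix 3) * τ (v (ix 3)) * h2)
  refine Finset.two_lt_card_iff.2 ⟨ix 0, ix 1, ix 2, mem_supp.2 ?_, mem_supp.2 ?_, mem_supp.2 ?_,
    hne 0 1 (by decide), hne 0 2 (by decide), hne 1 2 (by decide)⟩ <;>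
    simp [hwi] <;> assumption

/-- A commuting monomial involution gives the odd monomial element. -/
lemma odd_mono_of_inv (h2 : (2 : F) ≠ 0) (hD : Dense M) {x : Matrix.GeneralLinearGroup (Fin n) F} (hx : x ∈ M)
    (hxm : ¬ IsMono x) {z : Matrix.GeneralLinearGroup (Fin n) F} (hz : z ∈ suGL n F q) (hzm : IsMono z)
    (hzz : z * z = 1) (hz1 : z ≠ 1) (hzn : ¬ ∀ v, (z : MM) *ᵥ v = -v) (hxz : x * z = z * x) :
    ∃ s ∈ M, ¬ IsMono s ∧ ∃ m ∈ Cfsg.GU n F q, IsMono m ∧ (m : MM).det = -1 ∧ m * s = s * m := by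
  have hn : 6 ≤ n := by omega
  obtain ⟨σ, d, rfl⟩ := hzm.exists_eq
  have hdn : ∀ i, (d i : F) * τ (d i) = 1 := nm_of_mono K hz.1
  have hmv : ∀ v i, ((monoGL σ d : MM) *ᵥ v) (σ i) = d i * v i := fun v i => by
    rw [monoGL_val, monoMat_mulVec]
  have hz2 : ∀ v, (monoGL σ d : MM) *ᵥ ((monoGL σ d : MM) *ᵥ v) = v := fun v => by
    rw [Matrix.mulVec_mulVec, ← Units.val_mul, hzz, Units.val_one, Matrix.one_mulVec]
  have hsd : ∀ i, σ (σ i) = i ∧ (d (σ i) : F) * d i = 1 := by
    intro i
    have h1 := congrFun (hz2 (Pi.single i 1)) (σ (σ i))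
    rw [hmv, hmv, Pi.single_eq_same, mul_one] at h1
    by_cases h : σ (σ i) = i
    · refine ⟨h, ?_⟩
      rwa [h, Pi.single_eq_same] at h1
    · rw [Pi.single_eq_of_ne h] at h1
      rcases mul_eq_zero.1 h1 with h' | h' <;> exact absurd h' (Units.ne_zero _)
  have hpm : ∀ i, σ i = i → (d i : F) = 1 ∨ (d i : F) = -1 := fun i h => by
    have h1 := (hsd i).2
    rw [h] at h1
    exact mul_self_eq_one_iff.1 h1
  -- two fixed points of the same sign
  obtain ⟨p, p', hpp, hp, hp', hd'⟩ : ∃ p p', p ≠ p' ∧ σ p = p ∧ σ p' = p' ∧ (d p : F) = d p' := by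
    by_contra hcon
    push Not at hcon
    set Fx := (Finset.univ : Finset (Fin n)).filter fun i => σ i = i
    have hFx : ∀ i, i ∈ Fx ↔ σ i = i := fun i => by simp [Fx]
    have hle : Fx.card ≤ 2 := by
      by_contra h
      obtain ⟨a, b, c, ha, hb, hc, hab, hac, hbc⟩ := Finset.two_lt_card_iff.1 (by omega : 2 < Fx.card)
      rw [hFx] at ha hb hc
      rcases hpm a ha with e1 | e1 <;> rcases hpm b hb with e2 | e2 <;> rcases hpm c hc with e3 | e3
      all_goals first
        | exact hcon a b hab ha hb (e1.trans e2.symm)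
        | exact hcon a c hac ha hc (e1.trans e3.symm)
        | exact hcon b c hbc hb hc (e2.trans e3.symm)
    have hσ2 : σ ^ 2 = 1 := Equiv.ext fun i => by rw [sq]; exact (hsd i).1
    have hsupp : σ.support.card + Fx.card = 6 := by
      have : σ.support = Finset.univ \ Fx := by ext i; simp [Fx]
      rw [this, Finset.card_sdiff_of_subset (Finset.subset_univ _), Finset.card_univ, Fintype.card_fin]
      have := Finset.card_le_univ Fx
      rw [Fintype.card_fin] at this
      omega
    obtain ⟨m, hm⟩ : ∃ m, σ.cycleType = Multiset.replicate m 2 := ⟨_, Multiset.eq_replicate_card.2 fun k hk => by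
      have h1 := (Nat.dvd_prime Nat.prime_two).1 ((Equiv.Perm.dvd_of_mem_cycleType hk).trans (orderOf_dvd_of_pow_eq_one hσ2))
      have h3 := Equiv.Perm.two_le_of_mem_cycleType hk
      omega⟩
    have hsum := σ.sum_cycleType
    rw [hm, Multiset.sum_replicate, smul_eq_mul] at hsum
    have hsign : (Equiv.Perm.sign σ : ℤ) = (-1) ^ m := by
      rw [Equiv.Perm.sign_of_cycleType, hm, Multiset.sum_replicate, Multiset.card_replicate, smul_eq_mul,
        show m * 2 + m = 2 * m + m by ring, pow_add, pow_mul]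
      simp
    have hdet := (mem_specialLinear_iff _).1 hz.2
    rw [mono_det K, hsign, ← Finset.prod_filter_mul_prod_filter_not Finset.univ (fun i => σ i = i),
      Finset.prod_involution (s := Finset.univ.filter fun i => ¬ σ i = i) (fun i _ => σ i)
        (fun i _ => by rw [mul_comm]; exact (hsd i).2)
        (fun i hi _ => by simpa using hi)
        (fun i hi => by
          simp only [Finset.mem_filter, Finset.mem_univ, true_and] at hi ⊢
          exact fun e => hi (σ.injective e))
        (fun i _ => (hsd i).1)] at hdet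
    have hm3 : m = 3 ∨ m = 2 := by omega
    rcases hm3 with rfl | rfl
    · rw [show (Finset.univ : Finset (Fin n)).filter (fun i => σ i = i) = ∅ from
        Finset.card_eq_zero.1 (by show Fx.card = 0; omega)] at hdet
      simp at hdet
      exact h2 (by linear_combination -hdet)
    · obtain ⟨a, b, hab, hFab⟩ := Finset.card_eq_two.1 (show Fx.card = 2 by omega)
      rw [show (Finset.univ : Finset (Fin n)).filter (fun i => σ i = i) = {a, b} from hFab,
        Finset.prod_pair hab] at hdet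
      have ha : σ a = a := (hFx a).1 (by rw [hFab]; simp)
      have hb : σ b = b := (hFx b).1 (by rw [hFab]; simp)
      simp at hdet
      rcases hpm a ha with e1 | e1 <;> rcases hpm b hb with e2 | e2
      · exact hcon a b hab ha hb (e1.trans e2.symm)
      · rw [e1, e2] at hdet; exact h2 (by linear_combination -hdet)
      · rw [e1, e2] at hdet; exact h2 (by linear_combination -hdet)
      · exact hcon a b hab ha hb (e1.trans e2.symm)
  set ε : F := (d p : F) with hε
  have hεε : ε * ε = 1 := by rcases hpm p hp with e | e <;> rw [hε, e] <;> ring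
  -- an orbit on which the involution differs from the scalar
  obtain ⟨i, hi⟩ : ∃ i, σ i ≠ i ∨ (d i : F) ≠ ε := by
    by_contra hcon
    push Not at hcon
    have hv : ∀ v, (monoGL σ d : MM) *ᵥ v = ε • v := fun v => funext fun l => by
      have := hmv v l; rwa [(hcon l).1, (hcon l).2] at this
    rcases hpm p hp with e | e
    · exact hz1 (Units.ext (CfsgLib.Geometry.matrix_eq_of_mulVec fun v => by
        rw [hv, hε, e, one_smul, Units.val_one, Matrix.one_mulVec]))
    · exact hzn fun v => by rw [hv, hε, e, neg_one_smul]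
  have hpi : p ≠ i ∧ p ≠ σ i := by
    constructor <;> intro h
    · rw [← h] at hi; exact hi.elim (fun h' => h' hp) (fun h' => h' rfl)
    · have : i = p := σ.injective (h.symm.trans hp.symm)
      rw [this] at hi; exact hi.elim (fun h' => h' hp) (fun h' => h' rfl)
  have hpi' : p' ≠ i ∧ p' ≠ σ i := by
    constructor <;> intro h
    · rw [← h] at hi; exact hi.elim (fun h' => h' hp') (fun h' => h' hd'.symm)
    · have : i = p' := σ.injective (h.symm.trans hp'.symm)
      rw [this] at hi; exact hi.elim (fun h' => h' hp') (fun h' => h' hd'.symm)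
  -- an eigenvector for the other sign
  set f : Fin n → F := Pi.single i 1 - ε • Pi.single (σ i) (d i : F) with hf
  have hzf : (monoGL σ d : MM) *ᵥ f = -ε • f := by
    funext l
    obtain ⟨k, rfl⟩ := σ.surjective l
    rw [hmv, Pi.smul_apply, smul_eq_mul]
    simp only [hf, Pi.sub_apply, Pi.smul_apply, smul_eq_mul]
    by_cases hki : k = i
    · subst hki
      by_cases hσk : σ k = k
      · have h1 := (hsd k).2
        rw [hσk] at h1 ⊢
        simp
        linear_combination (-ε) * h1 + (-(d k : F)) * hεε + (d k : F) * 0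
      · simp [hσk, Ne.symm hσk]
        linear_combination -(d k : F) * hεε
    by_cases hkσ : k = σ i
    · subst hkσ
      rw [(hsd i).1]
      simp [hki, Ne.symm hki]
      linear_combination ε * (hsd i).2
    have h1 : σ k ≠ i := fun h => hkσ (by rw [← h, (hsd k).1])
    have h3 : σ k ≠ σ i := fun h => hki (σ.injective h)
    simp [hki, hkσ, h1, h3]
  let c := flipGL K ({p, p'} : Finset (Fin n))
  have hcM : c ∈ M := hO.mono _ ⟨ph_mem_GU K, (mem_specialLinear_iff _).2 (by
    rw [flip_det K, Finset.card_pair hpp]; ring)⟩ (ph_isMono K)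
  set y := x * c * x⁻¹ with hy
  refine ⟨y, mul_mem (mul_mem hx hcM) (inv_mem hx), ?_, ?_⟩
  · exact not_mono_neg K hn hO h2 hD x hx hxm hpp (d := fun l => if l ∈ ({p, p'} : Finset (Fin n)) then -1 else 1)
      (by simp) (by simp) (fun l h1 h3 => by simp [h1, h3])
  have hxU := (hO.le hx).1
  have hyU : y ∈ Cfsg.GU n F q := (hO.le (mul_mem (mul_mem hx hcM) (inv_mem hx))).1
  set g := ((x⁻¹ : Matrix.GeneralLinearGroup (Fin n) F) : MM) *ᵥ f with hg
  have hzg : (monoGL σ d : MM) *ᵥ g = -ε • g := by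
    have e : monoGL σ d * x⁻¹ = x⁻¹ * monoGL σ d := by
      rw [eq_inv_mul_iff_mul_eq, ← mul_assoc, hxz, mul_inv_cancel_right]
    rw [hg, Matrix.mulVec_mulVec, ← Units.val_mul, e, Units.val_mul, ← Matrix.mulVec_mulVec, hzf,
      Matrix.mulVec_smul]
  have hgz : ∀ o, σ o = o → (d o : F) = ε → g o = 0 := fun o ho hdo => by
    have h1 := congrFun hzg o
    have h3 := hmv g o
    rw [ho, h1, hdo, Pi.smul_apply, smul_eq_mul] at h3
    exact (mul_eq_zero.1 (show (2 * ε) * g o = 0 by linear_combination -h3)).resolve_left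
      (mul_ne_zero h2 (left_ne_zero_of_mul_eq_one hεε))
  have hcg : (c : MM) *ᵥ g = g := funext fun l => by
    rw [flip_mulVec K]
    split_ifs with hl
    · simp only [Finset.mem_insert, Finset.mem_singleton] at hl
      rcases hl with rfl | rfl
      · rw [hgz l hp rfl, neg_zero]
      · rw [hgz l hp' hd'.symm, neg_zero]
    · rfl
  have hyf : (y : MM) *ᵥ f = f := by
    rw [hy, Units.val_mul, Units.val_mul, ← Matrix.mulVec_mulVec, ← Matrix.mulVec_mulVec, ← hg, hcg, hg,
      Matrix.mulVec_mulVec, ← Units.val_mul, mul_inv_cancel, Units.val_one, Matrix.one_mulVec]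
  -- the reflection in that vector
  obtain ⟨m, hmU, hmm, hmdet, c₀, hmv'⟩ : ∃ m ∈ Cfsg.GU n F q, IsMono m ∧ (m : MM).det = -1 ∧
      ∃ c₀ : F, ∀ v, (m : MM) *ᵥ v = v + (c₀ * hh v f) • f := by
    by_cases hσi : σ i = i
    · have hdi : (d i : F) = -ε := by
        have hne := hi.resolve_left (not_not.2 hσi)
        rcases hpm i hσi with e | e <;> rcases hpm p hp with e' | e'
        · exact absurd (e.trans e'.symm) hne
        · rw [e, hε, e', neg_neg]
        · rw [e, hε, e']
        · exact absurd (e.trans e'.symm) hne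
      refine ⟨flipGL K {i}, ph_mem_GU K, ph_isMono K, by rw [flip_det K]; simp, -1 / 2, fun v => funext fun l => ?_⟩
      have hfe : f = Pi.single i 2 := by
        funext k
        rw [hf, hσi, hdi]
        by_cases hk : k = i <;> simp [hk]
        linear_combination hεε
      rw [flip_mulVec K, hfe, K.hh_single_right, map_ofNat]
      by_cases hl : l = i
      · subst hl
        simp
        field_simp
        ring
      · simp [hl]
    · set a : F := ε * d i with ha
      have haa : a * τ a = 1 := by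
        rcases hpm p hp with e | e <;> rw [ha, hε, e] <;> simp [hdn]
      let e : Fin n → Fˣ := fun l => if l = i then Units.mk0 a (K.ne_of_nm haa)
        else if l = σ i then Units.mk0 (τ a) (K.ne_of_nm (K.nm_tau haa)) else 1
      have he : ∀ l, (e l : F) * τ (e l) = 1 := fun l => by
        simp only [e]; split_ifs <;> simp [haa, K.invol, mul_comm (τ a)]
      refine ⟨monoGL (Equiv.swap i (σ i)) e, mono_mem_GU K _ _ he, monoGL_isMono _ _, ?_, -1, fun v => funext fun l => ?_⟩
      · rw [mono_det K, Equiv.Perm.sign_swap (Ne.symm hσi), Finset.prod_eq_mul i (σ i) (Ne.symm hσi)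
          (fun l _ hl => by simp [e, hl.1, hl.2]) (by simp) (by simp)]
        simp [e, hσi, haa]
      have hfv : hh v f = v i - τ a * v (σ i) := by
        rw [hf, sub_eq_add_neg, ← neg_smul, un_add_right K.form, un_smul_right K.form, K.hh_single_right,
          K.hh_single_right, ha, map_one, map_mul, map_neg]
        ring
      rw [monoGL_val, monoMat_mulVec', Equiv.symm_swap, Pi.add_apply, Pi.smul_apply, hfv, hf]
      by_cases h1 : l = i
      · subst h1
        simp [e, hσi, Ne.symm hσi]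
      by_cases h3 : l = σ i
      · subst h3
        simp [e, hσi, ← ha]
        linear_combination (v (σ i)) * haa
      · simp [e, h1, h3, Equiv.swap_apply_of_ne_of_ne h1 h3]
  clear_value y
  refine ⟨m, hmU, hmm, hmdet, Units.ext (CfsgLib.Geometry.matrix_eq_of_mulVec fun v => ?_)⟩
  rw [Units.val_mul, Units.val_mul, ← Matrix.mulVec_mulVec, ← Matrix.mulVec_mulVec, hmv', hmv',
    Matrix.mulVec_add, Matrix.mulVec_smul, hyf]
  conv_lhs => rw [← hyf, (mem_GU_iff y).1 hyU, hyf]

/-- Two involutions with opposite signs on a common vector. -/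
lemma odd_mono_of_pair (h2 : (2 : F) ≠ 0) (hD : Dense M) {s t : Matrix.GeneralLinearGroup (Fin n) F}
    (hs : s ∈ M) (hsm : ¬ IsMono s) (hss : s * s = 1) (hstr : Matrix.trace (s : MM) = 2)
    (ht : t ∈ M) (htm : IsMono t) (htt : t * t = 1) (httr : Matrix.trace (t : MM) = 2)
    {w : Fin n → F} (hw : w ≠ 0) (hsw : (s : MM) *ᵥ w = -w) (htw : (t : MM) *ᵥ w = w) :
    ∃ s ∈ M, ¬ IsMono s ∧ ∃ m ∈ Cfsg.GU n F q, IsMono m ∧ (m : MM).det = -1 ∧ m * s = s * m := by
  have h4 : (4 : F) ≠ 0 := by
    intro h; exact h2 ((mul_self_eq_zero).1 (show (2 : F) * 2 = 0 by linear_combination h))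
  have htr1 : Matrix.trace ((1 : MM)) = 6 := by
    rw [Matrix.trace_one, Fintype.card_fin, h6]; norm_num
  have hsinv : s⁻¹ = s := inv_eq_of_mul_eq_one_right hss
  have htinv : t⁻¹ = t := inv_eq_of_mul_eq_one_right htt
  set a := s * t with ha
  have hpow : ∀ j : ℕ, ((a ^ j : Matrix.GeneralLinearGroup (Fin n) F) : MM) *ᵥ w = (-1 : F) ^ j • w := by
    intro j
    induction j with
    | zero => simp
    | succ j ih =>
      rw [pow_succ', Units.val_mul, ← Matrix.mulVec_mulVec, ih, Matrix.mulVec_smul, ha, Units.val_mul,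
        ← Matrix.mulVec_mulVec, htw, hsw, pow_succ, mul_smul, neg_one_smul]
  have hscal : ∀ c : F, c • w = w → c = 1 := fun c h => by
    by_contra hc
    refine hw ((smul_eq_zero.1 (show (c - 1) • w = 0 by rw [sub_smul, h, one_smul, sub_self])).resolve_left
      (sub_ne_zero.2 hc))
  have hsa : s * a * s⁻¹ = a⁻¹ := by rw [ha, mul_inv_rev, hsinv, htinv, ← mul_assoc, hss, one_mul]
  have hta : t * a * t⁻¹ = a⁻¹ := by rw [ha, mul_inv_rev, hsinv, htinv, mul_assoc, mul_assoc, htt, mul_one]
  have hconj : ∀ (k : ℕ), s * a ^ k * s⁻¹ = (a ^ k)⁻¹ ∧ t * a ^ k * t⁻¹ = (a ^ k)⁻¹ := fun k =>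
    ⟨by rw [← conj_pow, hsa, inv_pow], by rw [← conj_pow, hta, inv_pow]⟩
  obtain ⟨k, hk⟩ : Even (orderOf a) := by
    rcases Nat.even_or_odd (orderOf a) with h | h
    · exact h
    · exfalso
      have := hpow (orderOf a)
      rw [pow_orderOf_eq_one, Units.val_one, Matrix.one_mulVec, h.neg_one_pow] at this
      exact h2 (by linear_combination -(hscal _ this.symm))
  have hN : 0 < orderOf a := orderOf_pos a
  set z := a ^ k with hz
  have hzz : z * z = 1 := by rw [hz, ← pow_add, ← hk]; exact pow_orderOf_eq_one a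
  have hz1 : z ≠ 1 := pow_ne_one_of_lt_orderOf (by omega) (by omega)
  have hinv : z⁻¹ = z := inv_eq_of_mul_eq_one_right hzz
  have hzs : z * s = s * z := by
    have h := (hconj k).1; rw [← hz, hinv] at h
    conv_lhs => rw [← h]
    rw [inv_mul_cancel_right]
  have hzt : z * t = t * z := by
    have h := (hconj k).2; rw [← hz, hinv] at h
    conv_lhs => rw [← h]
    rw [inv_mul_cancel_right]
  have hzM : z ∈ M := pow_mem (mul_mem hs ht) k
  have htrs : ∀ g : Matrix.GeneralLinearGroup (Fin n) F, (∀ v, (g : MM) *ᵥ v = -v) → (g : MM) = -1 :=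
    fun g h => CfsgLib.Geometry.matrix_eq_of_mulVec fun v => by rw [h, Matrix.neg_mulVec, Matrix.one_mulVec]
  have hzn : ¬ ∀ v, (z : MM) *ᵥ v = -v := by
    intro hall
    have hkodd : Odd k := by
      by_contra hke
      have := hpow k
      rw [(Nat.not_odd_iff_even.1 hke).neg_one_pow, one_smul, ← hz, hall] at this
      exact h2 (by
        have h1 := hscal (-1) (by rw [neg_one_smul]; exact this)
        linear_combination -h1)
    obtain ⟨j, hj⟩ := hkodd
    have hc : a ^ j * s * (a ^ j)⁻¹ = z * t := by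
      rw [show (a ^ j)⁻¹ = s * a ^ j * s⁻¹ from ((hconj j).1).symm, hsinv,
        show a ^ j * s * (s * a ^ j * s) = a ^ j * (s * s) * a ^ j * s by group, hss, mul_one, ← pow_add, hz, hj,
        show 2 * j + 1 = (j + j) + 1 by ring, pow_succ, mul_assoc, ha, mul_assoc, htt, mul_one]
    have h1 := congrArg (fun g : Matrix.GeneralLinearGroup (Fin n) F => Matrix.trace (g : MM)) hc
    simp only [Units.val_mul, Matrix.trace_units_conj, hstr, htrs z hall, neg_one_mul, Matrix.trace_neg, httr] at h1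
    exact h4 (by linear_combination h1)
  by_cases hzm : IsMono z
  · exact odd_mono_of_inv K h6 hq hO h2 hD hs hsm (hO.le hzM) hzm hzz hz1 hzn hzs.symm
  · refine odd_mono_of_inv K h6 hq hO h2 hD hzM hzm (hO.le ht) htm htt (fun h => h4 ?_) (fun h => h4 ?_) hzt
    · rw [h, Units.val_one, htr1] at httr; linear_combination httr
    · rw [htrs t h, Matrix.trace_neg, htr1] at httr
      have h8 : (4 : F) * 2 = 0 := by linear_combination -httr
      exact (mul_eq_zero.1 h8).resolve_right h2

/-- A non-monomial element commuting with a monomial one of determinant minus one. -/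
lemma exists_odd_mono_six (h2 : (2 : F) ≠ 0) (hD : Dense M) (hNm : ∃ x ∈ M, ¬ IsMono x) :
    ∃ s ∈ M, ¬ IsMono s ∧ ∃ m ∈ Cfsg.GU n F q, IsMono m ∧ (m : MM).det = -1 ∧ m * s = s * m := by
  have hn : 6 ≤ n := by omega
  obtain ⟨g, hg, hgm⟩ := hNm
  have hgU := (hO.le hg).1
  let i0 : Fin n := ⟨0, by omega⟩
  let i1 : Fin n := ⟨1, by omega⟩
  let i2 : Fin n := ⟨2, by omega⟩
  let i3 : Fin n := ⟨3, by omega⟩
  have h01 : i0 ≠ i1 := by simp [i0, i1]
  have htr : ∀ (T : Finset (Fin n)), T.card = 2 → Matrix.trace (flipGL K T : MM) = 2 := by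
    intro T hT
    have e : ∀ i : Fin n, (flipGL K T : MM) i i = 1 - 2 * (if i ∈ T then 1 else 0) := fun i => by
      have h := congrFun (mulVec_e (flipGL K T) i) i
      rw [flip_mulVec K] at h
      simp only [col] at h
      rw [← h]
      split_ifs <;> simp <;> ring
    rw [Matrix.trace]
    simp only [Matrix.diag_apply, e, Finset.sum_sub_distrib, ← Finset.mul_sum, Finset.sum_boole]
    simp [hT, h6]
    norm_num
  have hflip : ∀ (T : Finset (Fin n)), T.card = 2 → flipGL K T ∈ M := fun T hT =>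
    hO.mono _ ⟨ph_mem_GU K, (mem_specialLinear_iff _).2 (by rw [flip_det K, hT]; ring)⟩ (ph_isMono K)
  have hneg : ∀ x ∈ M, ¬ IsMono x → ¬ IsMono (x * flipGL K {i0, i1} * x⁻¹) := fun x hx hxm =>
    not_mono_neg K hn hO h2 hD x hx hxm h01 (d := fun l => if l ∈ ({i0, i1} : Finset (Fin n)) then -1 else 1)
      (by simp) (by simp) (fun l h1 h3 => by simp [h1, h3])
  have hinvol : ∀ x : Matrix.GeneralLinearGroup (Fin n) F,
      x * flipGL K {i0, i1} * x⁻¹ * (x * flipGL K {i0, i1} * x⁻¹) = 1 := fun x => by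
    rw [show x * flipGL K {i0, i1} * x⁻¹ * (x * flipGL K {i0, i1} * x⁻¹) =
      x * (flipGL K {i0, i1} * flipGL K {i0, i1}) * x⁻¹ by group, flip_sq K, mul_one, mul_inv_cancel]
  by_cases hE : ∃ ε : F, ε * τ ε = 1 ∧ ε ^ 6 ≠ 1
  · obtain ⟨ε, hε, hε6⟩ := hE
    obtain ⟨ρ, hρ, c, -, hρv, hρm⟩ := exists_refl K h6 hO hg i0 hε hε6
    have hρm' := hρm (by have := hD.card_supp hg hgm i0; omega)
    set u := col g i0
    let f : Fin n → F := Pi.single i0 (τ (u i1)) - Pi.single i1 (τ (u i0))
    have hf0 : f ≠ 0 := by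
      intro h
      have e0 := congrFun h i0
      have e1 := congrFun h i1
      simp [f, h01, h01.symm] at e0 e1
      exact h01 (hD g hg hgm i0 i0 i1 e1 e0)
    have hfu : hh f u = 0 := by
      rw [show f = Pi.single i0 (τ (u i1)) + (-1 : F) • Pi.single i1 (τ (u i0)) by simp [f, sub_eq_add_neg],
        K.form.add_left, K.form.smul_left, K.hh_single_left, K.hh_single_left]
      ring
    have hρf : (ρ : MM) *ᵥ f = ε • f := by rw [hρv, hfu, mul_zero, zero_smul, add_zero]
    have hρi : ((ρ⁻¹ : Matrix.GeneralLinearGroup (Fin n) F) : MM) *ᵥ f = ε⁻¹ • f := by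
      conv_lhs => rw [← inv_smul_smul₀ (K.ne_of_nm hε) f, ← hρf, Matrix.mulVec_smul, Matrix.mulVec_mulVec,
        ← Units.val_mul, inv_mul_cancel, Units.val_one, Matrix.one_mulVec]
    refine odd_mono_of_pair K h6 hq hO h2 hD (s := ρ * flipGL K {i0, i1} * ρ⁻¹) (t := flipGL K {i2, i3})
      (mul_mem (mul_mem hρ (hflip _ (Finset.card_pair h01))) (inv_mem hρ)) (hneg ρ hρ hρm') (hinvol ρ) ?_
      (hflip _ (Finset.card_pair (by simp [i2, i3]))) (ph_isMono K) (flip_sq K _)
      (htr _ (Finset.card_pair (by simp [i2, i3]))) hf0 ?_ ?_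
    · rw [Units.val_mul, Units.val_mul, Matrix.trace_units_conj, htr _ (Finset.card_pair h01)]
    · have hflf : (flipGL K {i0, i1} : MM) *ᵥ f = -f := funext fun l => by
        rw [flip_mulVec K]
        by_cases hl : l ∈ ({i0, i1} : Finset (Fin n))
        · rw [if_pos hl]; rfl
        · simp only [Finset.mem_insert, Finset.mem_singleton, not_or] at hl
          rw [if_neg (by simp [hl.1, hl.2])]; simp [f, hl.1, hl.2]
      rw [Units.val_mul, Units.val_mul, ← Matrix.mulVec_mulVec, ← Matrix.mulVec_mulVec, hρi, Matrix.mulVec_smul,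
        hflf, Matrix.mulVec_smul, Matrix.mulVec_neg, hρf, ← smul_neg, smul_smul,
        inv_mul_cancel₀ (K.ne_of_nm hε), one_smul]
    · funext l
      rw [flip_mulVec K]
      by_cases hl : l ∈ ({i2, i3} : Finset (Fin n))
      · rw [if_pos hl]
        simp only [Finset.mem_insert, Finset.mem_singleton] at hl
        rcases hl with rfl | rfl <;> simp [f, i0, i1, i2, i3, Fin.ext_iff]
      · rw [if_neg hl]
  -- the field with five elements
  have hq5 : q = 5 := by by_contra h; exact hE (exists_eps K hq h)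
  set u := col g i0
  set v := col g i1
  set w := v i2 • u + (-u i2) • v with hw
  have hw0 : w ≠ 0 := fun h => by
    obtain ⟨e1, e2⟩ := col_indep K hgU h01 h
    exact h01 (hD g⁻¹ (inv_mem hg) (fun h => hgm (by simpa using isMono_inv h)) i2 i0 i1
      (by rw [inv_apply K hgU]; exact (congrArg τ (neg_eq_zero.1 e2)).trans (map_zero τ))
      (by rw [inv_apply K hgU]; exact (congrArg τ e1).trans (map_zero τ)))
  have hwi : w i2 = 0 := by simp [hw]; ring
  have hsw : ((g * flipGL K {i0, i1} * g⁻¹ : Matrix.GeneralLinearGroup (Fin n) F) : MM) *ᵥ w = -w := by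
    rw [flipGL, conj_pair_mulVec K hgU h01 (fun l h1 h3 => by simp [h1, h3]) w]
    simp only [Finset.mem_insert, Finset.mem_singleton, true_or, or_true, if_true]
    rw [hw]
    simp only [K.form.add_left, K.form.smul_left, hh_col K hgU, if_true, if_neg h01, if_neg h01.symm, u, v]
    module
  have hstr : Matrix.trace ((g * flipGL K {i0, i1} * g⁻¹ : Matrix.GeneralLinearGroup (Fin n) F) : MM) = 2 := by
    rw [Units.val_mul, Units.val_mul, Matrix.trace_units_conj, htr _ (Finset.card_pair h01)]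
  have hsM := mul_mem (mul_mem hg (hflip _ (Finset.card_pair h01))) (inv_mem hg)
  by_cases hz : ∃ j, j ≠ i2 ∧ w j = 0
  · obtain ⟨j, hj, hwj⟩ := hz
    refine odd_mono_of_pair K h6 hq hO h2 hD hsM (hneg g hg hgm) (hinvol g) hstr
      (hflip _ (Finset.card_pair hj)) (ph_isMono K) (flip_sq K _) (htr _ (Finset.card_pair hj)) hw0 hsw ?_
    funext l
    rw [flip_mulVec K]
    split_ifs with hl
    · simp only [Finset.mem_insert, Finset.mem_singleton] at hl
      rcases hl with rfl | rfl <;> simp [hwj, hwi]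
    · rfl
  push Not at hz
  obtain ⟨j, k, hj, hk, hjk, hX⟩ : ∃ j k, j ≠ i2 ∧ k ≠ i2 ∧ j ≠ k ∧ w j * τ (w j) = w k * τ (w k) := by
    have hcard : ((fixF τ).erase 0).card < ((Finset.univ : Finset (Fin n)).erase i2).card := by
      have := card_fixF_le K
      rw [Finset.card_erase_of_mem (by rw [mem_fixF, map_zero]), Finset.card_erase_of_mem (Finset.mem_univ _),
        Finset.card_univ, Fintype.card_fin]
      omega
    obtain ⟨j, hj, k, hk, hjk, he⟩ := Finset.exists_ne_map_eq_of_card_lt_of_maps_to hcard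
      (f := fun j => w j * τ (w j)) fun j hj => Finset.mem_coe.2 (Finset.mem_erase.2
        ⟨mul_ne_zero (hz j (Finset.ne_of_mem_erase hj)) fun h => hz j (Finset.ne_of_mem_erase hj)
          (τ.injective (by rw [h, map_zero])), mem_fixF.2 (K.fix_mul_tau _)⟩)
    exact ⟨j, k, Finset.ne_of_mem_erase hj, Finset.ne_of_mem_erase hk, hjk, he⟩
  set ρ : F := w j / w k with hρ
  have hρρ : ρ * τ ρ = 1 := by
    rw [hρ, map_div₀, div_mul_div_comm, hX, div_self (mul_ne_zero (hz k hk) fun h => hz k hk (τ.injective (by rw [h, map_zero])))]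
  let d : Fin n → Fˣ := fun l => if l = k then Units.mk0 ρ (K.ne_of_nm hρρ)
    else if l = j then Units.mk0 (τ ρ) (K.ne_of_nm (K.nm_tau hρρ)) else if l = i2 then -1 else 1
  have hd : ∀ l, (d l : F) * τ (d l) = 1 := fun l => by
    simp only [d]; split_ifs <;> simp [hρρ, K.invol, mul_comm (τ ρ)]
  have htv : ∀ x l, ((monoGL (Equiv.swap j k) d : MM) *ᵥ x) l = if l = j then ρ * x k else
      if l = k then τ ρ * x j else if l = i2 then -x l else x l := fun x l => by
    rw [monoGL_val, monoMat_mulVec', Equiv.symm_swap]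
    split_ifs with h1 h3 h5
    · subst h1; simp [d]
    · subst h3; simp [d, hjk, h1]
    · rw [Equiv.swap_apply_of_ne_of_ne h1 h3]; subst h5; simp [d, h1, h3]
    · rw [Equiv.swap_apply_of_ne_of_ne h1 h3]; simp [d, h1, h3, h5]
  refine odd_mono_of_pair K h6 hq hO h2 hD hsM (hneg g hg hgm) (hinvol g) hstr
    (hO.mono _ (mono_mem_su K (Equiv.swap j k) d hd ?_) (monoGL_isMono _ _)) (monoGL_isMono _ _) ?_ ?_ hw0 hsw ?_
  · rw [Equiv.Perm.sign_swap hjk, ← Finset.mul_prod_erase _ _ (Finset.mem_univ k),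
      ← Finset.mul_prod_erase _ _ (Finset.mem_erase.2 ⟨hjk, Finset.mem_univ j⟩),
      Finset.prod_eq_single i2 (fun l hl hl2 => by
        simp only [Finset.mem_erase] at hl
        simp [d, hl.1, hl.2.1, hl2]) (fun h => absurd (Finset.mem_erase.2 ⟨hj.symm, Finset.mem_erase.2
          ⟨hk.symm, Finset.mem_univ _⟩⟩) h)]
    simp [d, hjk, hj.symm, hk.symm]
    linear_combination hρρ
  · refine Units.ext (CfsgLib.Geometry.matrix_eq_of_mulVec fun x => funext fun l => ?_)
    rw [Units.val_mul, ← Matrix.mulVec_mulVec, Units.val_one, Matrix.one_mulVec, htv, htv, htv]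
    by_cases h1 : l = j
    · subst h1; simp [hjk, hjk.symm]; linear_combination x l * hρρ
    by_cases h3 : l = k
    · subst h3; simp [hjk, hjk.symm]; linear_combination x l * hρρ
    by_cases h5 : l = i2
    · simp [h1, h3, h5, hj.symm, hk.symm, htv]
    · rw [htv]; simp [h1, h3, h5]
  · rw [Matrix.trace, ← Finset.add_sum_erase _ _ (Finset.mem_univ k),
      ← Finset.add_sum_erase _ _ (Finset.mem_erase.2 ⟨hjk, Finset.mem_univ j⟩),
      ← Finset.add_sum_erase _ _ (Finset.mem_erase.2 ⟨hj.symm, Finset.mem_erase.2 ⟨hk.symm, Finset.mem_univ i2⟩⟩)]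
    have hdg : ∀ l, Matrix.diag (monoGL (Equiv.swap j k) d : MM) l = if l = j ∨ l = k then 0
        else if l = i2 then -1 else 1 := fun l => by
      have h := congrFun (mulVec_e (monoGL (Equiv.swap j k) d) l) l
      rw [htv] at h
      simp only [col] at h
      rw [Matrix.diag_apply, ← h]
      by_cases h1 : l = j
      · subst h1; simp [Ne.symm hjk]
      by_cases h3 : l = k
      · subst h3; simp [hjk, h1]
      simp [h1, h3]
    simp only [hdg]
    rw [Finset.sum_congr rfl fun l hl => show (if l = j ∨ l = k then (0 : F) else if l = i2 then -1 else 1) = 1 by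
      simp only [Finset.mem_erase] at hl
      simp [hl.1, hl.2.1, hl.2.2.1]]
    simp only [true_or, or_true, if_true, if_neg (not_or.2 ⟨hj.symm, hk.symm⟩), Finset.sum_const]
    rw [Finset.card_erase_of_mem (Finset.mem_erase.2 ⟨hj.symm, Finset.mem_erase.2 ⟨hk.symm, Finset.mem_univ i2⟩⟩),
      Finset.card_erase_of_mem (Finset.mem_erase.2 ⟨hjk, Finset.mem_univ j⟩),
      Finset.card_erase_of_mem (Finset.mem_univ k), Finset.card_univ, Fintype.card_fin, h6]
    norm_num
  · funext l
    rw [htv]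
    split_ifs with h1 h3 h5
    · subst h1; rw [hρ, div_mul_cancel₀ _ (hz k hk)]
    · subst h3
      have : w j = ρ * w l := by rw [hρ, div_mul_cancel₀ _ (hz l hk)]
      linear_combination τ ρ * this + w l * hρρ
    · subst h5; rw [hwi, neg_zero]
    · rfl

/-- Some non-monomial element fixes a coordinate line. -/
theorem fixer_six (hNm : ∃ x ∈ M, ¬ IsMono x) : Fixer M := by
  by_cases h2 : (2 : F) = 0
  · exact fixer_even_six K h6 hq hO h2 hNm
  by_contra hno
  have hD := dense_six K h6 hq hO hno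
  exact hno (fixer_of_odd_mono K (by omega) hO hq h2 hD (exists_odd_mono_six K h6 hq hO h2 hD hNm))

end CfsgLib.UnMono
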