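import Mathlib
import Cfsg.Agent.Lib.UnMono.Six

/-!
The monomial subgroup of `SU_n(q)` is maximal for `n ≥ 10`, and for `n = 6` when `q ≥ 3`.
-/

set_option autoImplicit false
set_option linter.unusedSectionVars false

open scoped Classical

namespace CfsgLib.UnMono

open scoped Matrix
open CfsgLib.Maximal

variable {n q : ℕ} {F : Type*} [Field F] [Fintype F] {τ : F ≃+* F}
  {M N : Subgroup (Matrix.GeneralLinearGroup (Fin n) F)}

local notation "hh" => Cfsg.hermForm n F q
local notation "MM" => Matrix (Fin n) (Fin n) F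

variable (K : Ctx n q τ)
include K

variable (hn : 6 ≤ n)
include hn

/-- Over the field with four elements. -/
lemma suGL_le_two (hq : q = 2) (hO : Over q N)
    (hD : ∀ (d : Fin n → F) (hd : ∀ i, d i * τ (d i) = 1), ∀ g ∈ N, ph d hd * g * (ph d hd)⁻¹ ∈ N)
    (hNm : ∃ x ∈ N, ¬ IsMono x) : suGL n F q ≤ N := by
  have h2 := two_eq_zero K hq
  have hskew : ∀ k : F, τ k = -k → k = 0 ∨ k = 1 := by
    intro k hk
    by_cases h : k = 0
    · exact Or.inl h
    have e := nm_two K hq h
    rw [hk] at e
    rcases mul_self_eq_one_iff.1 (show k * k = 1 by linear_combination e + k * k * h2) with h' | h'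
    · exact Or.inr h'
    · exact Or.inr (by linear_combination h' - h2)
  have hfull : ∀ v : Fin n → F, HK τ q N v 1 → UFull τ q N v := by
    intro v hv k hk
    rcases hskew k hk with rfl | rfl
    · rw [zero_smul]; exact has_of_zero (Or.inl rfl)
    · exact hv.2
  obtain ⟨g, hg, hgm⟩ := hNm
  have hgU := (hO.le hg).1
  obtain ⟨a, ha⟩ : ∃ a, 2 ≤ (supp (col g a)).card := by
    by_contra hcon
    push Not at hcon
    refine hgm fun k => ?_
    obtain ⟨i, hi⟩ := Finset.card_pos.1 (card_supp_col_pos K hgU k)
    exact ⟨i, fun l hl => by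
      by_contra h
      exact hl (Finset.card_le_one.1 (Nat.le_of_lt_succ (hcon k)) l (mem_supp.2 h) i hi)⟩
  have ha3 : 3 ≤ (supp (col g a)).card := by
    by_contra h
    have e := hh_self_two K hq (col g a)
    rw [hh_col K hgU, if_pos rfl, show (supp (col g a)).card = 2 by omega] at e
    exact one_ne_zero (by rw [e]; exact_mod_cast h2)
  obtain ⟨v, hvv, hv, hv3⟩ := exists_root_image K hn hO h2 hg ha3
  have hev := (iso_iff_even K hq v).1 hvv
  have hv4 : 4 ≤ (supp v).card := by obtain ⟨r, hr⟩ := hev; omega
  obtain ⟨S, hS, hS4⟩ := Finset.exists_subset_card_eq (s := supp v) (n := 4) hv4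
  obtain ⟨i, hi⟩ := Finset.card_pos.1 (by omega : 0 < S.card)
  obtain ⟨ω, hω, hωn⟩ := exists_nonfix K
  have htr : ω + τ ω = 1 := by
    have h0 : ω + τ ω ≠ 0 := fun h => hωn (by linear_combination h - ω * h2)
    have := nm_two K hq h0
    rw [K.fix_add_tau] at this
    rcases mul_self_eq_one_iff.1 this with h | h
    · exact h
    · linear_combination h - h2
  let d : Fin n → F := fun l => if l = i then ω else if l ∈ S then τ ω else 1
  have hd : ∀ l, d l * τ (d l) = 1 := fun l => by
    simp only [d]; split_ifs <;> simp [hω, K.invol, mul_comm (τ ω)]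
  have hvd : UFull τ q N (scal d v) := by
    have := UFull.map_normal K (hfull v hv) (g := ph d hd) (ph_mem_GU K) (hD d hd)
    rwa [ph_mulVec K] at this
  have hne : hh v (scal d v) = 1 := by
    have e : hh v (scal d v) = ∑ l ∈ S, (τ (d l) - 1) := by
      have e1 : hh v (scal d v) - hh v v = ∑ l, v l * τ (v l) * (τ (d l) - 1) := by
        rw [K.hh_eq, K.hh_eq, ← Finset.sum_sub_distrib]
        exact Finset.sum_congr rfl fun l _ => by simp only [scal, map_mul]; ring
      rw [hvv, sub_zero] at e1
      rw [e1, ← Finset.sum_subset (Finset.subset_univ S) fun l _ hl => ?_]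
      · exact Finset.sum_congr rfl fun l hl => by rw [nm_two K hq (mem_supp.1 (hS hl)), one_mul]
      · simp [d, hl, show l ≠ i from fun h => hl (h ▸ hi)]
    rw [e, ← Finset.add_sum_erase _ _ hi,
      Finset.sum_congr rfl fun l hl => show τ (d l) - 1 = ω - 1 by
        simp [d, Finset.ne_of_mem_erase hl, Finset.mem_of_mem_erase hl, K.invol],
      Finset.sum_const, Finset.card_erase_of_mem hi, hS4]
    simp [d]
    linear_combination htr + (ω - 3 + 1 - 0) * h2 - (0 : F) * hω
  have hmove := UFull.step K hO.le (hfull v hv) hvd (k := 1) (by rw [map_one]; linear_combination h2)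
  rw [hne, one_mul, one_smul] at hmove
  have hsupp : supp (v + scal d v) = S := by
    ext l
    rw [mem_supp, Pi.add_apply, scal]
    by_cases hl : l ∈ S
    · have h0 := mem_supp.1 (hS hl)
      have hd1 : d l ≠ -1 := by
        intro h
        simp only [d, hl, if_true] at h
        split_ifs at h
        · exact hωn (by rw [h, map_neg, map_one])
        · exact hωn (by rw [← K.invol ω, h, map_neg, map_one, map_neg, map_one])
      refine iff_of_true (fun h => hd1 ?_) hl
      have : v l * (1 + d l) = 0 := by linear_combination h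
      linear_combination (mul_eq_zero.1 this).resolve_left h0
    · refine iff_of_false (not_not.2 ?_) hl
      simp [d, hl, show l ≠ i from fun h => hl (h ▸ hi)]
      linear_combination v l * h2
  refine suGL_le_of_pairs K hO.le (hO.hasDiag K) (by omega) (fun w hw hc => ?_)
    fun _ => ⟨_, by rw [hsupp, hS4], hmove⟩
  rcases Nat.eq_zero_or_pos (supp w).card with h0 | h0
  · have : w = 0 := funext fun l => notMem_supp.1 (by rw [Finset.card_eq_zero.1 h0]; simp)
    rw [this]; exact full_zero K
  have hw2 : (supp w).card = 2 := by obtain ⟨r, hr⟩ := (iso_iff_even K hq w).1 hw; omega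
  obtain ⟨p, p', hpp, hsw⟩ := Finset.card_eq_two.1 hw2
  refine hfull w (root_HK K hn hO h2 hpp (nm_two K hq (mem_supp.1 (by rw [hsw]; simp)))
    (nm_two K hq (mem_supp.1 (by rw [hsw]; simp))) fun l h1 h3 => notMem_supp.1 (by rw [hsw]; simp [h1, h3])).2

/-- A subgroup strictly over the monomial one is everything. -/
theorem suGL_le_of_over (hO : Over q M) (hbig : 10 ≤ n ∨ (n = 6 ∧ 3 ≤ q)) (hNm : ∃ x ∈ M, ¬ IsMono x) :
    suGL n F q ≤ M := by
  have hfx : Fixer M := by
    rcases hbig with h10 | ⟨h6, hq⟩
    swap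
    · exact fixer_six K h6 hq hO hNm
    by_cases h2 : (2 : F) = 0
    · exact fixer_even K hn hO h2 h10 hNm
    · refine fixer_odd K h10 hO ?_ h2 hNm
      have := K.two_le_q
      by_contra h
      exact h2 (two_eq_zero K (by omega))
  obtain ⟨N, hNM, hON, hNm', hD⟩ := exists_normalised K hn hO hfx
  refine le_trans ?_ hNM
  rcases Nat.lt_or_ge q 3 with h | h
  · exact suGL_le_two K hn (by have := K.two_le_q; omega) hON hD hNm'
  · exact suGL_le_of_normalised K hn hON hD h hNm'

end CfsgLib.UnMono
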