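import Mathlib
import Cfsg.Agent.Lib.UnMono.Mono
import Cfsg.Agent.Lib.Maximal.DecompFrame

/-!
The stabiliser of a partition of an orthonormal basis into blocks of size at least two.
-/

set_option autoImplicit false
set_option linter.unusedSectionVars false

open scoped Classical

namespace CfsgLib.UnMono

open scoped Matrix
open CfsgLib.Maximal

variable {n q t k : ℕ} {F : Type*} [Field F] [Fintype F] {τ : F ≃+* F}
  {M : Subgroup (Matrix.GeneralLinearGroup (Fin n) F)}

local notation "hh" => Cfsg.hermForm n F q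
local notation "MM" => Matrix (Fin n) (Fin n) F

/-- The block of a coordinate. -/
abbrev blk (ee : Fin n ≃ Fin t × Fin k) (i : Fin n) : Fin t := (ee i).1

/-- `M` lies in `SU` and contains its elements permuting the blocks. -/
structure OverB (q : ℕ) (ee : Fin n ≃ Fin t × Fin k)
    (M : Subgroup (Matrix.GeneralLinearGroup (Fin n) F)) : Prop where
  le : M ≤ suGL n F q
  block : ∀ g ∈ suGL n F q, IsBlock (blk ee) g → g ∈ M

variable (K : Ctx n q τ)
include K

variable {ee : Fin n ≃ Fin t × Fin k}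

omit K in
lemma isBlock_mono (σt : Equiv.Perm (Fin t)) {π : Equiv.Perm (Fin n)}
    (h : ∀ i, blk ee (π i) = σt (blk ee i)) (d : Fin n → Fˣ) : IsBlock (blk ee) (monoGL π d) := by
  refine ⟨σt, fun y x hyx => ?_⟩
  rw [monoGL_val] at hyx
  have hy : y = π x := by by_contra hne; exact hyx (by simp [monoMat, hne])
  rw [hy, h]

lemma OverB.hasDiag (hO : OverB q ee M) : HasDiag M τ := fun d hd hp =>
  hO.block _ (mono_mem_su K 1 d hd (by simpa using hp)) (isBlock_mono 1 (fun i => rfl) d)

/-- Isotropic vectors inside one block are full. -/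
lemma full_in_block (hO : OverB q ee M) {A : Fin t} {v : Fin n → F} (hv : hh v v = 0)
    (hA : ∀ i, blk ee i ≠ A → v i = 0) : UFull τ q M v := by
  intro c hc
  refine ⟨un_tv_dot K.form hv c, hO.block _ (utv_mem_su K.form hv hc) ⟨1, fun y x hyx => ?_⟩⟩
  rw [tv_col K hv] at hyx
  by_contra hne
  have hne' : blk ee y ≠ blk ee x := hne
  have hyx' : y ≠ x := fun h => hne' (by rw [h])
  rw [Pi.single_eq_of_ne hyx', zero_add] at hyx
  have h1 : blk ee y = A := by by_contra h; exact hyx (by rw [hA y h, mul_zero])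
  have h2 : blk ee x = A := by by_contra h; exact hyx (by rw [hA x h, map_zero, zero_mul, zero_mul])
  exact hne' (h1.trans h2.symm)

omit K in
/-- A block permutation moving a pair of coordinates to another pair in different blocks. -/
lemma exists_block_perm {a b a' b' : Fin n} (h : blk ee a ≠ blk ee b) (h' : blk ee a' ≠ blk ee b') :
    ∃ (π : Equiv.Perm (Fin n)) (σt : Equiv.Perm (Fin t)), (∀ i, blk ee (π i) = σt (blk ee i)) ∧
      π a = a' ∧ π b = b' := by
  let σ₁ := Equiv.swap (blk ee a) (blk ee a')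
  let σt := Equiv.swap (σ₁ (blk ee b)) (blk ee b') * σ₁
  have hb1 : σ₁ (blk ee b) ≠ blk ee a' := fun e =>
    h (σ₁.injective (by rw [e, Equiv.swap_apply_left]))
  have hsa : σt (blk ee a) = blk ee a' := by
    rw [Equiv.Perm.mul_apply, Equiv.swap_apply_left, Equiv.swap_apply_of_ne_of_ne hb1.symm h']
  have hsb : σt (blk ee b) = blk ee b' := by
    rw [Equiv.Perm.mul_apply, Equiv.swap_apply_left]
  let f : Fin t → Equiv.Perm (Fin k) := fun i =>
    if i = blk ee a then Equiv.swap (ee a).2 (ee a').2 else Equiv.swap (ee b).2 (ee b').2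
  refine ⟨ee.trans ((Equiv.prodShear σt f).trans ee.symm), σt, fun i => by simp [blk, Equiv.prodShear], ?_, ?_⟩
  · simp only [Equiv.trans_apply, Equiv.symm_apply_eq]
    refine Prod.ext hsa ?_
    simp [Equiv.prodShear, f, blk]
  · simp only [Equiv.trans_apply, Equiv.symm_apply_eq]
    refine Prod.ext hsb ?_
    simp [Equiv.prodShear, f, blk, Ne.symm h]

/-- A monomial block element for a block permutation. -/
lemma exists_block_elt (hn : 3 ≤ n) (hO : OverB q ee M) (π : Equiv.Perm (Fin n)) (σt : Equiv.Perm (Fin t))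
    (h : ∀ i, blk ee (π i) = σt (blk ee i)) :
    ∃ (m : Matrix.GeneralLinearGroup (Fin n) F) (e : Fin n → F), m ∈ M ∧ (∀ i, e i ≠ 0) ∧
      ∀ v i, ((m : MM) *ᵥ v) (π i) = e i * v i := by
  let s : Fˣ := Units.map (Int.castRingHom F).toMonoidHom (Equiv.Perm.sign π)
  have hs : (s : F) = ((Equiv.Perm.sign π : ℤ) : F) := rfl
  have hs' : (s : F) = 1 ∨ (s : F) = -1 := by
    rcases Int.units_eq_one_or (Equiv.Perm.sign π) with h | h <;> rw [hs, h] <;> simp
  let c : Fin n := ⟨0, by omega⟩
  let d : Fin n → Fˣ := fun i => if i = c then s else 1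
  have hd : ∀ i, (d i : F) * τ (d i) = 1 := fun i => by
    simp only [d]; split_ifs
    · rcases hs' with h | h <;> simp [h]
    · simp
  refine ⟨monoGL π d, fun i => (d i : F), hO.block _ (mono_mem_su K π d hd ?_) (isBlock_mono σt h d),
    fun i => Units.ne_zero _, fun v i => by rw [monoGL_val, monoMat_mulVec]⟩
  rw [Finset.prod_eq_single c (fun i _ hi => by simp [d, hi]) (by simp)]
  simp only [d, if_true]
  rw [← hs]
  rcases hs' with h | h <;> rw [h] <;> ring

/-- A block component of non-zero norm can be moved to a single coordinate. -/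
lemma transit (hk : 2 ≤ k) (hO : OverB q ee M) {A : Fin t} {x : Fin n → F}
    (hxA : ∀ i, blk ee i ≠ A → x i = 0) {a : Fin n} (ha : blk ee a = A) (hxa : x a ≠ 0)
    (hP : hh x x ≠ 0) :
    ∃ g ∈ M, ∃ α : F, α ≠ 0 ∧ ∀ u : Fin n → F, (∀ i, blk ee i = A → u i = x i) →
      (g : MM) *ᵥ u = fun i => if blk ee i = A then (Pi.single a α : Fin n → F) i else u i := by
  have hτ0 : ∀ {z : F}, z ≠ 0 → τ z ≠ 0 := fun hx h => hx (τ.injective (by rw [h, map_zero]))
  set P := hh x x with hPd
  have hPf : τ P = P := (K.form.herm x x).symm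
  obtain ⟨α₀, hα₀⟩ := K.exists_nm hPf
  have hα₀0 : α₀ ≠ 0 := fun h => hP (by rw [← hα₀, h, zero_mul])
  obtain ⟨T, hT, hT2⟩ := Finset.exists_mem_ne (s := (mu τ).image fun z => x a * τ α₀ * z + τ (x a * τ α₀ * z))
    (by have := card_lin K (mul_ne_zero hxa (hτ0 hα₀0)); have := K.two_le_q; omega) (2 * P)
  obtain ⟨η, hη, rfl⟩ := Finset.mem_image.1 hT
  rw [mem_mu] at hη
  set α := α₀ * τ η
  have hα : α * τ α = P := by
    rw [map_mul, K.invol]; linear_combination α₀ * τ α₀ * hη + hα₀
  set y : Fin n → F := Pi.single a α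
  set z := y - x with hz
  have hxy : hh x y = x a * τ α₀ * η := by rw [K.hh_single_right, map_mul, K.invol]; ring
  have hyy : hh y y = P := by rw [K.hh_single_left]; simp [y, hα]
  have hxz : hh x z = hh x y - P := by
    rw [hz, sub_eq_add_neg, ← neg_one_smul F x, un_add_right K.form, un_smul_right K.form, map_neg, map_one]
    ring
  have hzz : hh z z = 2 * P - (hh x y + τ (hh x y)) := by
    rw [hz, sub_eq_add_neg, ← neg_one_smul F x, K.form.add_left, K.form.smul_left, un_add_right K.form,
      un_add_right K.form, un_smul_right K.form, un_smul_right K.form, hyy, K.form.herm y x, map_neg, map_one]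
    ring
  have hzz0 : hh z z ≠ 0 := by
    rw [hzz, hxy, sub_ne_zero]; exact Ne.symm hT2
  have hxz0 : hh x z ≠ 0 := fun h => hzz0 (by
    rw [hxz, sub_eq_zero] at h; rw [hzz, h, hPf]; ring)
  set ζ := 1 + hh z z / hh x z with hζd
  have hζe : ζ = -τ (hh x z) / hh x z := by
    rw [hζd, eq_div_iff hxz0, add_mul, one_mul, div_mul_cancel₀ _ hxz0, hzz, hxz, map_sub, hPf]; ring
  have hζ : ζ * τ ζ = 1 := by
    rw [hζe, map_div₀, map_neg, K.invol, div_mul_div_comm, neg_mul_neg,
      div_eq_one_iff_eq (mul_ne_zero hxz0 (hτ0 hxz0))]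
    ring
  have hψ : ((hh z z)⁻¹ • fvec hh z) ⬝ᵥ z = 1 := by
    rw [smul_dotProduct, un_dot K.form, smul_eq_mul, inv_mul_cancel₀ hzz0]
  set R := reflGL z ((hh z z)⁻¹ • fvec hh z) (Units.mk0 ζ (K.ne_of_nm hζ)) hψ
  have hR : ∀ w, (R : MM) *ᵥ w = w + ((ζ - 1) * ((hh z z)⁻¹ * hh w z)) • z := fun w => by
    rw [reflGL_mulVec, smul_dotProduct, un_dot K.form, Units.val_mk0, smul_eq_mul]
  have hRU : R ∈ Cfsg.GU n F q := by
    rw [mem_GU_iff]
    intro v w
    rw [hR, hR]
    simp only [K.form.add_left, un_add_right K.form, K.form.smul_left, un_smul_right K.form, map_mul, map_sub,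
      map_one, map_inv₀, show τ (hh z z) = hh z z from (K.form.herm z z).symm, ← K.form.herm z w]
    field_simp
    linear_combination hh v z * hh z w * hζ
  -- compensation inside the block
  obtain ⟨a', ha', haa⟩ : ∃ a', blk ee a' = A ∧ a' ≠ a := by
    obtain ⟨j, hj⟩ := Fintype.exists_ne_of_one_lt_card (by simp; omega : 1 < Fintype.card (Fin k)) (ee a).2
    exact ⟨ee.symm (A, j), by simp [blk], fun h => hj (by rw [← h]; simp)⟩
  let d : Fin n → F := fun i => if i = a' then τ ζ else 1
  have hd : ∀ i, d i * τ (d i) = 1 := fun i => by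
    simp only [d]; split_ifs <;> simp [K.invol, mul_comm (τ ζ), hζ]
  have hzA : ∀ i, blk ee i ≠ A → z i = 0 := fun i hi => by
    have : i ≠ a := fun h => hi (h ▸ ha)
    simp [hz, y, hxA i hi, this]
  refine ⟨ph d hd * R, hO.block _ ⟨(Cfsg.GU n F q).mul_mem (ph_mem_GU K) hRU, (mem_specialLinear_iff _).2 ?_⟩
    ⟨1, fun l c hlc => ?_⟩, α, mul_ne_zero hα₀0 (hτ0 (K.ne_of_nm hη)), fun u hu => ?_⟩
  · rw [Units.val_mul, Matrix.det_mul, ph_det K, reflGL_det, Units.val_mk0,
      Finset.prod_eq_single a' (fun i _ hi => by simp [d, hi]) (by simp)]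
    simp [d, mul_comm (τ ζ), hζ]
  · have e : ((ph d hd * R : Matrix.GeneralLinearGroup (Fin n) F) : MM) l c =
        d l * ((Pi.single c 1 : Fin n → F) + ((ζ - 1) * ((hh z z)⁻¹ * hh (Pi.single c 1) z)) • z) l := by
      have h1 := congrFun (mulVec_e (ph d hd * R) c) l
      rw [Units.val_mul, ← Matrix.mulVec_mulVec, hR, ph_mulVec K] at h1
      exact h1.symm
    rw [e] at hlc
    show blk ee l = blk ee c
    by_contra hne
    have hlc' : l ≠ c := fun h => hne (by rw [h])
    apply hlc
    by_cases hl : blk ee l = A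
    · have : blk ee c ≠ A := fun h => hne (hl.trans h.symm)
      simp [hlc', K.hh_single_left, hzA c this]
    · simp [hlc', hzA l hl]
  have hux : hh u z = hh x z := by
    rw [K.hh_eq, K.hh_eq]
    refine Finset.sum_congr rfl fun i _ => ?_
    by_cases hi : blk ee i = A
    · rw [hu i hi]
    · rw [hzA i hi, map_zero, mul_zero, mul_zero]
  rw [Units.val_mul, ← Matrix.mulVec_mulVec, hR, ph_mulVec K, hux,
    show (ζ - 1) * ((hh z z)⁻¹ * hh x z) = 1 by rw [hζd, add_sub_cancel_left]; field_simp]
  funext i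
  by_cases hi : blk ee i = A
  · simp only [scal, Pi.add_apply, Pi.smul_apply, smul_eq_mul, one_mul, hz, Pi.sub_apply, hu i hi, if_pos hi]
    by_cases h : i = a' <;> simp [d, h, y, haa]
  · have : i ≠ a' := fun h => hi (h ▸ ha')
    simp [scal, d, this, hzA i hi, hi]

variable (hn : 6 ≤ n) (hk : 2 ≤ k) (hO : OverB q ee M)
include hn hk hO

/-- Some block vector is moved into two blocks. -/
lemma exists_spread (hNb : ∃ g ∈ M, ¬ IsBlock (blk ee) g) :
    ∃ (u : Fin n → F) (a b : Fin n), hh u u = 0 ∧ UFull τ q M u ∧ u a ≠ 0 ∧ u b ≠ 0 ∧ blk ee a ≠ blk ee b := by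
  by_contra hcon
  push Not at hcon
  obtain ⟨g, hg, hgb⟩ := hNb
  have hgU := (hO.le hg).1
  apply hgb
  have hne : ∀ c, ∃ i, col g c i ≠ 0 := fun c => by
    obtain ⟨i, hi⟩ := Finset.card_pos.1 (card_supp_col_pos K hgU c)
    exact ⟨i, mem_supp.1 hi⟩
  choose r hr using hne
  let J : Fin n → Fin t := fun c => blk ee (r c)
  -- two columns of one block have the same single block
  have key : ∀ a a', a ≠ a' → blk ee a = blk ee a' →
      ∃ j, ∀ l, (col g a l ≠ 0 ∨ col g a' l ≠ 0) → blk ee l = j := by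
    intro a a' haa hblk
    obtain ⟨ρ₀, hρ₀⟩ := K.exists_nm (c := -1) (by rw [map_neg, map_one])
    obtain ⟨η, hη, hηn⟩ := exists_nonfix K
    set ρ₁ := ρ₀ * η
    have hρ₁ : ρ₁ * τ ρ₁ = -1 := by rw [map_mul]; linear_combination ρ₀ * τ ρ₀ * hη + hρ₀
    have hρ0 : ρ₀ ≠ 0 := fun h => by rw [h, zero_mul] at hρ₀; exact neg_ne_zero.2 one_ne_zero hρ₀.symm
    have hρne : ρ₁ ≠ ρ₀ := fun h => hηn (by
      have h1 : η = 1 := mul_left_cancel₀ hρ0 (by rw [mul_one]; exact h)
      rw [h1, map_one])
    let gv : F → Fin n → F := fun ρ => col g a + ρ • col g a'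
    have hgv : ∀ ρ, ρ * τ ρ = -1 → ∀ l l', gv ρ l ≠ 0 → gv ρ l' ≠ 0 → blk ee l = blk ee l' := by
      intro ρ hρ l l' hl hl'
      let f : Fin n → F := fun i => if i = a then 1 else if i = a' then ρ else 0
      have hoff : ∀ i, i ≠ a → i ≠ a' → f i = 0 := fun i h1 h2 => by simp [f, h1, h2]
      have hff : hh f f = 0 := by
        rw [hh_two K haa hoff]; simp [f, haa.symm, hρ]
      have hfull := (full_in_block K hO (A := blk ee a) hff fun i hi => hoff i (fun h => hi (by rw [h]))
        (fun h => hi (by rw [h, hblk]))).map K.form hO.le hg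
      have e : (g : MM) *ᵥ f = gv ρ := by
        have e1 : f = Pi.single a 1 + ρ • Pi.single a' 1 := by
          funext i
          by_cases h1 : i = a
          · subst h1; simp [f, haa]
          by_cases h2 : i = a'
          · subst h2; simp [f, haa.symm]
          simp [f, h1, h2]
        rw [e1, Matrix.mulVec_add, Matrix.mulVec_smul, mulVec_e, mulVec_e]
      rw [e] at hfull
      by_contra hne'
      exact hne' (hcon _ l l' (by rw [← e, (mem_GU_iff g).1 hgU, hff]) hfull hl hl')
    -- the two images are not orthogonal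
    obtain ⟨l, hl₀, hl₁⟩ : ∃ l, gv ρ₀ l ≠ 0 ∧ gv ρ₁ l ≠ 0 := by
      by_contra hno
      push Not at hno
      have h0 : hh (gv ρ₀) (gv ρ₁) = 0 := by
        rw [K.hh_eq]
        refine Finset.sum_eq_zero fun l _ => ?_
        by_cases h : gv ρ₀ l = 0
        · rw [h, zero_mul]
        · rw [hno l h, map_zero, mul_zero]
      simp only [gv, K.form.add_left, un_add_right K.form, K.form.smul_left, un_smul_right K.form,
        hh_col K hgU, if_true, if_neg haa, if_neg haa.symm, mul_one, mul_zero, add_zero, zero_add] at h0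
      apply hρne
      linear_combination ρ₁ * h0 - ρ₀ * hρ₁
    refine ⟨blk ee l, fun m hm => ?_⟩
    by_contra hne'
    have h0 : gv ρ₀ m = 0 := by_contra fun h => hne' (hgv ρ₀ hρ₀ m l h hl₀)
    have h1 : gv ρ₁ m = 0 := by_contra fun h => hne' (hgv ρ₁ hρ₁ m l h hl₁)
    simp only [gv, Pi.add_apply, Pi.smul_apply, smul_eq_mul] at h0 h1
    have hw : col g a' m = 0 := (mul_eq_zero.1 (show (ρ₁ - ρ₀) * col g a' m = 0 by
      linear_combination h1 - h0)).resolve_left (sub_ne_zero.2 hρne)
    rcases hm with h | h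
    · exact h (by rw [hw] at h0; linear_combination h0)
    · exact h hw
  have hJ : ∀ c c', blk ee c = blk ee c' → ∀ l, col g c l ≠ 0 → blk ee l = J c' := by
    intro c c' hblk l hl
    by_cases hcc : c = c'
    · subst hcc
      obtain ⟨j, hj⟩ := Fintype.exists_ne_of_one_lt_card (by simp; omega : 1 < Fintype.card (Fin k)) (ee c).2
      set c' := ee.symm (blk ee c, j)
      obtain ⟨j', hj'⟩ := key c c' (fun h => hj (by rw [h]; simp [c'])) (by simp [c', blk])
      rw [hj' l (Or.inl hl)]; exact (hj' (r c) (Or.inl (hr c))).symm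
    · obtain ⟨j', hj'⟩ := key c c' hcc hblk
      rw [hj' l (Or.inl hl)]; exact (hj' (r c') (Or.inr (hr c'))).symm
  let rep : Fin t → Fin n := fun i => ee.symm (i, ⟨0, by omega⟩)
  have hrep : ∀ i, blk ee (rep i) = i := fun i => by simp [rep, blk]
  let f : Fin t → Fin t := fun i => J (rep i)
  have hinj : Function.Injective f := by
    intro i i' hii
    by_contra hne'
    let T := (Finset.univ : Finset (Fin n)).filter fun c => blk ee c = i ∨ blk ee c = i'
    let S := (Finset.univ : Finset (Fin n)).filter fun c => blk ee c = f i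
    have hcard : ∀ j, ((Finset.univ : Finset (Fin n)).filter fun c => blk ee c = j).card = k := fun j => by
      rw [← Fintype.card_subtype]
      refine (Fintype.card_congr (?_ : {c // blk ee c = j} ≃ Fin k)).trans (Fintype.card_fin k)
      exact { toFun := fun c => (ee c.1).2
              invFun := fun m => ⟨ee.symm (j, m), by simp [blk]⟩
              left_inv := fun c => Subtype.ext (by
                apply ee.injective; rw [Equiv.apply_symm_apply]; exact Prod.ext c.2.symm rfl)
              right_inv := fun m => by simp }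
    have hT : T.card = 2 * k := by
      simp only [T]
      rw [Finset.filter_or, Finset.card_union_of_disjoint, hcard, hcard]
      · omega
      · exact Finset.disjoint_filter.2 fun c _ h1 h2 => hne' (h1.symm.trans h2)
    have hsub : ∀ c ∈ T, supp (col g c) ⊆ S := by
      intro c hc l hl
      simp only [S, Finset.mem_filter, Finset.mem_univ, true_and]
      rcases (Finset.mem_filter.1 hc).2 with h | h
      · exact hJ c (rep i) (by rw [h, hrep]) l (mem_supp.1 hl)
      · exact (hJ c (rep i') (by rw [h, hrep]) l (mem_supp.1 hl)).trans hii.symm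
    have hli : LinearIndependent F (fun (c : T) (l : S) => (g : MM) l c) := by
      rw [Fintype.linearIndependent_iff]
      intro e he c
      have h0 : (∑ i : T, e i • col g i) = 0 := by
        funext l
        rw [Finset.sum_apply]
        by_cases hl : l ∈ S
        · simpa [col, Finset.sum_apply] using congrFun he ⟨l, hl⟩
        · refine Finset.sum_eq_zero fun i _ => ?_
          rw [Pi.smul_apply, notMem_supp.1 (fun h => hl (hsub i i.2 h)), smul_zero]
      have h1 := congrArg (fun w => hh w (col g c)) h0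
      simp only [un_sum_left K.form, K.form.smul_left, hh_col K hgU, un_zero_left K.form] at h1
      rw [Finset.sum_eq_single c (fun i _ hi => by rw [if_neg fun h => hi (Subtype.ext h), mul_zero]) (by simp),
        if_pos rfl, mul_one] at h1
      exact h1
    have := hli.fintype_card_le_finrank
    rw [Fintype.card_coe, Module.finrank_pi, Fintype.card_coe, hT] at this
    have hS : S.card = k := hcard (f i)
    omega
  exact ⟨Equiv.ofBijective f (Finite.injective_iff_bijective.1 hinj), fun y x hyx =>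
    hJ x (rep (blk ee x)) (hrep _).symm y hyx⟩

/-- A full vector on two coordinates of different blocks. -/
lemma exists_cross (hNb : ∃ g ∈ M, ¬ IsBlock (blk ee) g) :
    ∃ (v : Fin n → F) (a b : Fin n), blk ee a ≠ blk ee b ∧ hh v v = 0 ∧ v a ≠ 0 ∧ v b ≠ 0 ∧
      (∀ i, i ≠ a → i ≠ b → v i = 0) ∧ UFull τ q M v := by
  obtain ⟨u, a, b, huu, hu, ha, hb, hab⟩ := exists_spread K hn hk hO hNb
  -- it suffices to find a zero coordinate
  suffices hz : ∃ (w : Fin n → F) (a b c : Fin n), hh w w = 0 ∧ UFull τ q M w ∧ w a ≠ 0 ∧ w b ≠ 0 ∧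
      blk ee a ≠ blk ee b ∧ w c = 0 by
    obtain ⟨w, a, b, c, hww, hw, ha, hb, hab, hc⟩ := hz
    have hne : a ≠ b := fun h => hab (by rw [h])
    obtain ⟨v, hvv, hva, hvb, hoff, hv⟩ := shrink K hO.le hw hww hne ha hb fun d hd _ =>
      full_scal K hO.le (hO.hasDiag K) hw hd hc
    exact ⟨v, a, b, hab, hvv, hva, hvb, hoff, hv⟩
  -- a component of non-zero norm gives one
  have hmain : ∀ (w : Fin n → F) (a b : Fin n), hh w w = 0 → UFull τ q M w → w b ≠ 0 → blk ee a ≠ blk ee b →
      hh (fun i => if blk ee i = blk ee a then w i else 0) (fun i => if blk ee i = blk ee a then w i else 0) ≠ 0 →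
      ∃ (w : Fin n → F) (a b c : Fin n), hh w w = 0 ∧ UFull τ q M w ∧ w a ≠ 0 ∧ w b ≠ 0 ∧
        blk ee a ≠ blk ee b ∧ w c = 0 := by
    intro w a b hww hw hb hab hP
    obtain ⟨a₁, ha₁⟩ : ∃ a₁, (if blk ee a₁ = blk ee a then w a₁ else 0) ≠ 0 := by
      by_contra h; push Not at h
      exact hP (by rw [K.hh_eq]; exact Finset.sum_eq_zero fun i _ => by rw [h i, zero_mul])
    by_cases hblk : blk ee a₁ = blk ee a
    swap
    · exact absurd (if_neg hblk) ha₁
    obtain ⟨g, hg, α, hα, hgu⟩ := transit K hk hO (A := blk ee a)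
      (x := fun i => if blk ee i = blk ee a then w i else 0) (fun i hi => if_neg hi) hblk ha₁ hP
    have hgw := hgu w fun i hi => by rw [if_pos hi]
    obtain ⟨j, hj⟩ := Fintype.exists_ne_of_one_lt_card (by simp; omega : 1 < Fintype.card (Fin k)) (ee a₁).2
    refine ⟨(g : MM) *ᵥ w, a₁, b, ee.symm (blk ee a, j), by rw [(mem_GU_iff g).1 (hO.le hg).1, hww],
      hw.map K.form hO.le hg, ?_, ?_, fun h => hab (hblk.symm.trans h), ?_⟩ <;> rw [hgw]
    · simpa [hblk] using hα
    · simpa [hab.symm] using hb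
    · have h1 : ee.symm (blk ee a, j) ≠ a₁ := fun h => hj (by rw [← h]; simp)
      simp [blk] at h1 ⊢
      simp [h1]
  by_cases hzero : ∃ c, u c = 0
  · obtain ⟨c, hc⟩ := hzero; exact ⟨u, a, b, c, huu, hu, ha, hb, hab, hc⟩
  by_cases hA : hh (fun i => if blk ee i = blk ee a then u i else 0) (fun i => if blk ee i = blk ee a then u i else 0) ≠ 0
  · exact hmain u a b huu hu hb hab hA
  rw [not_not] at hA
  by_cases hB : hh (fun i => if blk ee i = blk ee b then u i else 0) (fun i => if blk ee i = blk ee b then u i else 0) ≠ 0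
  · exact hmain u b a huu hu ha (Ne.symm hab) hB
  rw [not_not] at hB
  -- all components considered are isotropic: move by a phase change
  obtain ⟨ζ, hζ, hζn⟩ := exists_nonfix K
  have hτ0 : ∀ {z : F}, z ≠ 0 → τ z ≠ 0 := fun hx h => hx (τ.injective (by rw [h, map_zero]))
  obtain ⟨c₀, hc₀, hc₀0⟩ := un_skew_exists K.form |> fun ⟨c, h1, h2⟩ => (⟨c, h2, h1⟩ : ∃ c, τ c = -c ∧ c ≠ 0)
  have hne : a ≠ b := fun h => hab (by rw [h])
  let d : Fin n → F := fun i => if i = a then ζ else if i = b then τ ζ else 1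
  have hd : ∀ i, d i * τ (d i) = 1 := fun i => by
    simp only [d]; split_ifs <;> simp [hζ, K.invol, mul_comm (τ ζ)]
  have hdu : UFull τ q M (scal d u) := by
    have := hu.map K.form hO.le (hO.hasDiag K (fun i => Units.mk0 (d i) (K.ne_of_nm (hd i))) (fun i => hd i)
      (by
        show ∏ i, d i = 1
        rw [Finset.prod_eq_mul a b hne (fun i _ hi => by simp [d, hi.1, hi.2]) (by simp) (by simp)]
        simp [d, hne.symm, hζ]))
    rwa [dg_mulVec] at this
  set X := u a * τ (u a) with hX
  set Y := u b * τ (u b) with hY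
  have hX0 : X ≠ 0 := mul_ne_zero ha (hτ0 ha)
  have hY0 : Y ≠ 0 := mul_ne_zero hb (hτ0 hb)
  set h := hh u (scal d u) with hh_def
  have hval : h = (τ ζ - 1) * X + (ζ - 1) * Y := by
    have e : scal d u = u + fun i => (d i - 1) * u i := funext fun i => by simp [scal]; ring
    rw [hh_def, e, un_add_right K.form, huu, zero_add,
      K.hh_eq, Finset.sum_eq_add a b hne (fun i _ hi => by simp [d, hi.1, hi.2]) (by simp) (by simp)]
    simp [d, hne.symm, hX, hY, K.invol]
    ring
  set s := c₀ * h with hs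
  set w := u + s • scal d u with hw_def
  have hw : UFull τ q M w := UFull.step K hO.le hu hdu hc₀
  have hww : hh w w = 0 := by
    have h1 := un_tv_isometry K.form (by rw [hh_scal K hd, huu] : hh (scal d u) (scal d u) = 0) hc₀ u u
    rwa [tv_mulVec, un_dot K.form, smul_smul, mul_comm, huu] at h1
  have hwi : ∀ i, w i = (1 + s * d i) * u i := fun i => by
    simp [hw_def, scal]; ring
  have hdda : d a = ζ := if_pos rfl
  have hddb : d b = τ ζ := by simp [d, hne.symm]
  have hT : ζ + τ ζ - 2 ≠ 0 := fun h => hζn (by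
    rw [eq_one_of_tr_two K hζ (sub_eq_zero.1 h), map_one])
  have hζτ : ζ - τ ζ ≠ 0 := sub_ne_zero.2 (Ne.symm hζn)
  -- the two components change their norms
  have hnorm : ∀ (p p' : Fin n) (z : F), blk ee p ≠ blk ee p' → d p = z → z * τ z = 1 →
      (∀ i, i ≠ p → i ≠ p' → d i = 1) →
      hh (fun i => if blk ee i = blk ee p then u i else 0) (fun i => if blk ee i = blk ee p then u i else 0) = 0 →
      hh (fun i => if blk ee i = blk ee p then w i else 0) (fun i => if blk ee i = blk ee p then w i else 0) =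
        u p * τ (u p) * (s * (z - 1) + τ (s * (z - 1))) := by
    intro p p' z hpp hdp hz hoff h0
    rw [K.hh_eq] at h0 ⊢
    have e : ∀ i, (if blk ee i = blk ee p then w i else 0) * τ (if blk ee i = blk ee p then w i else 0) -
        (1 + s) * τ (1 + s) * ((if blk ee i = blk ee p then u i else 0) * τ (if blk ee i = blk ee p then u i else 0)) =
        if i = p then u p * τ (u p) * (s * (z - 1) + τ (s * (z - 1))) else 0 := by
      intro i
      by_cases hip : i = p
      · subst hip
        rw [if_pos rfl, if_pos rfl, if_pos rfl, hwi, hdp]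
        simp only [map_mul, map_add, map_sub, map_one]
        linear_combination (u i * τ (u i) * s * τ s) * hz
      rw [if_neg hip]
      by_cases hib : blk ee i = blk ee p
      · rw [if_pos hib, if_pos hib, hwi, hoff i hip (fun h => hpp (by rw [← hib, h])), mul_one, map_mul]
        ring
      · simp [if_neg hib]
    have e1 := Finset.sum_congr rfl fun i (_ : i ∈ Finset.univ) => e i
    rw [Finset.sum_sub_distrib, ← Finset.mul_sum, h0, mul_zero, sub_zero, Finset.sum_ite_eq' Finset.univ p,
      if_pos (Finset.mem_univ p)] at e1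
    exact e1
  have hhτ : τ h = (ζ - 1) * X + (τ ζ - 1) * Y := by
    simp only [hval, map_add, map_mul, map_sub, map_one, K.invol, hX, hY]
    ring
  have hwA : hh (fun i => if blk ee i = blk ee a then w i else 0) (fun i => if blk ee i = blk ee a then w i else 0) ≠ 0 := by
    rw [hnorm a b ζ hab hdda hζ (fun i h1 h2 => by simp [d, h1, h2]) hA, ← hX]
    refine mul_ne_zero hX0 ?_
    have e : s * (ζ - 1) + τ (s * (ζ - 1)) = c₀ * Y * (ζ - τ ζ) * (ζ + τ ζ - 2) := by
      rw [hs, map_mul, map_mul, hc₀, hhτ, hval, map_sub, map_one]; ring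
    rw [e]
    exact mul_ne_zero (mul_ne_zero (mul_ne_zero hc₀0 hY0) hζτ) hT
  have hwB : hh (fun i => if blk ee i = blk ee b then w i else 0) (fun i => if blk ee i = blk ee b then w i else 0) ≠ 0 := by
    rw [hnorm b a (τ ζ) hab.symm hddb (K.nm_tau hζ) (fun i h1 h2 => by simp [d, h1, h2]) hB, ← hY]
    refine mul_ne_zero hY0 ?_
    have e : s * (τ ζ - 1) + τ (s * (τ ζ - 1)) = -(c₀ * X * (ζ - τ ζ) * (ζ + τ ζ - 2)) := by
      rw [hs, map_mul, map_mul, hc₀, hhτ, hval, map_sub, map_one, K.invol]; ring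
    rw [e]
    exact neg_ne_zero.2 (mul_ne_zero (mul_ne_zero (mul_ne_zero hc₀0 hX0) hζτ) hT)
  obtain ⟨b₁, hb₁, hb₁b⟩ : ∃ b₁, w b₁ ≠ 0 ∧ blk ee b₁ = blk ee b := by
    by_contra hcon
    push Not at hcon
    exact hwB (by
      rw [K.hh_eq]
      refine Finset.sum_eq_zero fun i _ => ?_
      by_cases hi : blk ee i = blk ee b
      · rw [if_pos hi, not_not.1 fun h => hcon i h hi, zero_mul]
      · rw [if_neg hi, zero_mul])
  exact hmain w a b₁ hww hw hb₁ (by rw [hb₁b]; exact hab) hwA

/-- A subgroup strictly over the block stabiliser is everything. -/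
theorem suGL_le_of_overB (hex : ¬ (k = 2 ∧ q = 2)) (hNb : ∃ g ∈ M, ¬ IsBlock (blk ee) g) :
    suGL n F q ≤ M := by
  obtain ⟨v, a, b, hab, hvv, hva, hvb, hoff, hv⟩ := exists_cross K hn hk hO hNb
  have hne : a ≠ b := fun h => hab (by rw [h])
  have hP : ∀ w : Fin n → F, hh w w = 0 → (supp w).card ≤ 2 → UFull τ q M w := by
    intro w hww hcard
    obtain ⟨p, p', hpp, hsub⟩ : ∃ p p' : Fin n, p ≠ p' ∧ supp w ⊆ {p, p'} := by
      obtain ⟨T, hT1, hT2⟩ := Finset.exists_superset_card_eq (s := supp w) (n := 2) hcard (by simp; omega)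
      obtain ⟨p, p', hpp, rfl⟩ := Finset.card_eq_two.1 hT2
      exact ⟨p, p', hpp, hT1⟩
    have hwoff : ∀ i, i ≠ p → i ≠ p' → w i = 0 := fun i h1 h2 => by
      by_contra h; have := hsub (mem_supp.2 h); simp [h1, h2] at this
    by_cases hblk : blk ee p = blk ee p'
    · exact full_in_block K hO (A := blk ee p) hww fun i hi =>
        hwoff i (fun h => hi (by rw [h])) (fun h => hi (by rw [h, hblk]))
    obtain ⟨π, σt, hπ, hπa, hπb⟩ := exists_block_perm hab hblk
    obtain ⟨m, e, hm, he, hmv⟩ := exists_block_elt K (by omega) hO π σt hπ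
    refine pair_all K hO.le (hO.hasDiag K) (by omega) hpp (v := (m : MM) *ᵥ v)
      (by rw [(mem_GU_iff m).1 (hO.le hm).1, hvv]) ?_ ?_ (fun i h1 h2 => ?_) (hv.map K.form hO.le hm) hww hwoff
    · rw [← hπa, hmv]; exact mul_ne_zero (he a) hva
    · rw [← hπb, hmv]; exact mul_ne_zero (he b) hvb
    · obtain ⟨j, rfl⟩ := π.surjective i
      rw [hmv, hoff j (fun h => h1 (by rw [h, hπa])) (fun h => h2 (by rw [h, hπb])), mul_zero]
  refine suGL_le_of_pairs K hO.le (hO.hasDiag K) (by omega) hP fun hq => ?_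
  have hk3 : 3 ≤ k := by
    by_contra h
    exact hex ⟨by omega, hq⟩
  set A := blk ee a
  let S : Finset (Fin n) := (Finset.univ : Finset (Fin 3)).image fun j => ee.symm (A, Fin.castLE hk3 j)
  have hS : S.card = 3 := by
    rw [Finset.card_image_of_injective _ fun i j h => by simpa using h]; simp
  have hSA : ∀ i ∈ S, blk ee i = A := fun i hi => by
    obtain ⟨j, -, rfl⟩ := Finset.mem_image.1 hi; simp [blk]
  let x : Fin n → F := fun i => if i ∈ S then 1 else 0
  have hsx : supp x = S := by ext i; simp [mem_supp, x]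
  have hxx : hh x x ≠ 0 := by
    rw [hh_self_two K hq, hsx, hS]
    intro h; exact one_ne_zero (by linear_combination h - two_eq_zero K hq : (1 : F) = 0)
  obtain ⟨a₁, ha₁⟩ := Finset.card_pos.1 (by omega : 0 < S.card)
  have hbS : b ∉ S := fun h => hab (hSA b h).symm
  obtain ⟨g, hg, α, hα, hgu⟩ := transit K hk hO (A := A) (x := x)
    (fun i hi => if_neg fun h => hi (hSA i h)) (hSA a₁ ha₁) (by simp [x, ha₁]) hxx
  let v4 : Fin n → F := fun i => if i = b then 1 else x i
  have hs4 : supp v4 = insert b S := by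
    ext i; by_cases h : i = b <;> simp [mem_supp, v4, x, h]
  have hc4 : (supp v4).card = 4 := by rw [hs4, Finset.card_insert_of_notMem hbS, hS]
  refine ⟨v4, hc4, ?_⟩
  have hgv := hgu v4 fun i hi => if_neg fun (h : i = b) => hab (by rw [← h]; exact hi.symm)
  set w := (g : MM) *ᵥ v4 with hw
  have hww : hh w w = 0 := by
    rw [hw, (mem_GU_iff g).1 (hO.le hg).1, iso_iff_even K hq, hc4]; decide
  have hwc : (supp w).card ≤ 2 := le_trans (Finset.card_le_card (t := {a₁, b}) fun i hi => by
    rw [mem_supp, hgv] at hi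
    simp only [Finset.mem_insert, Finset.mem_singleton]
    by_contra hcon
    rw [not_or] at hcon
    refine hi ?_
    by_cases hiA : blk ee i = A
    · simp [hiA, hcon.1]
    · simp only [hiA, if_false, v4, if_neg hcon.2, x]
      exact if_neg fun h => hiA (hSA i h)) Finset.card_le_two
  have := (hP w hww hwc).map K.form hO.le (inv_mem hg)
  rwa [hw, Matrix.mulVec_mulVec, ← Units.val_mul, inv_mul_cancel, Units.val_one, Matrix.one_mulVec] at this

end CfsgLib.UnMono
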